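import Cfsg.Agent.Mrg.Omega.FrameI
import Cfsg.Agent.ZN.Defs
import Cfsg.Agent.LargeExtra.Base
import Cfsg.Agent.LargeExtra.Tri.Irred
import Cfsg.Agent.Omega.EH3.Of


/-!
# `Extra z n` and `Irr z` in the language of `Large` (helper888)

* `large` : `Extra z n` in a group of characteristic 2 type gives `Large (o2 (centralizer {z})) z`;
* `card_o2` : `|o2 (centralizer {z})| = 2^(2n+1)`;
* `irrC` : `Irr z` gives `EH3.IrrC`;
* `exists_pair` : `z^g ∈ o2 (centralizer {z})`, `z^g ≠ z` gives a pair.
-/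

set_option autoImplicit false

namespace Cfsg.Agent.Omega.Node.LargeOf

open Subgroup Cfsg Cfsg.Agent.ZN Cfsg.Agent.Omega.Exits Cfsg.Agent.Omega.EH3
open Cfsg.Agent.Co2Type.Quad Cfsg.Agent.LargeExtra.Base

universe u

variable {G : Type u} [Group G] [Finite G]

theorem large (h2 : IsCharacteristicTwoType G) {z : G} {n : ℕ} (h : Extra z n) :
    Large (o2 (centralizer ({z} : Set G))) z := by
  have h1 := large_of_genFitting z h.ord (h.hE h2)
  rw [genFitting_centralizer h2 h.ord] at h1
  exact h1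

theorem card_o2 {z : G} {n : ℕ} (h : Extra z n) :
    Nat.card (o2 (centralizer ({z} : Set G))) = 2 ^ (2 * n + 1) := by
  rw [← h.card]
  exact Subgroup.card_map_of_injective (centralizer ({z} : Set G)).subtype_injective

theorem irrC {z : G} (h : Large (o2 (centralizer ({z} : Set G))) z) (hI : Exits.Irr z) : IrrC h :=
  fun R hR => Cfsg.Agent.LargeExtra.Tri.Irred.eq_bot_or_top h hI R hR

/-- the pair -/
theorem exists_pair {z : G} (h : Large (o2 (centralizer ({z} : Set G))) z) {g : G}
    (h1 : g * z * g⁻¹ ∈ o2 (centralizer ({z} : Set G))) (h2 : g * z * g⁻¹ ≠ z) :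
    Pair (o2 (centralizer ({z} : Set G))) z
      ((o2 (centralizer ({z} : Set G))).map (MulAut.conj g).toMonoidHom) (g * z * g⁻¹) :=
  pair_of_conj h h1 h2

end Cfsg.Agent.Omega.Node.LargeOf
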