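import Cfsg.Agent.Mrg.Omega.Exit.WeakClosed
import Cfsg.Agent.Mrg.Omega.NO3S.ThmB.Main
import Cfsg.Agent.Mrg.Omega.NOThreeL.Merge
import Cfsg.Agent.MinSimple.Geo


/-!
# The leaf NO-3S, sockets with levels (assembler: helper172)

`V^! = V^!(S)` (`VB S`, helper781), `P**` = the members `P` of `P*(S)` with `⟨P, C_G(Z)⟩` nonlocal.  The FF-lines are
treated at every level (`HypL`, `NO3S/HypL.lean`), the natural lines over the `(R, B)`-frame (`FrB`, helper973); the
ends over this frame use only `HypF` (no stage) and, for `n ≥ 2`, `FullK V_P R` (`N_R = R` and `K_R` is full), which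
is supplied by `FullB` (`q ≥ 4`, with the stage) and `FullTwo` (`q = 2`).

```
NodeNO3S
├── Two             some P in P** has |V_P| = 4      (Node/NO3S.lean)
│   ├── FullTwo     n ≥ 2: `FullK`      ├── TwoFarF, TwoMidF   n ≥ 3, n = 2, given `FullK`      └── TwoOne
├── some P in P** has V_P ≰ V^!  (`HypL S P`, stage of P minimal)
│   ├── V_P natural SL₂(q), q ≥ 4: RedL (the frame (R, B)), FOneB ((F1)), WB (n ≥ 2: `FullK`), FarBF (n ≥ 3),
│   │   MidBF (n = 2), OneB (n = 1)
│   ├── MultiTwoL (k ≥ 2 naturals, q = 2), MultiQL (q ≥ 4)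
│   └── SymTwoL (k = 1, m = 2), SymBigL (k = 1, m ≥ 3), SymManyL (k ≥ 2)
└── V_P ≤ V^! for all P in P**
    ├── NotFFG      some P in P** has V_P not FF     (common with NO-3L: `NOThreeL/Merge.lean`)
    └── GammaFF     V_P is FF for all P in P**
```

`InL K` collects them; `InL.node`, `InL.toIn : InL K → In K`.
-/

set_option autoImplicit false

namespace Cfsg.Agent.Omega.NO3S

open Subgroup Cfsg Cfsg.Agent.ZN Cfsg.Agent.Omega.MinPar Cfsg.Agent.Omega.Frame Cfsg.Agent.Omega.FrameNOFF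
open Cfsg.Agent.Omega.FrameFF (NatOver cv Single Free)
open Cfsg.Agent.Omega.FFThm (NatKM SymKM)
open Cfsg.Agent.Omega.NoFF.Lines
open Cfsg.Agent.Omega.NO3S.Level

universe u

section sockets

variable (K : Cls.{u})

/-- **Red, `q ≥ 4`**: `V_P` natural for `SL₂(q)`: there is the `(R, B)`-frame. Paper: helper163 #15355, 240 #15515,
973 #16714, 781 #16560 (levels), 44 #14528. Lean: helper163, 973, 749, 427. -/
def RedL : Prop :=
  ∀ (G : Type u) [Group G] [Finite G], K G → ∀ (S : Sylow 2 G) (P : Subgroup G), HypL S P →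
    ∀ (F : Type) [Field F] [Finite F] [CharP F 2], 4 ≤ Nat.card F → NatP F (zl (S : Subgroup G) P) P →
      (∃ B R : Subgroup G, FrB F S P B R) ∨ IsKnownSimple' G

/-- `q ≥ 4`, critical distance `n ≥ 3`. Owners: helper263 #15995; Lean: helper471, 238, 241, 712. -/
def FarB : Prop :=
  ∀ (G : Type u) [Group G] [Finite G], K G → ∀ (S : Sylow 2 G) (P : Subgroup G), HypF S P →
    ∀ (F : Type) [Field F] [Finite F] [CharP F 2], 4 ≤ Nat.card F → NatP F (zl (S : Subgroup G) P) P →
      ∀ B R : Subgroup G, FrB F S P B R → ∀ (n : ℕ) (y : G), 3 ≤ n →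
        Crit R (normalizer (R : Set G)) {P} n 1 y → IsKnownSimple' G

/-- `q ≥ 4`, critical distance `n = 2`. Owners: helper426 #15163, #16785, 129 #16032; Lean: helper475, 864, 317. -/
def MidB : Prop :=
  ∀ (G : Type u) [Group G] [Finite G], K G → ∀ (S : Sylow 2 G) (P : Subgroup G), HypF S P →
    ∀ (F : Type) [Field F] [Finite F] [CharP F 2], 4 ≤ Nat.card F → NatP F (zl (S : Subgroup G) P) P →
      ∀ B R : Subgroup G, FrB F S P B R → ∀ y : G,
        Crit R (normalizer (R : Set G)) {P} 2 1 y → IsKnownSimple' G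

/-- `q ≥ 4`, critical distance `n = 1`: `²F₄(q)`. Owners: helper742, 153 #12862, 279; Lean: helper606, 258, 248. -/
def OneB : Prop :=
  ∀ (G : Type u) [Group G] [Finite G], K G → ∀ (S : Sylow 2 G) (P : Subgroup G), HypF S P →
    ∀ (F : Type) [Field F] [Finite F] [CharP F 2], 4 ≤ Nat.card F → NatP F (zl (S : Subgroup G) P) P →
      ∀ B R : Subgroup G, FrB F S P B R → ∀ y : G,
        Crit R (normalizer (R : Set G)) {P} 1 1 y → IsKnownSimple' G

/-- `q = 2`, `n ≥ 2`: `N_z = z` (`W0` is void). `J(S) ≰ O₂(P)`: helper77 #19497, helper734 #19593, helper937 #19454,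
helper24 #19795, helper251 #19410; else: helper315 #19437 ((N1)), helper654 #19749 ((N2)). -/
def FullTwo : Prop :=
  ∀ (G : Type u) [Group G] [Finite G], K G → ∀ (S : Sylow 2 G) (P : Subgroup G), Hyp S P →
    Nat.card (zl (S : Subgroup G) P) = 4 → ∀ (n : ℕ) (y : G), 2 ≤ n → CritP (S : Subgroup G) P n 1 y →
      FullK (zl (S : Subgroup G) P) (zc (S : Subgroup G)) ∨ IsKnownSimple' G

/-- `q = 2`, `n ≥ 3`, `N_z = z`. Paper: helper975 #18157; Lean: helper460, 543, 855, 127. -/
def TwoFarF : Prop :=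
  ∀ (G : Type u) [Group G] [Finite G], K G → ∀ (S : Sylow 2 G) (P : Subgroup G), Hyp S P →
    Nat.card (zl (S : Subgroup G) P) = 4 → FullK (zl (S : Subgroup G) P) (zc (S : Subgroup G)) →
      ∀ (n : ℕ) (y : G), 3 ≤ n → CritP (S : Subgroup G) P n 1 y → IsKnownSimple' G

/-- `q = 2`, `n = 2`, `N_z = z`. Paper: helper338 #19334, helper144 #18799; Lean: helper144, 935, 869. -/
def TwoMidF : Prop :=
  ∀ (G : Type u) [Group G] [Finite G], K G → ∀ (S : Sylow 2 G) (P : Subgroup G), Hyp S P →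
    Nat.card (zl (S : Subgroup G) P) = 4 → FullK (zl (S : Subgroup G) P) (zc (S : Subgroup G)) →
      ∀ y : G, CritP (S : Subgroup G) P 2 1 y → IsKnownSimple' G

/-- `q ≥ 4`, `n ≥ 2`, over the frame: `N_R = R` and `K_R` is full. Stage `-1`: as `FullTwo`; stage `≥ 0`: open. -/
def FullB : Prop :=
  ∀ (G : Type u) [Group G] [Finite G], K G → ∀ (S : Sylow 2 G) (P : Subgroup G), HypL S P →
    ∀ (F : Type) [Field F] [Finite F] [CharP F 2], 4 ≤ Nat.card F → NatP F (zl (S : Subgroup G) P) P →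
      ∀ B R : Subgroup G, FrB F S P B R → ∀ (n : ℕ) (y : G), 2 ≤ n →
        Crit R (normalizer (R : Set G)) {P} n 1 y → FullK (zl (S : Subgroup G) P) R ∨ IsKnownSimple' G

/-- **(F1) over the frame, `q ≥ 4`**: `K_R` moves the points of `V_P`. From `KPS` (helper973, `FarB/Node.lean`); with
(NO) only: helper81 #20387. -/
def FOneB : Prop :=
  ∀ (G : Type u) [Group G] [Finite G], K G → ∀ (S : Sylow 2 G) (P : Subgroup G), HypF S P →
    ∀ (F : Type) [Field F] [Finite F] [CharP F 2], 4 ≤ Nat.card F → NatP F (zl (S : Subgroup G) P) P →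
      ∀ B R : Subgroup G, FrB F S P B R → ∀ (n : ℕ) (y : G), 1 ≤ n → Crit R (normalizer (R : Set G)) {P} n 1 y →
        ¬ PT.kx (zl (S : Subgroup G) P) R ≤ centralizer (zl (S : Subgroup G) P : Set G) ∨ IsKnownSimple' G

/-- `FullTwo`, given (F1). -/
def WTwo : Prop :=
  ∀ (G : Type u) [Group G] [Finite G], K G → ∀ (S : Sylow 2 G) (P : Subgroup G), Hyp S P →
    Nat.card (zl (S : Subgroup G) P) = 4 → ∀ z ∈ zc (S : Subgroup G), z ≠ 1 →
      (∃ k ∈ MinSimple.Geo.kq (zl (S : Subgroup G) P) z, k ∉ centralizer (zl (S : Subgroup G) P : Set G)) →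
        ∀ (n : ℕ) (y : G), 2 ≤ n → CritP (S : Subgroup G) P n 1 y →
          FullK (zl (S : Subgroup G) P) (zc (S : Subgroup G)) ∨ IsKnownSimple' G

/-- `FullB`, given (F1). -/
def WB : Prop :=
  ∀ (G : Type u) [Group G] [Finite G], K G → ∀ (S : Sylow 2 G) (P : Subgroup G), HypL S P →
    ∀ (F : Type) [Field F] [Finite F] [CharP F 2], 4 ≤ Nat.card F → NatP F (zl (S : Subgroup G) P) P →
      ∀ B R : Subgroup G, FrB F S P B R →
        ¬ PT.kx (zl (S : Subgroup G) P) R ≤ centralizer (zl (S : Subgroup G) P : Set G) → ∀ (n : ℕ) (y : G), 2 ≤ n →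
          Crit R (normalizer (R : Set G)) {P} n 1 y → FullK (zl (S : Subgroup G) P) R ∨ IsKnownSimple' G

/-- `FarB` with `FullK`. Lean: helper238 (`FarQ/Free`), 241, 543, 404, 961, 49. -/
def FarBF : Prop :=
  ∀ (G : Type u) [Group G] [Finite G], K G → ∀ (S : Sylow 2 G) (P : Subgroup G), HypF S P →
    ∀ (F : Type) [Field F] [Finite F] [CharP F 2], 4 ≤ Nat.card F → NatP F (zl (S : Subgroup G) P) P →
      ∀ B R : Subgroup G, FrB F S P B R → FullK (zl (S : Subgroup G) P) R → ∀ (n : ℕ) (y : G), 3 ≤ n →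
        Crit R (normalizer (R : Set G)) {P} n 1 y → IsKnownSimple' G

/-- `MidB` with `FullK`. Lean: helper475, 491, 49, 129. -/
def MidBF : Prop :=
  ∀ (G : Type u) [Group G] [Finite G], K G → ∀ (S : Sylow 2 G) (P : Subgroup G), HypF S P →
    ∀ (F : Type) [Field F] [Finite F] [CharP F 2], 4 ≤ Nat.card F → NatP F (zl (S : Subgroup G) P) P →
      ∀ B R : Subgroup G, FrB F S P B R → FullK (zl (S : Subgroup G) P) R → ∀ y : G,
        Crit R (normalizer (R : Set G)) {P} 2 1 y → IsKnownSimple' G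

/-- `k ≥ 2` natural `SL₂(2)`-modules. Owners: helper790, 609, 564, 495; Lean: helper750, 990. -/
def MultiTwoL : Prop :=
  ∀ (G : Type u) [Group G] [Finite G], K G → ∀ (S : Sylow 2 G) (P : Subgroup G), HypL S P →
    ∀ (F : Type) [Field F] [Finite F] [CharP F 2] (k : ℕ), 2 ≤ k → Nat.card F = 2 →
      NatKM F (S : Subgroup G) P (zl (S : Subgroup G) P) (cv (S : Subgroup G) P) k → IsKnownSimple' G

/-- `k ≥ 2` natural `SL₂(q)`-modules, `q ≥ 4`. Owners: helper4, 997, 609, 495; Lean: helper388, 87, 938, 590. -/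
def MultiQL : Prop :=
  ∀ (G : Type u) [Group G] [Finite G], K G → ∀ (S : Sylow 2 G) (P : Subgroup G), HypL S P →
    ∀ (F : Type) [Field F] [Finite F] [CharP F 2] (k : ℕ), 2 ≤ k → 4 ≤ Nat.card F →
      NatKM F (S : Subgroup G) P (zl (S : Subgroup G) P) (cv (S : Subgroup G) P) k → IsKnownSimple' G

/-- The even-subset module of `S₅`. Owners: helper215 #14965, 237, 755, 872; Lean: helper404, 237. -/
def SymTwoL : Prop :=
  ∀ (G : Type u) [Group G] [Finite G], K G → ∀ (S : Sylow 2 G) (P : Subgroup G), HypL S P →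
      SymKM (S : Subgroup G) P (zl (S : Subgroup G) P) (cv (S : Subgroup G) P) 1 2 → IsKnownSimple' G

/-- The even-subset module of `S_{2^m+1}`, `m ≥ 3`. Owner: helper62 #15240; Lean: helper363, 581. -/
def SymBigL : Prop :=
  ∀ (G : Type u) [Group G] [Finite G], K G → ∀ (S : Sylow 2 G) (P : Subgroup G), HypL S P →
    ∀ m : ℕ, 3 ≤ m →
      SymKM (S : Subgroup G) P (zl (S : Subgroup G) P) (cv (S : Subgroup G) P) 1 m → IsKnownSimple' G

/-- `k ≥ 2` even-subset modules. Owners: helper977, 755, 215. -/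
def SymManyL : Prop :=
  ∀ (G : Type u) [Group G] [Finite G], K G → ∀ (S : Sylow 2 G) (P : Subgroup G), HypL S P →
    ∀ k m : ℕ, 2 ≤ k → 2 ≤ m →
      SymKM (S : Subgroup G) P (zl (S : Subgroup G) P) (cv (S : Subgroup G) P) k m → IsKnownSimple' G

/-- All `V_P`, `P ∈ P**`, are FF-modules in `V^!(S)`. Owners: helper422, 490, 781, 555, 559. -/
def GammaFF : Prop :=
  ∀ (G : Type u) [Group G] [Finite G], K G → ∀ S : Sylow 2 G, HypC S →
    (∀ P : Subgroup G, PSS (S : Subgroup G) P →
      zl (S : Subgroup G) P ≤ VB (S : Subgroup G) ∧ FFMod (S : Subgroup G) P) → IsKnownSimple' G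

end sockets

/-- **All the inputs of the leaf, with levels.** -/
structure InL (K : Cls.{u}) : Prop where
  two : Two K
  redL : RedL K
  fullB : FullB K
  farBF : FarBF K
  midBF : MidBF K
  oneB : OneB K
  multiTwoL : MultiTwoL K
  multiQL : MultiQL K
  symTwoL : SymTwoL K
  symBigL : SymBigL K
  symManyL : SymManyL K
  notFFG : NOThreeL.Merge.NotFFG K
  gammaFF : GammaFF K

variable {K : Cls.{u}}

/-- Without `FullK`. -/
theorem FarB.toF (h : FarB K) : FarBF K := fun G _ _ hK S P hP F _ _ _ hF M B R hB _ n y hn hy =>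
  h G hK S P hP F hF M B R hB n y hn hy

/-- Without `FullK`. -/
theorem MidB.toF (h : MidB K) : MidBF K := fun G _ _ hK S P hP F _ _ _ hF M B R hB _ y hy =>
  h G hK S P hP F hF M B R hB y hy

theorem fullB_of (h1 : FOneB K) (h2 : WB K) : FullB K := by
  intro G _ _ hK S P h F _ _ _ hF M B R hB n y hn hy
  rcases h1 G hK S P h.toHypF F hF M B R hB n y (by omega) hy with h3 | h3
  · exact h2 G hK S P h F hF M B R hB h3 n y hn hy
  · exact Or.inr h3

theorem twoFar_of (h1 : FullTwo K) (h2 : TwoFarF K) : TwoFar K := by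
  intro G _ _ hK S P h hc n y hn hy
  rcases h1 G hK S P h hc n y (by omega) hy with h3 | h3
  · exact h2 G hK S P h hc h3 n y hn hy
  · exact h3

theorem twoMid_of (h1 : FullTwo K) (h2 : TwoMidF K) : TwoMid K := by
  intro G _ _ hK S P h hc y hy
  rcases h1 G hK S P h hc 2 y le_rfl hy with h3 | h3
  · exact h2 G hK S P h hc h3 y hy
  · exact h3

/-- **FF-lines at any level.** -/
theorem InL.known_of_hypL (I : InL K) {G : Type u} [Group G] [Finite G] (hK : K G) {S : Sylow 2 G}
    {P : Subgroup G} (h : HypL S P) : IsKnownSimple' G := by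
  obtain ⟨-, ⟨F, _, _, _, k, hk, ⟨M⟩⟩ | ⟨k, m, hk, hm, ⟨M⟩⟩⟩ := h.concl
  · rcases Nat.lt_or_ge k 2 with hk2 | hk2
    · obtain rfl : k = 1 := by omega
      obtain ⟨F, _, _, _, ⟨M⟩⟩ := h.toHyp.exists_natP M.toNatK.single
      rcases card_field' (F := F) with h5 | h5
      · exact absurd (by rw [M.card, h5]; norm_num) (h.four P h.toHyp.pss)
      · rcases I.redL G hK S P h F h5 M with ⟨B, R, hB⟩ | h6
        · obtain ⟨n, hn, y, hy⟩ := hB.exists_crit h.toHyp
          rcases Nat.lt_or_ge n 2 with h4 | h4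
          · obtain rfl : n = 1 := by omega
            exact I.oneB G hK S P h.toHypF F h5 M B R hB y hy
          rcases I.fullB G hK S P h F h5 M B R hB n y h4 hy with h7 | h7
          · rcases Nat.lt_or_ge n 3 with h8 | h8
            · obtain rfl : n = 2 := by omega
              exact I.midBF G hK S P h.toHypF F h5 M B R hB h7 y hy
            · exact I.farBF G hK S P h.toHypF F h5 M B R hB h7 n y h8 hy
          · exact h7
        · exact h6
    · rcases card_field' (F := F) with h5 | h5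
      · exact I.multiTwoL G hK S P h F k hk2 h5 M
      · exact I.multiQL G hK S P h F k hk2 h5 M
  · rcases Nat.lt_or_ge k 2 with hk2 | hk2
    · obtain rfl : k = 1 := by omega
      rcases Nat.lt_or_ge m 3 with hm2 | hm2
      · obtain rfl : m = 2 := by omega
        exact I.symTwoL G hK S P h M
      · exact I.symBigL G hK S P h m hm2 M
    · exact I.symManyL G hK S P h k m hk2 hm M

/-- `HypC` (no FF-line of stage `-1`). -/
theorem InL.jc (I : InL K) : JC K := by
  intro G _ _ hK S h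
  by_cases hv : ∃ P : Subgroup G, PSS (S : Subgroup G) P ∧ ¬ zl (S : Subgroup G) P ≤ VB (S : Subgroup G)
  · obtain ⟨P, hP⟩ := HypL.exists_of h hv
    exact I.known_of_hypL hK hP
  push Not at hv
  by_cases hf : ∃ P : Subgroup G, PSS (S : Subgroup G) P ∧ ¬ FFMod (S : Subgroup G) P
  · obtain ⟨P, hP, hff⟩ := hf
    exact I.notFFG G hK S P (NOThreeL.Merge.HypG.of_par h hP.par hP.nonLoc hff)
  · push Not at hf
    exact I.gammaFF G hK S h fun P hP => ⟨hv P hP, hf P hP⟩

/-- Stage `-1`. -/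
theorem InL.known_of_hypJ (I : InL K) {G : Type u} [Group G] [Finite G] (hK : K G) {S : Sylow 2 G}
    {P : Subgroup G} (h : HypJ S P) : IsKnownSimple' G := by
  by_cases hfour : ∃ R : Subgroup G, PSS (S : Subgroup G) R ∧ Nat.card (zl (S : Subgroup G) R) = 4
  · obtain ⟨R, hR, hc⟩ := hfour
    exact I.two G hK S R (HypN.of h.ctx h.full h.noFF h.low hR.par hR.nonLoc).toHyp hc
  · push Not at hfour
    exact I.known_of_hypL hK (h.toL hfour)

/-- **The leaf from the inputs with levels.** -/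
theorem InL.node (I : InL K) : NodeNO3S K :=
  nodeNO3S I.two (fun G _ _ hK S P h _ _ _ _ _ _ => I.known_of_hypJ hK h)
    (fun G _ _ hK S P h _ => I.known_of_hypJ hK h) I.jc

end Cfsg.Agent.Omega.NO3S
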