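import Cfsg.Agent.Mrg.Omega.OM.Lev.Main
import Cfsg.Agent.Mrg.Omega.OM.Lev.SFr
import Cfsg.Agent.Mrg.Omega.TC.UniLev
import Cfsg.Agent.Mrg.Omega.NO3S.Sym.Light

section


/-!
# The leaves `SymTwoL`, `SymBigL`, `SymManyL` of NO-3S: the tree

As `Node/MultiOf.lean` (helper388), for `V_P` = even subsets of `{1..2^m+1}`, `k` factors (`m ≥ 2`, `k ≥ 1`).
`StgP S P K B ZJ` is the level of `P`, `KZ B ZJ = ⟨C_G(Z_J), all FF-blocks over B⟩`.

```
SymTwoL (k = 1, m = 2), SymBigL (k = 1, m ≥ 3), SymManyL (k ≥ 2)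
├── (Om) KZ normalises a nontrivial 2-group: OmS K c = OmNegS K c (THEOREM SW) + OmLevS K c (THEOREM SW at levels)
└── (E)  KZ normalises no nontrivial 2-group: ES K c
```

`c k m` is the condition on `(k, m)`.
-/

set_option autoImplicit false

namespace Cfsg.Agent.Omega.Node.SymOf

open Subgroup Cfsg Cfsg.Agent.ZN.ChoiceBase Cfsg.Agent.ZN.ChoiceSit
open Cfsg.Agent.ZN (jj zj bau zc zl o2)
open Cfsg.Agent.Omega.FFThm (SymK SymKM)
open Cfsg.Agent.Omega.FrameFF (cv)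
open Cfsg.Agent.Omega.LemmaK (Block)
open Cfsg.Agent.Omega.NO3S (HypL HypN HypJ Hyp PSS)
open Cfsg.Agent.Omega.NO3S.Level (lev lev_isLev)
open Cfsg.Agent.Omega.Frame (Cls)
open Cfsg.Agent.Omega.NO3S.EThree.Frame (Bg Fg)
open Cfsg.Agent.Omega.OM
open Cfsg.Agent.Omega.OM.Uni (FB)
open Cfsg.Agent.Omega.OM.LevD (LB)
open Cfsg.Agent.Omega.OM.Swap (SitFalse)
open Cfsg.Agent.Omega.Node.MultiOf

universe u

section defs

variable {G : Type u} [Group G] [Finite G]

/-- **Symmetric blocks.** The level and the frame; `ι` = the transpositions of `C_S(Z_J)`, at least two. -/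
structure MulS (S : Sylow 2 G) (P K B ZJ : Subgroup G) {ι : Type} (L W Z C : ι → Subgroup G) (k m : ℕ) : Prop where
  hyp : HypL S P
  stg : StgP S P K B ZJ
  sym : Nonempty (SymKM (S : Subgroup G) P (zl (S : Subgroup G) P) (cv (S : Subgroup G) P) k m)
  fr : Fg B (o2 P) (zl (S : Subgroup G) P) ZJ L W Z C 2
  fin : Finite ι
  two : ∀ i : ι, ∃ j, j ≠ i

theorem exists_mulS {S : Sylow 2 G} {P : Subgroup G} (h : HypL S P) {k m : ℕ} (hk : 0 < k) (hm : 2 ≤ m)
    (N : SymKM (S : Subgroup G) P (zl (S : Subgroup G) P) (cv (S : Subgroup G) P) k m) :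
    ∃ (K B ZJ : Subgroup G) (ι : Type) (L W Z C : ι → Subgroup G), MulS S P K B ZJ L W Z C k m := by
  rcases h.stage with hj | ⟨n, hn, hn1⟩
  · obtain ⟨ι, hι, W, d, t, r, L, A, -, -, -, -, hL⟩ := Line.exists_sym ⟨h.toHypN, hj⟩ hk hm N.toSymK
    exact ⟨_, _, _, ι, L, W, _, _, h, StgP.neg hj, ⟨N⟩, Fg.of_fr hL.fr, hι, hL.two⟩
  · obtain ⟨ι, hι, W, d, t, r, L, A, -, -, -, -, h2, hF⟩ := Lev.Sym.exists_sym_lev FF.Glob.ffthmM
      h.toHyp.ctx.char2 h.star (lev_isLev (S : Subgroup G) n) (hn P h.star) h.toHyp.inf_eq_bot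
      (NO3S.exists_BO h.toHyp.ctx.char2 h.star (hn P h.star) hn1) hk hm N
    exact ⟨_, _, _, ι, L, W, _, _, h, StgP.lev n hn (hn P h.star) hn1, ⟨N⟩, Lev.Main.toFg hF, hι, h2⟩

namespace MulS

variable {S : Sylow 2 G} {P K B ZJ : Subgroup G} {ι : Type} {L W Z C : ι → Subgroup G} {k m : ℕ}
  (h : MulS S P K B ZJ L W Z C k m)
include h

theorem lb : LB S K B ZJ := h.stg.lb

theorem block (i : ι) : Block 2 B (L i) (W i) := (h.fr.blk i).toBlock (h.fr.cardZ i) h.lb.Bp h.lb.weakNormal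

theorem fbl (i : ι) : FBl B (L i) (W i) := ⟨⟨_, _, h.fr.blk i⟩, h.block i⟩

theorem fam : LevD.Fam B ZJ (FBl B) where
  blk := fun _ _ hb => hb.blk
  conj := fun _ hn _ _ hb => hb.conj hn
  zj_le := by
    have := h.fin
    refine (h.fr.ZJV.trans (Fg_V_le h.fr)).trans (iSup_le fun i => ?_)
    exact le_iSup (fun i : {x : Subgroup G × Subgroup G // FBl B x.1 x.2} => i.1.2) ⟨(L i, W i), h.fbl i⟩

theorem L_le (i : ι) : L i ≤ KZ B ZJ := LevD.blk_le_K0 (h.fbl i)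

/-- **the dichotomy** -/
theorem cases : NLoc (KZ B ZJ) ∨ (o2 (KZ B ZJ) ≠ ⊥ ∧ o2 (KZ B ZJ) ≤ B ∧
    KZ B ZJ ⊔ normalizer (B : Set G) ≤ normalizer (o2 (KZ B ZJ) : Set G)) := by
  by_cases h0 : NLoc (KZ B ZJ)
  · exact Or.inl h0
  · right
    unfold NLoc at h0
    push Not at h0
    obtain ⟨R, hR, hRn, hR1⟩ := h0
    exact LevD.Fam.dich h.lb h.fam hR hR1 hRn

end MulS

end defs

/-! ### Sockets -/

section sockets

variable (K : Cls.{u}) (c : ℕ → ℕ → Prop)

/-- **(Om)**, for the `(k, m)` with `c k m`. -/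
def OmS : Prop :=
  ∀ (G : Type u) [Group G] [Finite G], K G → ∀ (S : Sylow 2 G) (P K' B ZJ : Subgroup G) (ι : Type)
    (L W Z C : ι → Subgroup G) (k m : ℕ), 0 < k → 2 ≤ m → c k m → MulS S P K' B ZJ L W Z C k m →
      o2 (KZ B ZJ) ≠ ⊥ → o2 (KZ B ZJ) ≤ B →
      KZ B ZJ ⊔ normalizer (B : Set G) ≤ normalizer (o2 (KZ B ZJ) : Set G) → IsKnownSimple' G

/-- **(Om)**, stage `-1`, for the `(k, m)` with `c k m`. -/
def OmNegS : Prop :=
  ∀ (G : Type u) [Group G] [Finite G], K G → ∀ (S : Sylow 2 G) (P : Subgroup G) (k m : ℕ), HypL S P → HypJ S P →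
    0 < k → 2 ≤ m → c k m → SymKM (S : Subgroup G) P (zl (S : Subgroup G) P) (cv (S : Subgroup G) P) k m →
        o2 (KZ (bau (S : Subgroup G)) (zj (S : Subgroup G))) ≠ ⊥ → IsKnownSimple' G

/-- **(Om)**, stage `n`, for the `(k, m)` with `c k m`; `B = C_S(ZJ)`, `ZJ = Ω₁(Z(lev S (n + 1)))`. -/
def OmLevS : Prop :=
  ∀ (G : Type u) [Group G] [Finite G], K G → ∀ (S : Sylow 2 G) (P : Subgroup G) (k m : ℕ), HypL S P → ∀ n : ℕ,
    (∀ R, MinPar.IsParS (S : Subgroup G) R → lev (S : Subgroup G) n ≤ o2 R) →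
    ¬ lev (S : Subgroup G) (n + 1) ≤ o2 P → 0 < k → 2 ≤ m → c k m →
      SymKM (S : Subgroup G) P (zl (S : Subgroup G) P) (cv (S : Subgroup G) P) k m →
        ∀ B ZJ : Subgroup G, ZJ = zc (lev (S : Subgroup G) (n + 1)) →
          B = (S : Subgroup G) ⊓ centralizer (zc (lev (S : Subgroup G) (n + 1)) : Set G) →
          o2 (KZ B ZJ) ≠ ⊥ → IsKnownSimple' G

/-- **(E)**, for the `(k, m)` with `c k m`. -/
def ES : Prop :=
  ∀ (G : Type u) [Group G] [Finite G], K G → ∀ (S : Sylow 2 G) (P K' B ZJ : Subgroup G) (ι : Type)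
    (L W Z C : ι → Subgroup G) (k m : ℕ), 0 < k → 2 ≤ m → c k m → MulS S P K' B ZJ L W Z C k m →
      NLoc (KZ B ZJ) → IsKnownSimple' G

end sockets

variable {K : Cls.{u}}

theorem omS_of {c : ℕ → ℕ → Prop} (h1 : OmNegS K c) (h2 : OmLevS K c) : OmS K c := by
  intro G _ _ hK S P K' B ZJ ι L W Z C k m hk hm hc hM ho _ _
  obtain ⟨N⟩ := hM.sym
  cases hM.stg with
  | neg hj => exact h1 G hK S P k m hM.hyp ⟨hM.hyp.toHypN, hj⟩ hk hm hc N ho
  | lev n hall hn hn1 => exact h2 G hK S P k m hM.hyp n hall hn1 hk hm hc N _ _ rfl rfl ho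

theorem known_of {c : ℕ → ℕ → Prop} (hO : OmS K c) (hE : ES K c) (G : Type u) [Group G] [Finite G] (hK : K G)
    (S : Sylow 2 G) (P : Subgroup G) (h : HypL S P) (k m : ℕ) (hk : 0 < k) (hm : 2 ≤ m) (hc : c k m)
    (N : SymKM (S : Subgroup G) P (zl (S : Subgroup G) P) (cv (S : Subgroup G) P) k m) : IsKnownSimple' G := by
  obtain ⟨K', B, ZJ, ι, L, W, Z, C, hM⟩ := exists_mulS h hk hm N
  rcases hM.cases with h1 | ⟨h1, h2, h3⟩
  · exact hE G hK S P K' B ZJ ι L W Z C _ _ hk hm hc hM h1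
  · exact hO G hK S P K' B ZJ ι L W Z C _ _ hk hm hc hM h1 h2 h3

/-- **`SymTwoL`** -/
theorem symTwoL_of (hO : OmS K fun k m => k = 1 ∧ m = 2) (hE : ES K fun k m => k = 1 ∧ m = 2) :
    NO3S.SymTwoL K := by
  intro G _ _ hK S P h N
  exact known_of (c := fun k m => k = 1 ∧ m = 2) hO hE G hK S P h 1 2 one_pos le_rfl ⟨rfl, rfl⟩ N

/-- **`SymBigL`** -/
theorem symBigL_of (hO : OmS K fun k m => k = 1 ∧ 3 ≤ m) (hE : ES K fun k m => k = 1 ∧ 3 ≤ m) :
    NO3S.SymBigL K := by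
  intro G _ _ hK S P h m hm N
  exact known_of (c := fun k m => k = 1 ∧ 3 ≤ m) hO hE G hK S P h 1 m one_pos (by omega) ⟨rfl, hm⟩ N

/-- **`SymManyL`** -/
theorem symManyL_of (hO : OmS K fun k _ => 2 ≤ k) (hE : ES K fun k _ => 2 ≤ k) :
    NO3S.SymManyL K := by
  intro G _ _ hK S P h k m hk hm N
  exact known_of (c := fun k _ => 2 ≤ k) hO hE G hK S P h k m (by omega) hm hk N

/-- A weaker condition. -/
theorem OmS.mono {c c' : ℕ → ℕ → Prop} (h : OmS K c) (hc : ∀ k m, c' k m → c k m) : OmS K c' :=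
  fun G _ _ hK S P K' B ZJ ι L W Z C k m hk hm hc' => h G hK S P K' B ZJ ι L W Z C k m hk hm (hc k m hc')

theorem ES.mono {c c' : ℕ → ℕ → Prop} (h : ES K c) (hc : ∀ k m, c' k m → c k m) : ES K c' :=
  fun G _ _ hK S P K' B ZJ ι L W Z C k m hk hm hc' => h G hK S P K' B ZJ ι L W Z C k m hk hm (hc k m hc')

/-! ### (Om), stage `-1`: THEOREM SW -/

section neg

variable {G : Type u} [Group G] [Finite G] {S : Sylow 2 G} {P : Subgroup G}

/-- **(Om) is impossible at stage `-1`** (THEOREM SW). -/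
theorem noOm_neg (hs : SitFalse.{u}) (hFF : FFThm.Stmt.{u}) (hA : FFBr.AStmt.{u}) (h : HypJ S P) {k m : ℕ}
    (hk : 0 < k) (hm : 2 ≤ m) (N : SymK (S : Subgroup G) P (zl (S : Subgroup G) P) (cv (S : Subgroup G) P) k m) :
    NLoc (KZ (bau (S : Subgroup G)) (zj (S : Subgroup G))) := by
  obtain ⟨ι, hι, W, d, t, r, L, A, -, -, -, -, hL⟩ := Line.exists_sym h hk hm N
  have h1 := Swap.noOm hs hL (Swap.mf hL) hFF hA
  rw [KZ_neg]
  exact h1

end neg

/-- (Om), stage `-1`, modulo `SitFalse`. -/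
theorem omNegS (hs : SitFalse.{u}) (hFF : FFThm.Stmt.{u}) (hA : FFBr.AStmt.{u}) (c : ℕ → ℕ → Prop) :
    OmNegS K c := by
  intro G _ _ hK S P k m h hJ hk hm _ N ho
  exact absurd (noOm_neg hs hFF hA hJ hk hm N.toSymK _ (isPGroup_o2 _) (le_normalizer_o2 _)) ho

end Cfsg.Agent.Omega.Node.SymOf

end

section


/-!
# SymManyL (E): LEMMA FIX for `MulS` at every stage (CARD #20940, #22692, #23106)

* `FixK S P K0` : `K0 ≤ O₂(P)` (`1` at stage `-1`, `lev S n` at stage `n`), `N_G(Y) ≤ N_G(K0)` for `K0 ≤ Y ≤ S`,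
  `V_P ≤ C(K0)`, and **LEMMA FIX**: `e ∈ O₂(P)` an involution, `e ∈ C(K0)`, `[e, O₂(P)] ≤ ⟨p⟩`, `p ∈ V_P` implies
  `e ∈ V_P`;
* `fix_gen` : the abstract form, one `A ≤ S` inducing a group of order 2 on `V_P`;
* `fixK_neg`, `fixK_lev`, **`fixK_of`** (`MulS`, all stages).
-/

set_option autoImplicit false

namespace Cfsg.Agent.Omega.NO3S.ESym

open Subgroup Cfsg Cfsg.Agent.ZN.ChoiceBase Cfsg.Agent.ZN.ChoiceSit
open Cfsg.Agent.ZN (jj zj bau zc zl o2)
open Cfsg.Agent.PLocal.ThompsonJ Cfsg.Agent.PLocal.ElemAbSup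
open Cfsg.Agent.Omega.FFThm (SymK SymKM OffM ElemM)
open Cfsg.Agent.Omega.FrameFF (cv)
open Cfsg.Agent.Omega.MinPar (IsPar IsParS)
open Cfsg.Agent.Omega.NO3S (HypL HypN HypJ Hyp PSS)
open Cfsg.Agent.Omega.NO3S.Level (lev lev_isLev)
open Cfsg.Agent.Omega.OM
open Cfsg.Agent.Omega.OM.Uni (FB Md)
open Cfsg.Agent.Omega.TC (LevFix.Dat)
open Cfsg.Agent.Omega.NO1.BestOff (Best)

universe u

variable {G : Type u} [Group G] [Finite G]

/-- **LEMMA FIX**, with the level `K0`. -/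
structure FixK (S : Sylow 2 G) (P K0 : Subgroup G) : Prop where
  le : K0 ≤ o2 P
  nrm : ∀ Y : Subgroup G, K0 ≤ Y → Y ≤ (S : Subgroup G) → normalizer (Y : Set G) ≤ normalizer (K0 : Set G)
  cen : zl (S : Subgroup G) P ≤ centralizer (K0 : Set G)
  fix : ∀ e ∈ o2 P, e * e = 1 → e ∈ centralizer (K0 : Set G) → ∀ p ∈ zl (S : Subgroup G) P,
    (∀ o ∈ o2 P, o * e * o⁻¹ = e ∨ o * e * o⁻¹ = e * p) → e ∈ zl (S : Subgroup G) P

theorem mul_mem_of_card_le_two {B C : Subgroup G} (hCB : C ≤ B) (hc : Nat.card B ≤ 2 * Nat.card C) {x y : G}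
    (hx : x ∈ B) (hxC : x ∉ C) (hy : y ∈ B) (hyC : y ∉ C) : x * y ∈ C := by
  have h1 : (C.subgroupOf B).index * Nat.card C = Nat.card B := by
    have h := (C.subgroupOf B).index_mul_card
    rwa [Nat.card_congr (subgroupOfEquivOfLe hCB).toEquiv] at h
  have hpos : 0 < Nat.card C := Nat.card_pos
  have h2 : (C.subgroupOf B).index ≤ 2 := by
    refine Nat.le_of_mul_le_mul_right ?_ hpos
    rw [h1]; exact hc
  have h3 : (C.subgroupOf B).index ≠ 1 := by
    intro h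
    have h4 : (⟨x, hx⟩ : B) ∈ C.subgroupOf B := by
      rw [index_eq_one.1 h]; exact mem_top _
    exact hxC (mem_subgroupOf.1 h4)
  have h5 : (C.subgroupOf B).index ≠ 0 := index_ne_zero_of_finite
  have h6 : (C.subgroupOf B).index = 2 := by omega
  have h7 := (mul_mem_iff_of_index_two h6 (a := (⟨x, hx⟩ : B)) (b := (⟨y, hy⟩ : B))).2
    (iff_of_false (fun h => hxC (mem_subgroupOf.1 h)) fun h => hyC (mem_subgroupOf.1 h))
  exact mem_subgroupOf.1 h7

/-- a 2-group `T` fixes a nontrivial element of a nontrivial elementary abelian `M ≤ T`, `T ≤ N(M)` -/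
theorem exists_fixed {T M : Subgroup G} (hT : IsPGroup 2 T) (hTM : T ≤ normalizer (M : Set G)) (hM1 : M ≠ ⊥)
    (hM2 : IsPGroup 2 M) : ∃ x ∈ M, x ≠ 1 ∧ ∀ t ∈ T, t * x = x * t := by
  have hfact : Fact (Nat.Prime 2) := ⟨Nat.prime_two⟩
  let act : MulAction T M :=
    { smul := fun t m => ⟨(t : G) * m * (t : G)⁻¹, (mem_normalizer_iff.1 (hTM t.2) _).1 m.2⟩
      one_smul := fun m => Subtype.ext (by change ((1 : T) : G) * m * ((1 : T) : G)⁻¹ = m; simp)
      mul_smul := fun s t m => Subtype.ext (by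
        change ((s * t : T) : G) * m * ((s * t : T) : G)⁻¹ = s * (t * m * (t : G)⁻¹) * (s : G)⁻¹
        rw [Subgroup.coe_mul]; group) }
  have h1 : (1 : M) ∈ MulAction.fixedPoints T M := fun t => Subtype.ext (by
    change (t : G) * ((1 : M) : G) * (t : G)⁻¹ = ((1 : M) : G)
    simp)
  have hnt : Nontrivial M := (nontrivial_iff_ne_bot M).2 hM1
  have h2 : 2 ∣ Nat.card M := by
    obtain ⟨n, hn⟩ := IsPGroup.iff_card.1 hM2
    rw [hn]
    refine dvd_pow_self 2 ?_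
    rintro rfl
    rw [pow_zero] at hn
    exact hM1 (card_eq_one.1 hn)
  obtain ⟨b, hb, hb1⟩ := hT.exists_fixed_point_of_prime_dvd_card_of_fixed_point M h2 h1
  refine ⟨b, b.2, fun h => hb1 (Subtype.ext h.symm), fun t ht => ?_⟩
  have h3 : t * (b : G) * t⁻¹ = b := congrArg Subtype.val (hb ⟨t, ht⟩)
  rw [← mul_inv_eq_iff_eq_mul]
  exact h3

section gen

variable {S : Sylow 2 G} {P K A : Subgroup G}

/-- `A ≤ S`, `A ≰ O₂(P)` does not centralise a nontrivial normal subgroup of `P` in `V_P`. -/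
theorem not_centralizes (hP : IsPar (S : Subgroup G) P) (hcv : zc (S : Subgroup G) ⊓ centralizer (P : Set G) = ⊥)
    (hA : A ≤ (S : Subgroup G)) (hAQ : ¬ A ≤ o2 P) {M : Subgroup G} (hM1 : M ≠ ⊥) (hMS : M ≤ (S : Subgroup G))
    (hM : P ≤ normalizer (M : Set G)) (hsq : ∀ x ∈ M, x ^ 2 = 1) : ¬ A ≤ centralizer (M : Set G) := by
  intro hAM
  have hfact : Fact (Nat.Prime 2) := ⟨Nat.prime_two⟩
  -- `N := P ⊓ C(M)` is normal in `P`
  set N : Subgroup G := P ⊓ centralizer (M : Set G) with hN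
  have hNn : P ≤ normalizer (N : Set G) := by
    refine fun x hx => mem_normalizer_of_cj_le ?_
    rintro _ ⟨y, hy, rfl⟩
    change x * y * x⁻¹ ∈ N
    refine mem_inf.2 ⟨mul_mem (mul_mem hx hy.1) (inv_mem hx), mem_centralizer_iff.2 fun z hz => ?_⟩
    have h1 : x⁻¹ * z * x ∈ M := (mem_normalizer_iff''.1 (hM hx) z).1 hz
    have h2 := mem_centralizer_iff.1 hy.2 _ h1
    calc z * (x * y * x⁻¹) = x * (x⁻¹ * z * x * y) * x⁻¹ := by group
      _ = x * (y * (x⁻¹ * z * x)) * x⁻¹ := by rw [h2]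
      _ = x * y * x⁻¹ * z := by group
  rcases hP.sup_eq_or_inf_le S inf_le_left hNn with h | h
  · -- `C_M(S) ≠ 1` is central in `P`
    obtain ⟨x, hxM, hx1, hxS⟩ := exists_fixed S.isPGroup' (hP.le.trans hM) hM1 (S.isPGroup'.to_le hMS)
    apply hx1
    rw [← mem_bot, ← hcv]
    refine mem_inf.2 ⟨?_, ?_⟩
    · exact mem_zc.2 ⟨hMS hxM, hsq x hxM, hxS⟩
    · have h2 : P ≤ centralizer ({x} : Set G) := by
        rw [← h]
        refine sup_le (fun y hy => ?_) fun y hy => ?_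
        · exact mem_centralizer_singleton_iff.2 (mem_centralizer_iff.1 hy.2 x hxM).symm
        · exact mem_centralizer_singleton_iff.2 (hxS y hy)
      exact mem_centralizer_iff.2 fun y hy => mem_centralizer_singleton_iff.1 (h2 hy)
  · exact hAQ ((le_inf hA (le_inf (hA.trans hP.le) hAM)).trans h)

/-- **LEMMA FIX**, one `A ≤ S` inducing a group of order 2 on `V_P`. -/
theorem fix_gen (hP : IsParS (S : Subgroup G) P)
    (hcv : zc (S : Subgroup G) ⊓ centralizer (P : Set G) = ⊥)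
    (hz : zc (o2 P) = zl (S : Subgroup G) P) (hKV : zl (S : Subgroup G) P ≤ centralizer (K : Set G))
    (hKn : P ≤ normalizer (K : Set G)) (hA : A ≤ (S : Subgroup G)) {τ : G} (hτ : τ ∈ A) (hτQ : τ ∉ o2 P)
    (idx : ∀ a ∈ A, a ∈ o2 P ∨ τ * a ∈ o2 P)
    (off : ∀ F : Subgroup G, F ≤ o2 P → F ≤ centralizer (K : Set G) → zl (S : Subgroup G) P ≤ F →
      (∀ x ∈ F, ∀ y ∈ F, x * y = y * x) → (∀ x ∈ F, x * x = 1) → A ≤ normalizer (F : Set G) → OffM F A)
    {e p : G} (he : e ∈ o2 P) (he2 : e * e = 1) (heK : e ∈ centralizer (K : Set G)) (hp : p ∈ zl (S : Subgroup G) P)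
    (hec : ∀ o ∈ o2 P, o * e * o⁻¹ = e ∨ o * e * o⁻¹ = e * p) : e ∈ zl (S : Subgroup G) P := by
  set V := zl (S : Subgroup G) P with hV
  have hzm : ∀ x : G, x ∈ V ↔ x ∈ o2 P ∧ x ^ 2 = 1 ∧ ∀ y ∈ o2 P, y * x = x * y := by
    intro x; rw [← hz]; exact mem_zc
  by_cases hp1 : p = 1
  · subst hp1
    refine (hzm e).2 ⟨he, by rw [pow_two]; exact he2, fun o ho => ?_⟩
    have h1 : o * e * o⁻¹ = e := by
      rcases hec o ho with h | h
      · exact h
      · rw [h, mul_one]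
    exact mul_inv_eq_iff_eq_mul.1 h1
  have hPV : P ≤ normalizer (V : Set G) := MinSimple.VModule.le_normalizer_zl _ _
  have hVO : V ≤ o2 P := fun x hx => ((hzm x).1 hx).1
  have hVS : V ≤ (S : Subgroup G) := hVO.trans (hP.isLoc.o2_le S)
  have hPO : P ≤ normalizer (o2 P : Set G) := ZN.le_normalizer_o2 P
  have hSP : (S : Subgroup G) ≤ P := hP.le
  -- some conjugate of `p` is moved by `τ`
  obtain ⟨g, hg, hgp⟩ : ∃ g ∈ P, τ * (g * p * g⁻¹) * τ⁻¹ ≠ g * p * g⁻¹ := by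
    by_contra hcon
    push Not at hcon
    set M : Subgroup G := closure {x | ∃ g ∈ P, x = g * p * g⁻¹} with hM
    have hMV : M ≤ V := by
      rw [hM, closure_le]
      rintro _ ⟨g, hg, rfl⟩
      exact (mem_normalizer_iff.1 (hPV hg) p).1 hp
    have hpM : p ∈ M := subset_closure ⟨1, one_mem _, by group⟩
    have hM1 : M ≠ ⊥ := fun h => hp1 (mem_bot.1 (h ▸ hpM))
    have hPM : P ≤ normalizer (M : Set G) := by
      refine fun x hx => mem_normalizer_of_cj_le ?_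
      rintro _ ⟨y, hy, rfl⟩
      change x * y * x⁻¹ ∈ M
      rw [hM] at hy
      induction hy using closure_induction with
      | mem y hy =>
        obtain ⟨g, hg, rfl⟩ := hy
        refine subset_closure ⟨x * g, mul_mem hx hg, by group⟩
      | one => rw [mul_one, mul_inv_cancel]; exact one_mem _
      | mul a b _ _ ha hb =>
        have e1 : x * (a * b) * x⁻¹ = (x * a * x⁻¹) * (x * b * x⁻¹) := by group
        rw [e1]; exact mul_mem ha hb
      | inv a _ ha =>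
        have e1 : x * a⁻¹ * x⁻¹ = (x * a * x⁻¹)⁻¹ := by group
        rw [e1]; exact inv_mem ha
    refine not_centralizes hP.toIsPar hcv hA (fun h => hτQ (h hτ)) hM1 (hMV.trans hVS) hPM
      (fun x hx => ((hzm x).1 (hMV hx)).2.1) ?_
    have hτM : ∀ x ∈ M, τ * x = x * τ := by
      have h1 : M ≤ centralizer ({τ} : Set G) := by
        rw [hM, closure_le]
        rintro _ ⟨g, hg, rfl⟩
        exact mem_centralizer_singleton_iff.2 (mul_inv_eq_iff_eq_mul.1 (hcon g hg)).symm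
      exact fun x hx => (mem_centralizer_singleton_iff.1 (h1 hx)).symm
    intro a ha
    refine mem_centralizer_iff.2 fun x hx => ?_
    have hcO : ∀ o ∈ o2 P, o * x = x * o := fun o ho => ((hzm x).1 (hMV hx)).2.2 o ho
    rcases idx a ha with h | h
    · exact (hcO a h).symm
    · have h1 := hcO _ h
      have h2 := hτM x hx
      have h3 : τ * (a * x) = τ * (x * a) := by
        calc τ * (a * x) = τ * a * x := by group
          _ = x * (τ * a) := h1
          _ = x * τ * a := by group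
          _ = τ * x * a := by rw [h2]
          _ = τ * (x * a) := by group
      exact (mul_left_cancel h3).symm
  have hOg : ∀ o ∈ o2 P, g⁻¹ * o * g ∈ o2 P := fun o ho => (mem_normalizer_iff''.1 (hPO hg) o).1 ho
  have heK' : g * e * g⁻¹ ∈ centralizer (K : Set G) := by
    refine mem_centralizer_iff.2 fun y hy => ?_
    have h1 : g⁻¹ * y * g ∈ K := (mem_normalizer_iff''.1 (hKn hg) y).1 hy
    have h2 := mem_centralizer_iff.1 heK _ h1
    calc y * (g * e * g⁻¹) = g * (g⁻¹ * y * g * e) * g⁻¹ := by group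
      _ = g * (e * (g⁻¹ * y * g)) * g⁻¹ := by rw [h2]
      _ = g * e * g⁻¹ * y := by group
  have hAP : A ≤ P := hA.trans hSP
  have hτK : τ * (g * e * g⁻¹) * τ⁻¹ ∈ centralizer (K : Set G) := by
    refine mem_centralizer_iff.2 fun y hy => ?_
    have h1 : τ⁻¹ * y * τ ∈ K := (mem_normalizer_iff''.1 (hKn (hAP hτ)) y).1 hy
    have h2 := mem_centralizer_iff.1 heK' _ h1
    calc y * (τ * (g * e * g⁻¹) * τ⁻¹) = τ * (τ⁻¹ * y * τ * (g * e * g⁻¹)) * τ⁻¹ := by group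
      _ = τ * (g * e * g⁻¹ * (τ⁻¹ * y * τ)) * τ⁻¹ := by rw [h2]
      _ = τ * (g * e * g⁻¹) * τ⁻¹ * y := by group
  have D : LevFix.Dat A (o2 P) V τ (g * p * g⁻¹) (g * e * g⁻¹) :=
    { VO := hVO
      OV := fun o ho x hx => ((hzm x).1 hx).2.2 o ho
      V2 := fun x hx => by rw [← pow_two]; exact ((hzm x).1 hx).2.1
      AO := fun a ha o ho => (mem_normalizer_iff.1 (hPO (hAP ha)) o).1 ho
      AV := fun a ha x hx => (mem_normalizer_iff.1 (hPV (hAP ha)) x).1 hx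
      τA := hτ
      idx := idx
      pV := (mem_normalizer_iff.1 (hPV hg) p).1 hp
      p1 := fun h => hp1 (conj_eq_one_iff.1 h)
      pτ := hgp
      eO := (mem_normalizer_iff.1 (hPO hg) e).1 he
      e2 := by
        have e1 : g * e * g⁻¹ * (g * e * g⁻¹) = g * (e * e) * g⁻¹ := by group
        rw [e1, he2, mul_one, mul_inv_cancel]
      ec := by
        intro o ho
        have e1 : o * (g * e * g⁻¹) * o⁻¹ = g * ((g⁻¹ * o * g) * e * (g⁻¹ * o * g)⁻¹) * g⁻¹ := by group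
        rw [e1]
        rcases hec _ (hOg o ho) with h | h
        · left; rw [h]
        · right; rw [h]; group
      off := by
        intro F hFO hVF hFc hFcm hFsq hAF
        refine off F hFO (hFc.trans ((closure_le _).2 ?_)) hVF hFcm hFsq hAF
        rintro x (hx | rfl | rfl)
        · exact hKV hx
        · exact heK'
        · exact hτK }
  have hmain := D.main
  have h1 : g * e * g⁻¹ ∈ V := (hzm _).2 ⟨D.eO, by rw [pow_two]; exact D.e2, hmain⟩
  exact (mem_normalizer_iff.1 (hPV hg) e).2 h1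

end gen

section stage

variable {S : Sylow 2 G} {P : Subgroup G}

/-- `τ ∈ A` moves `W`, `|B : C_B(W)| ≤ 2` -/
theorem idx_of {B W A Q : Subgroup G} (hc : Nat.card B ≤ 2 * Nat.card ↥(B ⊓ centralizer (W : Set G)))
    (hAB : A ≤ B) (hQ : ∀ a ∈ A, (∀ w ∈ W, a * w = w * a) → a ∈ Q)
    {τ : G} (hτ : τ ∈ A) {v : G} (hv : v ∈ W) (hτv : τ * v ≠ v * τ) : ∀ a ∈ A, a ∈ Q ∨ τ * a ∈ Q := by
  intro a ha
  by_cases haC : ∀ w ∈ W, a * w = w * a
  · exact Or.inl (hQ a ha haC)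
  · right
    refine hQ _ (mul_mem hτ ha) fun w hw => ?_
    have h1 : τ * a ∈ B ⊓ centralizer (W : Set G) := by
      refine mul_mem_of_card_le_two inf_le_left hc (hAB hτ) (fun h => hτv ?_) (hAB ha) fun h => haC ?_
      · exact (mem_centralizer_iff.1 h.2 v hv).symm
      · exact fun w hw => (mem_centralizer_iff.1 h.2 w hw).symm
    exact (mem_centralizer_iff.1 h1.2 w hw).symm

/-- stage `-1` -/
theorem fixK_neg (h : HypL S P) (hJ : ¬ jj (S : Subgroup G) ≤ o2 P) {k m : ℕ} (hk : 0 < k) (hm : 2 ≤ m)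
    (N : SymKM (S : Subgroup G) P (zl (S : Subgroup G) P) (cv (S : Subgroup G) P) k m) : FixK S P ⊥ := by
  obtain ⟨ι, hι, W, d, t, r, L, A, hs, -, -, hAA, hL⟩ := Line.exists_sym ⟨h.toHypN, hJ⟩ hk hm N.toSymK
  obtain ⟨i⟩ := hs.ne
  have hAi := hAA i
  have hne := hL.fr.Ane i
  push Not at hne
  obtain ⟨τ, hτ, v, hv, hτv⟩ := hne
  have hAB : A i ≤ bau (S : Subgroup G) := hL.fr.AB i
  have hAQ : ∀ a ∈ A i, (∀ w ∈ W i, a * w = w * a) → a ∈ o2 P := by
    intro a ha hw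
    refine (hL.fr.mem_Q a (hAB ha)).2 fun x hx => ?_
    obtain ⟨w, hw', c, hc, rfl⟩ := hL.fr.WC i x hx
    have c1 : Commute a w := hw w hw'
    have c2 : Commute a c := hL.fr.AC i a ha c hc
    exact (c1.mul_right c2).eq
  have hτQ : τ ∉ o2 P := fun hh => hτv ((hL.fr.mem_Q τ (hAB hτ)).1 hh v (hL.fr.WV i hv))
  have hAi1 := (isElementaryAbelian_iff.1 hAi.1).1
  have hAi2 := (isElementaryAbelian_iff.1 hAi.1).2
  have hbot : ∀ x : G, x ∈ normalizer ((⊥ : Subgroup G) : Set G) := fun x => by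
    rw [mem_normalizer_iff]
    intro y
    rw [mem_bot, mem_bot]
    exact conj_eq_one_iff.symm
  have hcb : ∀ x : G, x ∈ centralizer ((⊥ : Subgroup G) : Set G) := fun x => by
    refine mem_centralizer_iff.2 fun y hy => ?_
    rw [mem_bot.1 hy, one_mul, mul_one]
  refine ⟨bot_le, fun Y _ _ x _ => hbot x, fun x _ => hcb x, fun e he he2 heK p hp hec => ?_⟩
  refine fix_gen (K := ⊥) h.star h.toHyp.inf_eq_bot hs.zc_eq (fun x _ => hcb x) (fun x _ => hbot x) hAi.2.1 hτ hτQ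
    (idx_of (hL.fr.blk i).cardB hAB hAQ hτ hv hτv) ?_ he he2 heK hp hec
  intro F hF _ hVF hFc hFs hAF
  refine { sq := fun a ha => by rw [hAi2 a ha]; exact one_mem _
           comm := fun a ha b hb => by
            rw [hAi1 a ha b hb, mul_inv_cancel_right, mul_inv_cancel]; exact one_mem _
           ne := fun hh => hτv (mem_centralizer_iff.1 (hh hτ) v (hVF (hL.fr.WV i hv))).symm
           le := ?_ }
  have hFe : IsElementaryAbelian 2 F := isElementaryAbelian_iff.2 ⟨hFc, fun x hx => by rw [pow_two]; exact hFs x hx⟩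
  have hFT : F ≤ (S : Subgroup G) := hF.trans (h.star.isLoc.o2_le S)
  have hc : A i ⊓ centralizer (F : Set G) ≤ centralizer (F : Set G) := inf_le_right
  have h1 := card_sup_mul_card_inf hc
  have h2 : Nat.card (F ⊔ (A i ⊓ centralizer (F : Set G)) : Subgroup G) ≤ Nat.card (A i) :=
    hAi.2.2 _ (isElementaryAbelian_sup hFe (isElementaryAbelian_mono hAi.1 inf_le_left) hc)
      (sup_le hFT (inf_le_left.trans hAi.2.1))
  have h3 : Nat.card (F ⊓ (A i ⊓ centralizer (F : Set G)) : Subgroup G) ≤ Nat.card ↥(F ⊓ centralizer (A i : Set G)) := by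
    refine Subgroup.card_le_of_le (inf_le_inf_left _ (inf_le_left.trans ?_))
    intro a ha
    exact mem_centralizer_iff.2 fun b hb => hAi1 b hb a ha
  rw [← h1]
  exact Nat.mul_le_mul h2 h3

/-- stage `n` -/
theorem fixK_lev (h : HypL S P) {n : ℕ} (hn : lev (S : Subgroup G) n ≤ o2 P)
    (hn1 : ¬ lev (S : Subgroup G) (n + 1) ≤ o2 P) {k m : ℕ} (hk : 0 < k) (hm : 2 ≤ m)
    (N : SymKM (S : Subgroup G) P (zl (S : Subgroup G) P) (cv (S : Subgroup G) P) k m) :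
    FixK S P (lev (S : Subgroup G) n) := by
  obtain ⟨ι, hι, W, d, t, r, L, A, hs, -, -, -, h2, hF⟩ := Lev.Sym.exists_sym_lev FF.Glob.ffthmM
    h.toHyp.ctx.char2 h.star (lev_isLev (S : Subgroup G) n) hn h.toHyp.inf_eq_bot
    (NO3S.exists_BO h.toHyp.ctx.char2 h.star hn hn1) hk hm N
  obtain ⟨i⟩ := hs.ne
  have hne := hF.Ane i
  push Not at hne
  obtain ⟨τ, hτ, v, hv, hτv⟩ := hne
  have hAB := hF.AB i
  have hAS : A i ≤ (S : Subgroup G) := hAB.trans inf_le_left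
  have hlev := lev_isLev (S : Subgroup G) n
  have hOS : o2 P ≤ (S : Subgroup G) := h.star.isLoc.o2_le S
  have hτQ : τ ∉ o2 P := fun hh => hτv ((hF.mem_Q τ (hAB hτ)).1 hh v (hF.WV i hv))
  have hVX : zl (S : Subgroup G) P ≤ zc (lev (S : Subgroup G) n) := hF.VX
  have hKV : zl (S : Subgroup G) P ≤ centralizer (lev (S : Subgroup G) n : Set G) := by
    intro x hx
    exact mem_centralizer_iff.2 fun y hy => (mem_zc.1 (hVX hx)).2.2 y hy
  have hKn : P ≤ normalizer (lev (S : Subgroup G) n : Set G) := hlev.le_norm_of_o2 hn hOS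
  have hbest : Best (zc (lev (S : Subgroup G) n)) (A i) := by
    refine ⟨hF.AX i, fun Y h1 h2 => ?_⟩
    exact hF.best i Y h2 h1
  refine ⟨hn, fun Y hY hYS => hlev.norm Y hY hYS, hKV, fun e he he2 heK p hp hec => ?_⟩
  refine fix_gen (K := lev (S : Subgroup G) n) h.star h.toHyp.inf_eq_bot hs.zc_eq hKV hKn hAS hτ hτQ
    (idx_of (hF.blk i).cardB hAB (fun a ha => hF.A_Q ha) hτ hv hτv) ?_ he he2 heK hp hec
  intro F hFO hFK hVF hFc hFs hAF
  have hFX : F ≤ zc (lev (S : Subgroup G) n) := fun x hx =>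
    hlev.mem_of_comm (hOS (hFO hx)) (by rw [pow_two]; exact hFs x hx) fun y hy =>
      mem_centralizer_iff.1 (hFK hx) y hy
  exact hbest.offM hFX fun hh => hτv (mem_centralizer_iff.1 (hh hτ) v (hVF (hF.WV i hv))).symm

end stage

open Cfsg.Agent.Omega.Node.MultiOf Cfsg.Agent.Omega.Node.SymOf in
/-- **LEMMA FIX for `MulS`, every stage.** -/
theorem fixK_of {S : Sylow 2 G} {P K B ZJ : Subgroup G} {ι : Type} {L W Z C : ι → Subgroup G} {k m : ℕ}
    (h : MulS S P K B ZJ L W Z C k m) (hk : 0 < k) (hm : 2 ≤ m) : ∃ K0 : Subgroup G, FixK S P K0 := by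
  obtain ⟨N⟩ := h.sym
  cases h.stg with
  | neg hj => exact ⟨_, fixK_neg h.hyp hj hk hm N⟩
  | lev n hall hn hn1 => exact ⟨_, fixK_lev h.hyp hn hn1 hk hm N⟩

end Cfsg.Agent.Omega.NO3S.ESym

end

section


/-!
# `SymTwoL` (`V_P` = even subsets of `{1..5}`) from (Om) and the light case (E)

`ELight K` : (E) with light vectors which are not 2-central (`FiveL`); `symTwoL_of_light : Two K → OmS K (1, 2) →
ELight K → SymTwoL K`.
-/

set_option autoImplicit false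

namespace Cfsg.Agent.Omega.Node.SymOf

open Subgroup Cfsg Cfsg.Agent.ZN.ChoiceBase Cfsg.Agent.ZN.ChoiceSit
open Cfsg.Agent.ZN (jj zj bau zc zl o2)
open Cfsg.Agent.Omega.NO3S (HypL HypN HypJ Hyp PSS)
open Cfsg.Agent.Omega.Frame (Cls)
open Cfsg.Agent.Omega.Node.MultiOf

universe u

/-- **(E)**, `V_P` = even subsets of `{1..5}`, light vectors not 2-central. -/
def ELight (K : Cls.{u}) : Prop :=
  ∀ (G : Type u) [Group G] [Finite G], K G → ∀ (S : Sylow 2 G) (P K' B ZJ : Subgroup G) (ι : Type)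
    (L W Z C : ι → Subgroup G), MulS S P K' B ZJ L W Z C 1 2 → NLoc (KZ B ZJ) →
      ∀ p : Fin 5 → G, NO3S.Sym.Light.FiveL S P p → IsKnownSimple' G

variable {K : Cls.{u}}

/-- (E) from the light case. -/
theorem eS_of_light (h2 : NO3S.Two K) (hl : ELight K) : ES K fun k m => k = 1 ∧ m = 2 := by
  intro G _ _ hK S P K' B ZJ ι L W Z C k m _ _ hkm hM hN
  obtain ⟨rfl, rfl⟩ := hkm
  obtain ⟨M⟩ := hM.sym
  obtain ⟨p, hp⟩ := NO3S.Sym.Exit.exists_five hM.hyp.toHyp M.toSymK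
  by_cases hc : ∃ T₀ : Sylow 2 G, ∀ x ∈ (T₀ : Subgroup G), x * NTwo.nn p * x⁻¹ = NTwo.nn p
  · obtain ⟨T₀, hT₀⟩ := hc
    exact NO3S.Sym.Exit.known_of_central h2 hK hp T₀ hT₀
  · push Not at hc
    exact hl G hK S P K' B ZJ ι L W Z C hM hN p ⟨hp, fun T₀ h0 => by
      obtain ⟨x, hx, h1⟩ := hc T₀
      exact h1 (h0 x hx)⟩

/-- **`SymTwoL`** from (Om) and the light case (E). -/
theorem symTwoL_of_light (h2 : NO3S.Two K) (hO : OmS K fun k m => k = 1 ∧ m = 2) (hl : ELight K) :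
    NO3S.SymTwoL K := symTwoL_of hO (eS_of_light h2 hl)

end Cfsg.Agent.Omega.Node.SymOf

end
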