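import Cfsg.Agent.Mrg.Omega.Node.MulG
import Cfsg.Agent.Mrg.Omega.OM.SwapL.Main
import Cfsg.Agent.Mrg.Omega.Node.SymOf
import Cfsg.Agent.Mrg.Omega.OM.Lev.SMin

section


/-!
# `SymTwo`, `SymBig`, `SymMany` over a frame: `HypL` and the case (L) of GammaFF at the same time

As `Node/MulG.lean` (helper388), for `V_P` = `k` even-subset modules of `S_{2^m+1}`: `MulSG` = `MulS`
(`Node/SymOf.lean`) with `HypF` for `HypL` and `StgG` for `StgP`.

* `MulS.toG`, `exists_mulSG_hypL`, `exists_mulSG_caseL`; `MulSG.lb/block/fbl/fam/L_le/cases`;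
* sockets `OmSH K H c`, `ESH K H c`, `FrmS H` (`H` gives `MulSG`), `symTwoH_of`, `symManyH_of`, `symBigH_of'`;
* `ELightH`, `symTwoH_of_light` : the light case (E) over a frame;
* `omSNeg` : (Om), stage `-1` (THEOREM SW); `OmLevSH K H c` : (Om) over `Top S P K₀`; `omSH_of`.
-/

set_option autoImplicit false
set_option linter.unusedSectionVars false

namespace Cfsg.Agent.Omega.Node.SymG

open Subgroup Cfsg Cfsg.Agent.ZN.ChoiceBase Cfsg.Agent.ZN.ChoiceSit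
open Cfsg.Agent.ZN (jj zj bau zc zl o2)
open Cfsg.Agent.Omega.MinPar (IsParS)
open Cfsg.Agent.Omega.FFThm (SymK SymKM)
open Cfsg.Agent.Omega.FrameFF (cv)
open Cfsg.Agent.Omega.LemmaK (Block)
open Cfsg.Agent.Omega.NO3S (HypL HypF HypN HypJ Hyp PSS FrP CaseLP SymTwoH SymBigH SymManyH)
open Cfsg.Agent.Omega.NO3S.Level (lev nxt Lev BO lev_isLev lev_wc wc_nxt CaseL)
open Cfsg.Agent.Omega.Frame (Cls)
open Cfsg.Agent.Omega.NO3S.EThree.Frame (Bg Fg)
open Cfsg.Agent.Omega.OM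
open Cfsg.Agent.Omega.OM.LevD (LB)
open Cfsg.Agent.Omega.Node.MultiOf
open Cfsg.Agent.Omega.Node.SymOf
open Cfsg.Agent.Omega.Node.MulG

universe u

section defs

variable {G : Type u} [Group G] [Finite G]

/-- **Symmetric blocks, general frame.** -/
structure MulSG (S : Sylow 2 G) (P K B ZJ : Subgroup G) {ι : Type} (L W Z C : ι → Subgroup G) (k m : ℕ) : Prop where
  hyp : HypF S P
  stg : StgG S P K B ZJ
  sym : Nonempty (SymKM (S : Subgroup G) P (zl (S : Subgroup G) P) (cv (S : Subgroup G) P) k m)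
  fr : Fg B (o2 P) (zl (S : Subgroup G) P) ZJ L W Z C 2
  fin : Finite ι
  two : ∀ i : ι, ∃ j, j ≠ i

theorem _root_.Cfsg.Agent.Omega.Node.SymOf.MulS.toG {S : Sylow 2 G} {P K B ZJ : Subgroup G} {ι : Type}
    {L W Z C : ι → Subgroup G} {k m : ℕ} (h : MulS S P K B ZJ L W Z C k m) : MulSG S P K B ZJ L W Z C k m :=
  ⟨h.hyp.toHypF, h.stg.toG, h.sym, h.fr, h.fin, h.two⟩

theorem exists_mulSG_hypL {S : Sylow 2 G} {P : Subgroup G} (h : HypL S P) {k m : ℕ} (hk : 0 < k) (hm : 2 ≤ m)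
    (N : SymKM (S : Subgroup G) P (zl (S : Subgroup G) P) (cv (S : Subgroup G) P) k m) :
    ∃ (K B ZJ : Subgroup G) (ι : Type) (L W Z C : ι → Subgroup G), MulSG S P K B ZJ L W Z C k m := by
  obtain ⟨K, B, ZJ, ι, L, W, Z, C, h1⟩ := exists_mulS h hk hm N
  exact ⟨K, B, ZJ, ι, L, W, Z, C, h1.toG⟩

/-- The frame in the case (L). -/
theorem exists_mulSG_caseL {S : Sylow 2 G} {P : Subgroup G} (h : CaseL S P) {k m : ℕ} (hk : 0 < k) (hm : 2 ≤ m)
    (N : SymKM (S : Subgroup G) P (zl (S : Subgroup G) P) (cv (S : Subgroup G) P) k m) :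
    ∃ (K B ZJ : Subgroup G) (ι : Type) (L W Z C : ι → Subgroup G), MulSG S P K B ZJ L W Z C k m := by
  obtain ⟨ι, hι, W, d, t, r, L, A, -, -, -, -, h2, hF⟩ := Lev.Sym.exists_sym_lev FF.Glob.ffthmM
    h.ctx.char2 h.pss.par h.levQ le_rfl h.hypN.toHyp.inf_eq_bot (exists_BO_caseL h) hk hm N
  exact ⟨_, _, _, ι, L, W, _, _, h.hypF, StgG.lev _ (top_caseL h), ⟨N⟩, Lev.Main.toFg hF, hι, h2⟩

namespace MulSG

variable {S : Sylow 2 G} {P K B ZJ : Subgroup G} {ι : Type} {L W Z C : ι → Subgroup G} {k m : ℕ}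
  (h : MulSG S P K B ZJ L W Z C k m)
include h

theorem lb : LB S K B ZJ := h.stg.lb

theorem block (i : ι) : Block 2 B (L i) (W i) := (h.fr.blk i).toBlock (h.fr.cardZ i) h.lb.Bp h.lb.weakNormal

theorem fbl (i : ι) : FBl B (L i) (W i) := ⟨⟨_, _, h.fr.blk i⟩, h.block i⟩

theorem fam : LevD.Fam B ZJ (FBl B) where
  blk := fun _ _ hb => hb.blk
  conj := fun _ hn _ _ hb => hb.conj hn
  zj_le := by
    have := h.fin
    refine (h.fr.ZJV.trans (Fg_V_le h.fr)).trans (iSup_le fun i => ?_)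
    exact le_iSup (fun i : {x : Subgroup G × Subgroup G // FBl B x.1 x.2} => i.1.2) ⟨(L i, W i), h.fbl i⟩

theorem L_le (i : ι) : L i ≤ KZ B ZJ := LevD.blk_le_K0 (h.fbl i)

/-- **the dichotomy** -/
theorem cases : NLoc (KZ B ZJ) ∨ (o2 (KZ B ZJ) ≠ ⊥ ∧ o2 (KZ B ZJ) ≤ B ∧
    KZ B ZJ ⊔ normalizer (B : Set G) ≤ normalizer (o2 (KZ B ZJ) : Set G)) := by
  by_cases h0 : NLoc (KZ B ZJ)
  · exact Or.inl h0
  · right
    unfold NLoc at h0
    push Not at h0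
    obtain ⟨R, hR, hRn, hR1⟩ := h0
    exact LevD.Fam.dich h.lb h.fam hR hR1 hRn

end MulSG

end defs

/-! ### Sockets over a frame `H` -/

section sockets

variable (K : Cls.{u}) (H : FrP.{u}) (c : ℕ → ℕ → Prop)

/-- **(Om)** over the frame `H`, for the `(k, m)` with `c k m`. -/
def OmSH : Prop :=
  ∀ (G : Type u) [Group G] [Finite G], K G → ∀ (S : Sylow 2 G) (P K' B ZJ : Subgroup G) (ι : Type)
    (L W Z C : ι → Subgroup G) (k m : ℕ), H G S P → 0 < k → 2 ≤ m → c k m → MulSG S P K' B ZJ L W Z C k m →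
      o2 (KZ B ZJ) ≠ ⊥ → o2 (KZ B ZJ) ≤ B →
      KZ B ZJ ⊔ normalizer (B : Set G) ≤ normalizer (o2 (KZ B ZJ) : Set G) → IsKnownSimple' G

/-- **(E)** over the frame `H`, for the `(k, m)` with `c k m`. -/
def ESH : Prop :=
  ∀ (G : Type u) [Group G] [Finite G], K G → ∀ (S : Sylow 2 G) (P K' B ZJ : Subgroup G) (ι : Type)
    (L W Z C : ι → Subgroup G) (k m : ℕ), H G S P → 0 < k → 2 ≤ m → c k m → MulSG S P K' B ZJ L W Z C k m →
      NLoc (KZ B ZJ) → IsKnownSimple' G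

/-- **(E)** over the frame `H`, `V_P` = even subsets of `{1..5}`, light vectors not 2-central. -/
def ELightH : Prop :=
  ∀ (G : Type u) [Group G] [Finite G], K G → ∀ (S : Sylow 2 G) (P K' B ZJ : Subgroup G) (ι : Type)
    (L W Z C : ι → Subgroup G), H G S P → MulSG S P K' B ZJ L W Z C 1 2 → NLoc (KZ B ZJ) →
      ∀ p : Fin 5 → G, NO3S.Sym.Light.FiveL S P p → IsKnownSimple' G

/-- **(Om)** over the frame `H`, level `K₀` (`Top S P K₀`), for the `(k, m)` with `c k m`. -/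
def OmLevSH : Prop :=
  ∀ (G : Type u) [Group G] [Finite G], K G → ∀ (S : Sylow 2 G) (P K₀ : Subgroup G) (ι : Type)
    (L W Z C : ι → Subgroup G) (k m : ℕ), H G S P → 0 < k → 2 ≤ m → c k m → Top S P K₀ →
      MulSG S P (nxt (S : Subgroup G) K₀) ((S : Subgroup G) ⊓ centralizer (zc (nxt (S : Subgroup G) K₀) : Set G))
        (zc (nxt (S : Subgroup G) K₀)) L W Z C k m →
      o2 (KZ ((S : Subgroup G) ⊓ centralizer (zc (nxt (S : Subgroup G) K₀) : Set G))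
        (zc (nxt (S : Subgroup G) K₀))) ≠ ⊥ → IsKnownSimple' G

end sockets

/-- `H` gives the general symmetric frame. -/
def FrmS (H : FrP.{u}) : Prop :=
  ∀ (G : Type u) [Group G] [Finite G] (S : Sylow 2 G) (P : Subgroup G), H G S P →
    ∀ (k m : ℕ), 0 < k → 2 ≤ m →
      SymKM (S : Subgroup G) P (zl (S : Subgroup G) P) (cv (S : Subgroup G) P) k m →
        ∃ (K B ZJ : Subgroup G) (ι : Type) (L W Z C : ι → Subgroup G), MulSG S P K B ZJ L W Z C k m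

theorem frmS_hypL : FrmS HypLP.{u} := fun _ _ _ _ _ h _ _ hk hm N => exists_mulSG_hypL h hk hm N

theorem frmS_caseL : FrmS CaseLP.{u} := fun _ _ _ _ _ h _ _ hk hm N => exists_mulSG_caseL h hk hm N

/-- The frame gives `Hyp`. -/
theorem FrmS.hyp {H : FrP.{u}} (hH : FrmS H) {G : Type u} [Group G] [Finite G] {S : Sylow 2 G} {P : Subgroup G}
    (h : H G S P) {k m : ℕ} (hk : 0 < k) (hm : 2 ≤ m)
    (N : SymKM (S : Subgroup G) P (zl (S : Subgroup G) P) (cv (S : Subgroup G) P) k m) : HypF S P := by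
  obtain ⟨_, _, _, _, _, _, _, _, h1⟩ := hH G S P h k m hk hm N
  exact h1.hyp

variable {K : Cls.{u}} {H : FrP.{u}}

theorem known_of (hH : FrmS H) {c : ℕ → ℕ → Prop} (hO : OmSH K H c) (hE : ESH K H c) (G : Type u) [Group G]
    [Finite G] (hK : K G) (S : Sylow 2 G) (P : Subgroup G) (h : H G S P) (k m : ℕ) (hk : 0 < k) (hm : 2 ≤ m)
    (hc : c k m) (N : SymKM (S : Subgroup G) P (zl (S : Subgroup G) P) (cv (S : Subgroup G) P) k m) :
    IsKnownSimple' G := by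
  obtain ⟨K', B, ZJ, ι, L, W, Z, C, hM⟩ := hH G S P h k m hk hm N
  rcases hM.cases with h1 | ⟨h1, h2, h3⟩
  · exact hE G hK S P K' B ZJ ι L W Z C _ _ h hk hm hc hM h1
  · exact hO G hK S P K' B ZJ ι L W Z C _ _ h hk hm hc hM h1 h2 h3

/-- **`SymTwoH K H`** -/
theorem symTwoH_of' (hH : FrmS H) (hO : OmSH K H fun k m => k = 1 ∧ m = 2) (hE : ESH K H fun k m => k = 1 ∧ m = 2) :
    SymTwoH K H := by
  intro G _ _ hK S P h N
  exact known_of hH (c := fun k m => k = 1 ∧ m = 2) hO hE G hK S P h 1 2 one_pos le_rfl ⟨rfl, rfl⟩ N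

/-- **`SymBigH K H`** -/
theorem symBigH_of' (hH : FrmS H) (hO : OmSH K H fun k m => k = 1 ∧ 3 ≤ m) (hE : ESH K H fun k m => k = 1 ∧ 3 ≤ m) :
    SymBigH K H := by
  intro G _ _ hK S P h m hm N
  exact known_of hH (c := fun k m => k = 1 ∧ 3 ≤ m) hO hE G hK S P h 1 m one_pos (by omega) ⟨rfl, hm⟩ N

/-- **`SymManyH K H`** -/
theorem symManyH_of' (hH : FrmS H) (hO : OmSH K H fun k _ => 2 ≤ k) (hE : ESH K H fun k _ => 2 ≤ k) :
    SymManyH K H := by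
  intro G _ _ hK S P h k m hk hm N
  exact known_of hH (c := fun k _ => 2 ≤ k) hO hE G hK S P h k m (by omega) hm hk N

/-- (E), `(k, m) = (1, 2)`, from the light case. -/
theorem eSH_of_light (h2 : NO3S.Two K) (hl : ELightH K H) : ESH K H fun k m => k = 1 ∧ m = 2 := by
  intro G _ _ hK S P K' B ZJ ι L W Z C k m h _ _ hkm hM hN
  obtain ⟨rfl, rfl⟩ := hkm
  obtain ⟨M⟩ := hM.sym
  obtain ⟨p, hp⟩ := NO3S.Sym.Exit.exists_five hM.hyp.toHyp M.toSymK
  by_cases hc : ∃ T₀ : Sylow 2 G, ∀ x ∈ (T₀ : Subgroup G), x * NTwo.nn p * x⁻¹ = NTwo.nn p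
  · obtain ⟨T₀, hT₀⟩ := hc
    exact NO3S.Sym.Exit.known_of_central h2 hK hp T₀ hT₀
  · push Not at hc
    exact hl G hK S P K' B ZJ ι L W Z C h hM hN p ⟨hp, fun T₀ h0 => by
      obtain ⟨x, hx, h1⟩ := hc T₀
      exact h1 (h0 x hx)⟩

/-- **`SymTwoH K H`** from (Om) and the light case (E). -/
theorem symTwoH_of_light (hH : FrmS H) (h2 : NO3S.Two K) (hO : OmSH K H fun k m => k = 1 ∧ m = 2)
    (hl : ELightH K H) : SymTwoH K H := symTwoH_of' hH hO (eSH_of_light h2 hl)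

/-- weaker conditions -/
theorem OmSH.mono {c c' : ℕ → ℕ → Prop} (h : OmSH K H c) (hc : ∀ k m, c' k m → c k m) : OmSH K H c' :=
  fun G _ _ hK S P K' B ZJ ι L W Z C k m hH hk hm hc' => h G hK S P K' B ZJ ι L W Z C k m hH hk hm (hc k m hc')

theorem ESH.mono {c c' : ℕ → ℕ → Prop} (h : ESH K H c) (hc : ∀ k m, c' k m → c k m) : ESH K H c' :=
  fun G _ _ hK S P K' B ZJ ι L W Z C k m hH hk hm hc' => h G hK S P K' B ZJ ι L W Z C k m hH hk hm (hc k m hc')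

/-- **(Om) over a frame**: stage `-1` is THEOREM SW. -/
theorem omSH_of {c : ℕ → ℕ → Prop} (hl : OmLevSH K H c) : OmSH K H c := by
  intro G _ _ hK S P K' B ZJ ι L W Z C k m h hk hm hc hM ho _ _
  obtain ⟨hyp, stg, ⟨N⟩, fr, fin, two⟩ := hM
  cases stg with
  | neg hj => exact absurd (noOm_neg Swap.sitFalse FF.Glob.ffthm FF.Glob.aStmt ⟨hyp.toHypN, hj⟩ hk hm N.toSymK _
      (isPGroup_o2 _) (le_normalizer_o2 _)) ho
  | lev K₀ hT => exact hl G hK S P K₀ ι L W Z C k m h hk hm hc hT ⟨hyp, StgG.lev K₀ hT, ⟨N⟩, fr, fin, two⟩ ho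

/-- `ESH` over `HypL` gives the old socket. -/
theorem eS_of_H {c : ℕ → ℕ → Prop} (h : ESH K HypLP c) : ES K c :=
  fun G _ _ hK S P K' B ZJ ι L W Z C k m hk hm hc hM hN =>
    h G hK S P K' B ZJ ι L W Z C k m hM.hyp hk hm hc hM.toG hN

theorem eLight_of_H (h : ELightH K HypLP) : ELight K :=
  fun G _ _ hK S P K' B ZJ ι L W Z C hM hN p hp =>
    h G hK S P K' B ZJ ι L W Z C hM.hyp hM.toG hN p hp

end Cfsg.Agent.Omega.Node.SymG

end

section


/-!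
# The dichotomy over the case (L) of GammaFF: `KX = ⟨C_G(Z_J), FF-blocks (L', V') over B with V' ≤ X⟩`

In the case (L) an FF-block `(L', V')` over `B` need not be centralised by `O₂(P)`; only the blocks with
`V' ≤ X = V_P = Ω₁(Z(O₂(P)))` are used.

* `FBX B X`, `KX B ZJ X`; `famX`, `casesX` : the dichotomy; `KX_le` : `KX ≤ KZ`;
* `uniX` : UNI+ over `FrL` for the blocks with `V' ≤ X` (any index type, any `q`); `uniTwoX`, `KX_eq` (`q = 2`):
  `KX = ⟨C_G(Z_J), L_i⟩`;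
* `MulL` : the frame of `CaseL`, `V_P` natural; `exists_mulL`; sockets `OmX K c`, `EX K c`; `multiTwoX_of`, `multiQX_of`;
* `SymL` : the frame of `CaseL`, `V_P` symmetric; `exists_symL`; sockets `OmSX K c`, `ESX K c`; `symX_of`.
-/

set_option autoImplicit false
set_option linter.unusedSectionVars false

namespace Cfsg.Agent.Omega.Node.MulX

open Subgroup Cfsg Cfsg.Agent.ZN.ChoiceBase Cfsg.Agent.ZN.ChoiceSit
open Cfsg.Agent.ZN (jj zj bau zc zl o2)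
open Cfsg.Agent.Omega.FFThm (NatK NatKM SymKM)
open Cfsg.Agent.Omega.FrameFF (cv)
open Cfsg.Agent.Omega.NO3S (HypF HypN Hyp FrP CaseLP MultiTwoH MultiQH SymTwoH SymBigH SymManyH)
open Cfsg.Agent.Omega.NO3S.Level (lev nxt Lev BO CaseL)
open Cfsg.Agent.Omega.Frame (Cls)
open Cfsg.Agent.Omega.NO3S.EThree.Frame (Bg Fg)
open Cfsg.Agent.Omega.OM
open Cfsg.Agent.Omega.OM.LevD (LB)
open Cfsg.Agent.Omega.OM.Uni
open Cfsg.Agent.Omega.OM.Lev.Uni (FrL)
open Cfsg.Agent.Omega.Node.MultiOf Cfsg.Agent.Omega.Node.MulG Cfsg.Agent.Omega.Node.SymG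

universe u

/-! ### The blocks in `X` -/

section blocks

variable {G : Type u} [Group G]

/-- the FF-blocks over `B` with module in `X` -/
def FBX (B X L V : Subgroup G) : Prop := FBl B L V ∧ V ≤ X

/-- `⟨C_G(Z_J), FF-blocks over B with module in X⟩` -/
def KX (B ZJ X : Subgroup G) : Subgroup G := LevD.K0 ZJ (FBX B X)

theorem KX_le {B ZJ X : Subgroup G} : KX B ZJ X ≤ KZ B ZJ :=
  sup_le LevD.cent_le_K0 (iSup_le fun i => LevD.blk_le_K0 (𝓑 := FBl B) i.2.1)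

theorem cent_le {B ZJ X : Subgroup G} : centralizer (ZJ : Set G) ≤ KX B ZJ X := LevD.cent_le_K0

theorem blk_le {B ZJ X L V : Subgroup G} (h : FBX B X L V) : L ≤ KX B ZJ X := LevD.blk_le_K0 h

variable [Finite G] {S : Sylow 2 G} {K B ZJ X : Subgroup G} {ι : Type} {L W : ι → Subgroup G}

theorem famX (hX : normalizer (B : Set G) ≤ normalizer (X : Set G)) (hb : ∀ i, FBl B (L i) (W i))
    (hW : ∀ i, W i ≤ X) (hZ : ZJ ≤ ⨆ i, W i) : LevD.Fam B ZJ (FBX B X) where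
  blk := fun _ _ h => h.1.blk
  conj := fun n hn _ _ h => ⟨h.1.conj hn, by
    rw [← cj_eq_of_mem_normalizer (hX hn)]; exact cj_mono n h.2⟩
  zj_le := hZ.trans (iSup_le fun i =>
    le_iSup (fun i : {x : Subgroup G × Subgroup G // FBX B X x.1 x.2} => i.1.2) ⟨(L i, W i), hb i, hW i⟩)

/-- **the dichotomy** -/
theorem casesX (hL : LB S K B ZJ) (hF : LevD.Fam B ZJ (FBX B X)) :
    NLoc (KX B ZJ X) ∨ (o2 (KX B ZJ X) ≠ ⊥ ∧ o2 (KX B ZJ X) ≤ B ∧
      KX B ZJ X ⊔ normalizer (B : Set G) ≤ normalizer (o2 (KX B ZJ X) : Set G)) := by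
  by_cases h0 : NLoc (KX B ZJ X)
  · exact Or.inl h0
  · right
    unfold NLoc at h0
    push Not at h0
    obtain ⟨R, hR, hRn, hR1⟩ := h0
    exact LevD.Fam.dich hL hF hR hR1 hRn

end blocks

/-! ### UNI+ -/

section uni

variable {G : Type u} [Group G] [Finite G]

/-- **UNI+ over a level, all FF-blocks over `B` with module in `Ω₁(Z(K₀))`.** -/
theorem uniX {ι : Type*} [Finite ι] (S : Sylow 2 G) {K₀ B Q V X ZJ : Subgroup G} {L W Z C A : ι → Subgroup G}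
    {q : ℕ} (hK : Lev (S : Subgroup G) K₀) (eX : X = zc K₀)
    (eqB : B = (S : Subgroup G) ⊓ centralizer (zc (nxt (S : Subgroup G) K₀) : Set G))
    (h : FrL B Q V X ZJ L W Z C A q) {L' V' : Subgroup G} (h' : FBX B X L' V') :
    ∃ Z', FB B L' V' Z' q ∧ ∃ i, Z' = Z i ∧ UniPlus.NB B L' V' (Z i) q ∧ V' ≤ W i ⊔ ZJ ∧
      (∀ z ∈ ZJ, z ∈ C i ↔ ∀ l ∈ L', l * z = z * l) ∧
        (q = 2 → V' = W i ∧ L' ≤ L i ⊔ centralizer ((W i ⊔ ZJ : Subgroup G) : Set G)) := by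
  obtain ⟨⟨⟨Z', q', hF⟩, hb⟩, hX⟩ := h'
  have hB : IsPGroup 2 B := S.isPGroup'.to_le (eqB ▸ inf_le_left)
  have hWC := Lev.Wc.wc_cent_Lev hK.next eqB
  have hp : ∀ g ∈ normalizer (B : Set G), ∀ j, ∃ k, cj g (Z j) = Z k := by
    intro g hg j
    have h1 := Lev.Wc.norm_B_Lev hK eqB hg
    obtain ⟨k, hk, -⟩ := (h.norm_of hg (by rw [eX]; exact NO3S.Level.normalizer_le_zc _ h1)).2 j
    exact ⟨k, hk⟩
  obtain ⟨rfl, i, hZ, h1⟩ := Lev.UniPlus.uniPlusX h hB hWC hp hF hX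
  exact ⟨Z', hF, i, hZ, h1⟩

/-- **UNI+, `q = 2`.** -/
theorem uniTwoX {ι : Type*} [Finite ι] (S : Sylow 2 G) {K₀ B Q V X ZJ : Subgroup G} {L W Z C A : ι → Subgroup G}
    (hK : Lev (S : Subgroup G) K₀) (eX : X = zc K₀)
    (eqB : B = (S : Subgroup G) ⊓ centralizer (zc (nxt (S : Subgroup G) K₀) : Set G))
    (h : FrL B Q V X ZJ L W Z C A 2) {L' V' : Subgroup G} (h' : FBX B X L' V') :
    ∃ i, V' = W i ∧ L' ≤ L i ⊔ centralizer ((W i ⊔ ZJ : Subgroup G) : Set G) := by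
  obtain ⟨-, -, i, -, -, -, -, h1⟩ := uniX S hK eX eqB h h'
  exact ⟨i, h1 rfl⟩

/-- **`KX = ⟨C_G(Z_J), L_i⟩`**, `q = 2`. -/
theorem KX_eq {ι : Type} [Finite ι] (S : Sylow 2 G) {K₀ B Q V X ZJ : Subgroup G} {L W Z C A : ι → Subgroup G}
    (hK : Lev (S : Subgroup G) K₀) (eX : X = zc K₀)
    (eqB : B = (S : Subgroup G) ⊓ centralizer (zc (nxt (S : Subgroup G) K₀) : Set G))
    (h : FrL B Q V X ZJ L W Z C A 2) (hb : ∀ i, FBl B (L i) (W i)) :
    KX B ZJ X = centralizer (ZJ : Set G) ⊔ ⨆ i, L i := by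
  apply le_antisymm
  · refine sup_le le_sup_left (iSup_le ?_)
    rintro ⟨⟨L', V'⟩, hb'⟩
    obtain ⟨i, -, hle⟩ := uniTwoX S hK eX eqB h hb'
    refine hle.trans (sup_le (le_sup_of_le_right (le_iSup L i)) (le_sup_of_le_left (centralizer_le ?_)))
    exact_mod_cast (le_sup_right : ZJ ≤ W i ⊔ ZJ)
  · exact sup_le cent_le (iSup_le fun i => blk_le ⟨hb i, (h.WV i).trans h.VX⟩)

end uni

/-! ### `CaseL`, natural blocks -/

section nat

variable {G : Type u} [Group G] [Finite G]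

/-- **Several natural blocks in the case (L).** -/
structure MulL (S : Sylow 2 G) (P B ZJ : Subgroup G) {k : ℕ} (L W Z C A : Fin k → Subgroup G) (q : ℕ) : Prop where
  cl : CaseL S P
  eZ : ZJ = zc (nxt (S : Subgroup G) (o2 P))
  eB : B = (S : Subgroup G) ⊓ centralizer (ZJ : Set G)
  bg : Bg S P B ZJ L W Z C q
  fr : FrL B (o2 P) (zl (S : Subgroup G) P) (zl (S : Subgroup G) P) ZJ L W Z C A q
  nat : ∃ (F : Type) (_ : Field F) (_ : Finite F) (_ : CharP F 2), Nat.card F = q ∧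
    Nonempty (NatKM F (S : Subgroup G) P (zl (S : Subgroup G) P) (cv (S : Subgroup G) P) k)

theorem exists_mulL {S : Sylow 2 G} {P : Subgroup G} (h : CaseL S P) {F : Type} [Field F] [Finite F]
    [CharP F 2] {k : ℕ} (hk : 2 ≤ k)
    (N : NatKM F (S : Subgroup G) P (zl (S : Subgroup G) P) (cv (S : Subgroup G) P) k) :
    ∃ (B ZJ : Subgroup G) (L W Z C A : Fin k → Subgroup G), MulL S P B ZJ L W Z C A (Nat.card F) := by
  obtain ⟨M, L, Z, A, -, hF, hB, -⟩ := Lev.Main.bg_K h.hypN h.levQ le_rfl (exists_BO_caseL h) hk N rfl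
  rw [h.zc_eq] at hF
  exact ⟨_, _, L, _, Z, _, A, h, rfl, rfl, hB, hF, F, inferInstance, inferInstance, inferInstance, rfl, ⟨N⟩⟩

namespace MulL

variable {S : Sylow 2 G} {P B ZJ : Subgroup G} {k : ℕ} {L W Z C A : Fin k → Subgroup G} {q : ℕ}
  (h : MulL S P B ZJ L W Z C A q)
include h

theorem toG : MulG S P (nxt (S : Subgroup G) (o2 P)) B ZJ L W Z C q := by
  obtain ⟨h1, rfl, rfl, h2, -, h3⟩ := h
  exact ⟨h1.hypF, StgG.lev _ (top_caseL h1), h2, h3⟩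

theorem lb : LB S (nxt (S : Subgroup G) (o2 P)) B ZJ := h.toG.lb

theorem eqB : B = (S : Subgroup G) ⊓ centralizer (zc (nxt (S : Subgroup G) (o2 P)) : Set G) := by
  rw [h.eB, h.eZ]

theorem fbx (i : Fin k) : FBX B (zl (S : Subgroup G) P) (L i) (W i) := ⟨h.toG.fbl i, h.fr.WV i⟩

/-- `N_G(B) ≤ N_G(V_P)` -/
theorem norm_le : normalizer (B : Set G) ≤ normalizer (zl (S : Subgroup G) P : Set G) :=
  h.cl.norm_le h.fr.QB (h.eB.trans_le inf_le_left)

theorem fam : LevD.Fam B ZJ (FBX B (zl (S : Subgroup G) P)) :=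
  famX h.norm_le h.toG.fbl h.fr.WV (h.fr.ZJV.trans (Fg_V_le h.bg.fr))

/-- **the dichotomy** -/
theorem cases : NLoc (KX B ZJ (zl (S : Subgroup G) P)) ∨ (o2 (KX B ZJ (zl (S : Subgroup G) P)) ≠ ⊥ ∧
    o2 (KX B ZJ (zl (S : Subgroup G) P)) ≤ B ∧
    KX B ZJ (zl (S : Subgroup G) P) ⊔ normalizer (B : Set G) ≤
      normalizer (o2 (KX B ZJ (zl (S : Subgroup G) P)) : Set G)) := casesX h.lb h.fam

theorem uni {L' V' : Subgroup G} (h' : FBX B (zl (S : Subgroup G) P) L' V') :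
    ∃ Z', FB B L' V' Z' q ∧ ∃ i, Z' = Z i ∧ UniPlus.NB B L' V' (Z i) q ∧ V' ≤ W i ⊔ ZJ ∧
      (∀ z ∈ ZJ, z ∈ C i ↔ ∀ l ∈ L', l * z = z * l) ∧
        (q = 2 → V' = W i ∧ L' ≤ L i ⊔ centralizer ((W i ⊔ ZJ : Subgroup G) : Set G)) := by
  exact uniX S h.cl.levQ h.cl.zc_eq.symm h.eqB h.fr h'

end MulL

/-- **`KX = ⟨C_G(Z_J), L_i⟩`**, `q = 2`. -/
theorem MulL.KX_eq {S : Sylow 2 G} {P B ZJ : Subgroup G} {k : ℕ} {L W Z C A : Fin k → Subgroup G}
    (h : MulL S P B ZJ L W Z C A 2) :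
    KX B ZJ (zl (S : Subgroup G) P) = centralizer (ZJ : Set G) ⊔ ⨆ i, L i := by
  exact MulX.KX_eq S h.cl.levQ h.cl.zc_eq.symm h.eqB h.fr h.toG.fbl

end nat

/-! ### `CaseL`, symmetric blocks -/

section sym

variable {G : Type u} [Group G] [Finite G]

/-- **Symmetric blocks in the case (L).** -/
structure SymL (S : Sylow 2 G) (P B ZJ : Subgroup G) {ι : Type} (L W Z C A : ι → Subgroup G) (k m : ℕ) : Prop where
  cl : CaseL S P
  eZ : ZJ = zc (nxt (S : Subgroup G) (o2 P))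
  eB : B = (S : Subgroup G) ⊓ centralizer (ZJ : Set G)
  sym : Nonempty (SymKM (S : Subgroup G) P (zl (S : Subgroup G) P) (cv (S : Subgroup G) P) k m)
  fr : FrL B (o2 P) (zl (S : Subgroup G) P) (zl (S : Subgroup G) P) ZJ L W Z C A 2
  fin : Finite ι
  two : ∀ i : ι, ∃ j, j ≠ i

theorem exists_symL {S : Sylow 2 G} {P : Subgroup G} (h : CaseL S P) {k m : ℕ} (hk : 0 < k) (hm : 2 ≤ m)
    (N : SymKM (S : Subgroup G) P (zl (S : Subgroup G) P) (cv (S : Subgroup G) P) k m) :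
    ∃ (B ZJ : Subgroup G) (ι : Type) (L W Z C A : ι → Subgroup G), SymL S P B ZJ L W Z C A k m := by
  obtain ⟨ι, hι, W, d, t, r, L, A, -, -, -, -, h2, hF⟩ := Lev.Sym.exists_sym_lev FF.Glob.ffthmM
    h.ctx.char2 h.pss.par h.levQ le_rfl h.hypN.toHyp.inf_eq_bot (exists_BO_caseL h) hk hm N
  rw [h.zc_eq] at hF
  exact ⟨_, _, ι, L, W, _, _, A, h, rfl, rfl, ⟨N⟩, hF, hι, h2⟩

namespace SymL

variable {S : Sylow 2 G} {P B ZJ : Subgroup G} {ι : Type} {L W Z C A : ι → Subgroup G} {k m : ℕ}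
  (h : SymL S P B ZJ L W Z C A k m)
include h

theorem toG : MulSG S P (nxt (S : Subgroup G) (o2 P)) B ZJ L W Z C k m := by
  obtain ⟨h1, rfl, rfl, h2, h3, h4, h5⟩ := h
  exact ⟨h1.hypF, StgG.lev _ (top_caseL h1), h2, Lev.Main.toFg h3, h4, h5⟩

theorem lb : LB S (nxt (S : Subgroup G) (o2 P)) B ZJ := h.toG.lb

theorem eqB : B = (S : Subgroup G) ⊓ centralizer (zc (nxt (S : Subgroup G) (o2 P)) : Set G) := by
  rw [h.eB, h.eZ]

theorem fbx (i : ι) : FBX B (zl (S : Subgroup G) P) (L i) (W i) := ⟨h.toG.fbl i, h.fr.WV i⟩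

theorem norm_le : normalizer (B : Set G) ≤ normalizer (zl (S : Subgroup G) P : Set G) :=
  h.cl.norm_le h.fr.QB (h.eB.trans_le inf_le_left)

theorem fam : LevD.Fam B ZJ (FBX B (zl (S : Subgroup G) P)) := by
  have := h.fin
  exact famX h.norm_le h.toG.fbl h.fr.WV (h.fr.ZJV.trans (Fg_V_le h.toG.fr))

/-- **the dichotomy** -/
theorem cases : NLoc (KX B ZJ (zl (S : Subgroup G) P)) ∨ (o2 (KX B ZJ (zl (S : Subgroup G) P)) ≠ ⊥ ∧
    o2 (KX B ZJ (zl (S : Subgroup G) P)) ≤ B ∧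
    KX B ZJ (zl (S : Subgroup G) P) ⊔ normalizer (B : Set G) ≤
      normalizer (o2 (KX B ZJ (zl (S : Subgroup G) P)) : Set G)) := casesX h.lb h.fam

/-- **`KX = ⟨C_G(Z_J), L_i⟩`** -/
theorem KX_eq : KX B ZJ (zl (S : Subgroup G) P) = centralizer (ZJ : Set G) ⊔ ⨆ i, L i := by
  have := h.fin
  exact MulX.KX_eq S h.cl.levQ h.cl.zc_eq.symm h.eqB h.fr h.toG.fbl

end SymL

end sym

/-! ### Sockets -/

section sockets

variable (K : Cls.{u}) (c : ℕ → ℕ → Prop)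

/-- **(Om)**, case (L), natural blocks, for the `(k, q)` with `c k q`. -/
def OmX : Prop :=
  ∀ (G : Type u) [Group G] [Finite G], K G → ∀ (S : Sylow 2 G) (P B ZJ : Subgroup G) (k : ℕ)
    (L W Z C A : Fin k → Subgroup G) (q : ℕ), 2 ≤ k → c k q → MulL S P B ZJ L W Z C A q →
      o2 (KX B ZJ (zl (S : Subgroup G) P)) ≠ ⊥ → o2 (KX B ZJ (zl (S : Subgroup G) P)) ≤ B →
      KX B ZJ (zl (S : Subgroup G) P) ⊔ normalizer (B : Set G) ≤
        normalizer (o2 (KX B ZJ (zl (S : Subgroup G) P)) : Set G) → IsKnownSimple' G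

/-- **(E)**, case (L), natural blocks, for the `(k, q)` with `c k q`. -/
def EX : Prop :=
  ∀ (G : Type u) [Group G] [Finite G], K G → ∀ (S : Sylow 2 G) (P B ZJ : Subgroup G) (k : ℕ)
    (L W Z C A : Fin k → Subgroup G) (q : ℕ), 2 ≤ k → c k q → MulL S P B ZJ L W Z C A q →
      NLoc (KX B ZJ (zl (S : Subgroup G) P)) → IsKnownSimple' G

/-- **(Om)**, case (L), symmetric blocks, for the `(k, m)` with `c k m`. -/
def OmSX : Prop :=
  ∀ (G : Type u) [Group G] [Finite G], K G → ∀ (S : Sylow 2 G) (P B ZJ : Subgroup G) (ι : Type)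
    (L W Z C A : ι → Subgroup G) (k m : ℕ), 0 < k → 2 ≤ m → c k m → SymL S P B ZJ L W Z C A k m →
      o2 (KX B ZJ (zl (S : Subgroup G) P)) ≠ ⊥ → o2 (KX B ZJ (zl (S : Subgroup G) P)) ≤ B →
      KX B ZJ (zl (S : Subgroup G) P) ⊔ normalizer (B : Set G) ≤
        normalizer (o2 (KX B ZJ (zl (S : Subgroup G) P)) : Set G) → IsKnownSimple' G

/-- **(E)**, case (L), symmetric blocks, for the `(k, m)` with `c k m`. -/
def ESX : Prop :=
  ∀ (G : Type u) [Group G] [Finite G], K G → ∀ (S : Sylow 2 G) (P B ZJ : Subgroup G) (ι : Type)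
    (L W Z C A : ι → Subgroup G) (k m : ℕ), 0 < k → 2 ≤ m → c k m → SymL S P B ZJ L W Z C A k m →
      NLoc (centralizer (ZJ : Set G) ⊔ ⨆ i, L i) → IsKnownSimple' G

end sockets

variable {K : Cls.{u}}

theorem known_of {c : ℕ → ℕ → Prop} (hO : OmX K c) (hE : EX K c) (G : Type u) [Group G] [Finite G] (hK : K G)
    (S : Sylow 2 G) (P : Subgroup G) (h : CaseL S P) (F : Type) [Field F] [Finite F] [CharP F 2] (k : ℕ) (hk : 2 ≤ k)
    (hc : c k (Nat.card F))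
    (N : NatKM F (S : Subgroup G) P (zl (S : Subgroup G) P) (cv (S : Subgroup G) P) k) : IsKnownSimple' G := by
  obtain ⟨B, ZJ, L, W, Z, C, A, hM⟩ := exists_mulL h hk N
  rcases hM.cases with h1 | ⟨h1, h2, h3⟩
  · exact hE G hK S P B ZJ k L W Z C A _ hk hc hM h1
  · exact hO G hK S P B ZJ k L W Z C A _ hk hc hM h1 h2 h3

/-- **`MultiTwoH K CaseLP`.** -/
theorem multiTwoX_of (hO : OmX K fun _ q => q = 2) (hE : EX K fun k q => k = 2 ∧ q = 2)
    (hE' : EX K fun k q => 3 ≤ k ∧ q = 2) : MultiTwoH K CaseLP := by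
  intro G _ _ hK S P h F _ _ _ k hk hq N
  refine known_of (c := fun _ q => q = 2) hO ?_ G hK S P h F k hk hq N
  intro G _ _ hK S P B ZJ k L W Z C A q hk hq hM hN
  rcases Nat.lt_or_ge k 3 with hk3 | hk3
  · exact hE G hK S P B ZJ k L W Z C A q hk ⟨by omega, hq⟩ hM hN
  · exact hE' G hK S P B ZJ k L W Z C A q hk ⟨hk3, hq⟩ hM hN

/-- **`MultiQH K CaseLP`.** -/
theorem multiQX_of (hO : OmX K fun _ q => 4 ≤ q) (hE : EX K fun k q => k = 2 ∧ 4 ≤ q)
    (hE' : EX K fun k q => 3 ≤ k ∧ 4 ≤ q) : MultiQH K CaseLP := by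
  intro G _ _ hK S P h F _ _ _ k hk hq N
  refine known_of (c := fun _ q => 4 ≤ q) hO ?_ G hK S P h F k hk hq N
  intro G _ _ hK S P B ZJ k L W Z C A q hk hq hM hN
  rcases Nat.lt_or_ge k 3 with hk3 | hk3
  · exact hE G hK S P B ZJ k L W Z C A q hk ⟨by omega, hq⟩ hM hN
  · exact hE' G hK S P B ZJ k L W Z C A q hk ⟨hk3, hq⟩ hM hN

theorem knownS_of {c : ℕ → ℕ → Prop} (hO : OmSX K c) (hE : ESX K c) (G : Type u) [Group G] [Finite G] (hK : K G)
    (S : Sylow 2 G) (P : Subgroup G) (h : CaseL S P) (k m : ℕ) (hk : 0 < k) (hm : 2 ≤ m) (hc : c k m)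
    (N : SymKM (S : Subgroup G) P (zl (S : Subgroup G) P) (cv (S : Subgroup G) P) k m) : IsKnownSimple' G := by
  obtain ⟨B, ZJ, ι, L, W, Z, C, A, hM⟩ := exists_symL h hk hm N
  rcases hM.cases with h1 | ⟨h1, h2, h3⟩
  · exact hE G hK S P B ZJ ι L W Z C A _ _ hk hm hc hM (hM.KX_eq ▸ h1)
  · exact hO G hK S P B ZJ ι L W Z C A _ _ hk hm hc hM h1 h2 h3

/-- **`SymTwoH K CaseLP`** -/
theorem symTwoX_of (hO : OmSX K fun k m => k = 1 ∧ m = 2) (hE : ESX K fun k m => k = 1 ∧ m = 2) :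
    SymTwoH K CaseLP := by
  intro G _ _ hK S P h N
  exact knownS_of (c := fun k m => k = 1 ∧ m = 2) hO hE G hK S P h 1 2 one_pos le_rfl ⟨rfl, rfl⟩ N

/-- **`SymBigH K CaseLP`** -/
theorem symBigX_of (hO : OmSX K fun k m => k = 1 ∧ 3 ≤ m) (hE : ESX K fun k m => k = 1 ∧ 3 ≤ m) :
    SymBigH K CaseLP := by
  intro G _ _ hK S P h m hm N
  exact knownS_of (c := fun k m => k = 1 ∧ 3 ≤ m) hO hE G hK S P h 1 m one_pos (by omega) ⟨rfl, hm⟩ N

/-- **`SymManyH K CaseLP`** -/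
theorem symManyX_of (hO : OmSX K fun k _ => 2 ≤ k) (hE : ESX K fun k _ => 2 ≤ k) : SymManyH K CaseLP := by
  intro G _ _ hK S P h k m hk hm N
  exact knownS_of (c := fun k _ => 2 ≤ k) hO hE G hK S P h k m (by omega) hm hk N

end Cfsg.Agent.Omega.Node.MulX

end
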