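import Cfsg.Agent.Mrg.Omega.OM.Lev.Main
import Cfsg.Agent.Mrg.Omega.NO3S.Fld.LevEnd
import Cfsg.Agent.Mrg.Omega.OM.Lev.SFr
import Mathlib.GroupTheory.Index
import Mathlib.GroupTheory.Coset.Card
import Mathlib.Algebra.Group.Subgroup.Pointwise
import Cfsg.Agent.ZN.Facts
import Cfsg.Agent.OddOrderLocal.RankBasics
import Cfsg.Agent.WeakTI.FlatLine5
import Cfsg.Agent.Mrg.Omega.OM.Lev.SMin
import Cfsg.Agent.Mrg.Omega.OM.Lev.GSym
import Cfsg.Agent.Mrg.Omega.EK3.Rank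
import Cfsg.Agent.Mrg.Omega.OM.UOne
import Cfsg.Agent.Mrg.Omega.NOne.LemmaT
import Cfsg.Agent.Mrg.Omega.OM.Lev.Nat
import Cfsg.Agent.Mrg.Omega.TC.UniLev
import Cfsg.Agent.Mrg.Omega.OM.FrSym

section


/-!
# The leaves `MultiTwoL`, `MultiQL` of NO-3S over a frame: `HypL` and the case (L) of GammaFF at the same time

`StgG S P K B ZJ` : stage `-1`, or a weakly closed level `K₀` with `K₀ ≤ O₂(R)` for all `R ∈ P*(S)`,
`nxt S K₀ ≰ O₂(P)`: `K = nxt S K₀`, `ZJ = Ω₁(Z(K))`, `B = C_S(ZJ)`. Instances: `K₀ = lev S n` (`HypL`), `K₀ = O₂(P)`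
(`CaseL`). `MulG` = `Mul` with `HypF` for `HypL` and `StgG` for `StgP`.

* `Mul.toG`, `exists_mulG_hypL`, `exists_mulG_caseL`; `MulG.lb/fbl/fam/L_le/cases`;
* sockets `OmOfH K H c`, `EOfH K H c`, `Frm H` (`H` gives `MulG`), `multiTwoH_of`, `multiQH_of`.
-/

set_option autoImplicit false
set_option linter.unusedSectionVars false

namespace Cfsg.Agent.Omega.Node.MulG

open Subgroup Cfsg Cfsg.Agent.ZN.ChoiceBase Cfsg.Agent.ZN.ChoiceSit
open Cfsg.Agent.ZN (jj zj bau zc zl o2)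
open Cfsg.Agent.Omega.MinPar (IsParS)
open Cfsg.Agent.Omega.FFThm (NatK NatKM OffM)
open Cfsg.Agent.Omega.FrameFF (cv)
open Cfsg.Agent.Omega.NO3S (HypL HypF HypN HypJ Hyp PSS FrP CaseLP MultiTwoH MultiQH)
open Cfsg.Agent.Omega.NO3S.Level (lev nxt Lev BO lev_isLev lev_wc wc_nxt CaseL W0 K0)
open Cfsg.Agent.Omega.Frame (Cls)
open Cfsg.Agent.Omega.NO3S.EThree.Frame (Bg Fg)
open Cfsg.Agent.Omega.OM
open Cfsg.Agent.Omega.OM.LevD (LB)
open Cfsg.Agent.Omega.Node.MultiOf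

universe u

section defs

variable {G : Type u} [Group G] [Finite G]

/-- **The stage**: a weakly closed level `K₀ ≤ O₂(R)`, `R ∈ P*(S)`, whose next level is not in `O₂(P)`. -/
structure Top (S : Sylow 2 G) (P K₀ : Subgroup G) : Prop where
  wc : NO3b.Wc.WC (S : Subgroup G) K₀
  lev : Lev (S : Subgroup G) K₀
  all : ∀ R, IsParS (S : Subgroup G) R → K₀ ≤ o2 R
  le : K₀ ≤ o2 P
  nxt : ¬ nxt (S : Subgroup G) K₀ ≤ o2 P

/-- The level `(K, B, Z_J)` of `P`, general form. -/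
inductive StgG (S : Sylow 2 G) (P : Subgroup G) : Subgroup G → Subgroup G → Subgroup G → Prop
  | neg (h : ¬ jj (S : Subgroup G) ≤ o2 P) : StgG S P (jj (S : Subgroup G)) (bau (S : Subgroup G)) (zj (S : Subgroup G))
  | lev (K₀ : Subgroup G) (h : Top S P K₀) : StgG S P (nxt (S : Subgroup G) K₀)
      ((S : Subgroup G) ⊓ centralizer (zc (nxt (S : Subgroup G) K₀) : Set G)) (zc (nxt (S : Subgroup G) K₀))

theorem lb_nxt {S : Sylow 2 G} {K₀ : Subgroup G} (h : NO3b.Wc.WC (S : Subgroup G) K₀) :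
    LB S (nxt (S : Subgroup G) K₀) ((S : Subgroup G) ⊓ centralizer (zc (nxt (S : Subgroup G) K₀) : Set G))
      (zc (nxt (S : Subgroup G) K₀)) where
  KB := le_inf (NO3S.Level.nxt_le _ _) (NO3S.Level.le_centralizer_zc _)
  eqB := rfl
  nrm := fun _ hT hK _ hg =>
    NO3S.Level.normalizer_le_zc _ (mem_normalizer_iff_cj.2 (LevD.norm_of_wc (wc_nxt h) hT hK hg))
  ZK := ZN.zc_le _
  sq := fun _ hz => (mem_zc.1 hz).2.1

theorem StgG.lb {S : Sylow 2 G} {P K B ZJ : Subgroup G} (h : StgG S P K B ZJ) : LB S K B ZJ := by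
  cases h with
  | neg h => exact LB.neg S
  | lev K₀ h => exact lb_nxt h.wc

theorem _root_.Cfsg.Agent.Omega.Node.MultiOf.StgP.toG {S : Sylow 2 G} {P K B ZJ : Subgroup G}
    (h : StgP S P K B ZJ) : StgG S P K B ZJ := by
  cases h with
  | neg h => exact StgG.neg h
  | lev n hall hn hn1 => exact StgG.lev (lev (S : Subgroup G) n) ⟨lev_wc n, lev_isLev _ n, hall, hn, hn1⟩

/-- **Several natural blocks, general frame.** -/
structure MulG (S : Sylow 2 G) (P K B ZJ : Subgroup G) {k : ℕ} (L W Z C : Fin k → Subgroup G) (q : ℕ) : Prop where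
  hyp : HypF S P
  stg : StgG S P K B ZJ
  bg : Bg S P B ZJ L W Z C q
  nat : ∃ (F : Type) (_ : Field F) (_ : Finite F) (_ : CharP F 2), Nat.card F = q ∧
    Nonempty (NatKM F (S : Subgroup G) P (zl (S : Subgroup G) P) (cv (S : Subgroup G) P) k)

theorem _root_.Cfsg.Agent.Omega.Node.MultiOf.Mul.toG {S : Sylow 2 G} {P K B ZJ : Subgroup G} {k : ℕ}
    {L W Z C : Fin k → Subgroup G} {q : ℕ} (h : Mul S P K B ZJ L W Z C q) : MulG S P K B ZJ L W Z C q :=
  ⟨h.hyp.toHypF, h.stg.toG, h.bg, h.nat⟩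

theorem exists_mulG_hypL {S : Sylow 2 G} {P : Subgroup G} (h : HypL S P) {F : Type} [Field F] [Finite F] [CharP F 2]
    {k : ℕ} (hk : 2 ≤ k) (N : NatKM F (S : Subgroup G) P (zl (S : Subgroup G) P) (cv (S : Subgroup G) P) k) :
    ∃ (K B ZJ : Subgroup G) (L W Z C : Fin k → Subgroup G), MulG S P K B ZJ L W Z C (Nat.card F) := by
  obtain ⟨K, B, ZJ, L, W, Z, C, h1⟩ := exists_mul h hk N
  exact ⟨K, B, ZJ, L, W, Z, C, h1.toG⟩

/-- In the case (L) some best offender on `V_P = Ω₁(Z(O₂(P)))` in `S` is not in `O₂(P)`. -/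
theorem exists_BO_caseL {S : Sylow 2 G} {P : Subgroup G} (h : CaseL S P) :
    ∃ A ∈ BO (S : Subgroup G) (o2 P), ¬ A ≤ o2 P := by
  have hG := h.ctx.char2
  obtain ⟨A, hAS, hAo⟩ := h.ff P h.pss
  by_contra hcon
  push Not at hcon
  have h1 : nxt (S : Subgroup G) (K0 (S : Subgroup G)) ≤ K0 (S : Subgroup G) := by
    rw [h.K0_eq]
    refine sup_le ?_ (sSup_le hcon)
    rw [h.zc_eq, IsParS.inf_centralizer S hG h.pss.par]
  have w : W0 S := { toHypC := h.toHypC, ff := h.ff, nxt := h1 }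
  refine w.noOff (A := A) (hAS.trans ((NO3S.Level.S_le_M0 _).trans (NO3S.Level.M0_norm _))) ?_
  rw [h.eq]
  exact hAo

theorem top_caseL {S : Sylow 2 G} {P : Subgroup G} (h : CaseL S P) : Top S P (o2 P) where
  wc := h.wc
  lev := h.levQ
  all := fun _ hR => h.o2_le hR
  le := le_rfl
  nxt := fun hc => by
    obtain ⟨A, hA, hn⟩ := exists_BO_caseL h
    exact hn ((le_sSup hA).trans (le_sup_right.trans hc))

theorem exists_mulG_caseL {S : Sylow 2 G} {P : Subgroup G} (h : CaseL S P) {F : Type} [Field F] [Finite F]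
    [CharP F 2] {k : ℕ} (hk : 2 ≤ k)
    (N : NatKM F (S : Subgroup G) P (zl (S : Subgroup G) P) (cv (S : Subgroup G) P) k) :
    ∃ (K B ZJ : Subgroup G) (L W Z C : Fin k → Subgroup G), MulG S P K B ZJ L W Z C (Nat.card F) := by
  obtain ⟨M, L, Z, A, -, -, hB, -⟩ := Lev.Main.bg_K h.hypN h.levQ le_rfl (exists_BO_caseL h) hk N rfl
  exact ⟨_, _, _, L, _, Z, _, h.hypF, StgG.lev _ (top_caseL h), hB, F, inferInstance, inferInstance, inferInstance,
    rfl, ⟨N⟩⟩

namespace MulG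

variable {S : Sylow 2 G} {P K B ZJ : Subgroup G} {k : ℕ} {L W Z C : Fin k → Subgroup G} {q : ℕ}
  (h : MulG S P K B ZJ L W Z C q)
include h

theorem lb : LB S K B ZJ := h.stg.lb

theorem fbl (i : Fin k) : FBl B (L i) (W i) := ⟨⟨_, _, h.bg.fr.blk i⟩, h.bg.block i⟩

theorem fam : LevD.Fam B ZJ (FBl B) where
  blk := fun _ _ hb => hb.blk
  conj := fun _ hn _ _ hb => hb.conj hn
  zj_le := by
    refine (h.bg.fr.ZJV.trans (Fg_V_le h.bg.fr)).trans (iSup_le fun i => ?_)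
    exact le_iSup (fun i : {x : Subgroup G × Subgroup G // FBl B x.1 x.2} => i.1.2) ⟨(L i, W i), h.fbl i⟩

theorem L_le (i : Fin k) : L i ≤ KZ B ZJ := LevD.blk_le_K0 (h.fbl i)

/-- **the dichotomy** -/
theorem cases : NLoc (KZ B ZJ) ∨ (o2 (KZ B ZJ) ≠ ⊥ ∧ o2 (KZ B ZJ) ≤ B ∧
    KZ B ZJ ⊔ normalizer (B : Set G) ≤ normalizer (o2 (KZ B ZJ) : Set G)) := by
  by_cases h0 : NLoc (KZ B ZJ)
  · exact Or.inl h0
  · right
    unfold NLoc at h0
    push Not at h0
    obtain ⟨R, hR, hRn, hR1⟩ := h0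
    exact LevD.Fam.dich h.lb h.fam hR hR1 hRn

end MulG

end defs

/-! ### Sockets over a frame `H` -/

section sockets

variable (K : Cls.{u}) (H : FrP.{u}) (c : ℕ → ℕ → Prop)

/-- **(Om)** over the frame `H`. -/
def OmOfH : Prop :=
  ∀ (G : Type u) [Group G] [Finite G], K G → ∀ (S : Sylow 2 G) (P K' B ZJ : Subgroup G) (k : ℕ)
    (L W Z C : Fin k → Subgroup G) (q : ℕ), H G S P → 2 ≤ k → c k q → MulG S P K' B ZJ L W Z C q →
      o2 (KZ B ZJ) ≠ ⊥ → o2 (KZ B ZJ) ≤ B →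
      KZ B ZJ ⊔ normalizer (B : Set G) ≤ normalizer (o2 (KZ B ZJ) : Set G) → IsKnownSimple' G

/-- **(E)** over the frame `H`. -/
def EOfH : Prop :=
  ∀ (G : Type u) [Group G] [Finite G], K G → ∀ (S : Sylow 2 G) (P K' B ZJ : Subgroup G) (k : ℕ)
    (L W Z C : Fin k → Subgroup G) (q : ℕ), H G S P → 2 ≤ k → c k q → MulG S P K' B ZJ L W Z C q →
      NLoc (KZ B ZJ) → IsKnownSimple' G

end sockets

/-- `H` gives the general frame. -/
def Frm (H : FrP.{u}) : Prop :=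
  ∀ (G : Type u) [Group G] [Finite G] (S : Sylow 2 G) (P : Subgroup G), H G S P →
    ∀ (F : Type) [Field F] [Finite F] [CharP F 2] (k : ℕ), 2 ≤ k →
      NatKM F (S : Subgroup G) P (zl (S : Subgroup G) P) (cv (S : Subgroup G) P) k →
        ∃ (K B ZJ : Subgroup G) (L W Z C : Fin k → Subgroup G), MulG S P K B ZJ L W Z C (Nat.card F)

/-- The frame `HypL`. -/
def HypLP : FrP.{u} := fun _ _ _ S P => HypL S P

theorem frm_hypL : Frm HypLP.{u} := fun _ _ _ _ _ h _ _ _ _ _ hk N => exists_mulG_hypL h hk N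

theorem frm_caseL : Frm CaseLP.{u} := fun _ _ _ _ _ h _ _ _ _ _ hk N => exists_mulG_caseL h hk N

variable {K : Cls.{u}} {H : FrP.{u}}

theorem known_of (hH : Frm H) {c : ℕ → ℕ → Prop} (hO : OmOfH K H c) (hE : EOfH K H c) (G : Type u) [Group G]
    [Finite G] (hK : K G) (S : Sylow 2 G) (P : Subgroup G) (h : H G S P) (F : Type) [Field F] [Finite F] [CharP F 2]
    (k : ℕ) (hk : 2 ≤ k) (hc : c k (Nat.card F))
    (N : NatKM F (S : Subgroup G) P (zl (S : Subgroup G) P) (cv (S : Subgroup G) P) k) : IsKnownSimple' G := by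
  obtain ⟨K', B, ZJ, L, W, Z, C, hM⟩ := hH G S P h F k hk N
  rcases hM.cases with h1 | ⟨h1, h2, h3⟩
  · exact hE G hK S P K' B ZJ k L W Z C _ h hk hc hM h1
  · exact hO G hK S P K' B ZJ k L W Z C _ h hk hc hM h1 h2 h3

/-- **`MultiTwoH K H`.** -/
theorem multiTwoH_of (hH : Frm H) (hO : OmOfH K H fun _ q => q = 2) (hE : EOfH K H fun k q => k = 2 ∧ q = 2)
    (hE' : EOfH K H fun k q => 3 ≤ k ∧ q = 2) : MultiTwoH K H := by
  intro G _ _ hK S P h F _ _ _ k hk hq N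
  refine known_of hH (c := fun _ q => q = 2) hO ?_ G hK S P h F k hk hq N
  intro G _ _ hK S P K' B ZJ k L W Z C q h hk hq hM hN
  rcases Nat.lt_or_ge k 3 with hk3 | hk3
  · exact hE G hK S P K' B ZJ k L W Z C q h hk ⟨by omega, hq⟩ hM hN
  · exact hE' G hK S P K' B ZJ k L W Z C q h hk ⟨hk3, hq⟩ hM hN

/-- **`MultiQH K H`.** -/
theorem multiQH_of (hH : Frm H) (hO : OmOfH K H fun _ q => 4 ≤ q) (hE : EOfH K H fun k q => k = 2 ∧ 4 ≤ q)
    (hE' : EOfH K H fun k q => 3 ≤ k ∧ 4 ≤ q) : MultiQH K H := by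
  intro G _ _ hK S P h F _ _ _ k hk hq N
  refine known_of hH (c := fun _ q => 4 ≤ q) hO ?_ G hK S P h F k hk hq N
  intro G _ _ hK S P K' B ZJ k L W Z C q h hk hq hM hN
  rcases Nat.lt_or_ge k 3 with hk3 | hk3
  · exact hE G hK S P K' B ZJ k L W Z C q h hk ⟨by omega, hq⟩ hM hN
  · exact hE' G hK S P K' B ZJ k L W Z C q h hk ⟨hk3, hq⟩ hM hN

/-- `EOfH` over `HypL` gives the old socket. -/
theorem eOf_of_H {c : ℕ → ℕ → Prop} (h : EOfH K HypLP c) : EOf K c :=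
  fun G _ _ hK S P K' B ZJ k L W Z C q hk hc hM hN => h G hK S P K' B ZJ k L W Z C q hM.hyp hk hc hM.toG hN

end Cfsg.Agent.Omega.Node.MulG

end

section


/-!
# `SymManyL`, case (E): the heavy frame `SF` (all `k ≥ 2`, `m ≥ 2`, every stage)

`V = V_P = F 0 × … × F (k-1)`, `F j = even(Ω_j)`, `|Ω_j| = 2^m + 1`, point `0 = ∞_j`; coordinates `e = N.e`.

* light : `ι` = the transpositions of `Jg`, `d i = {X i, X' i} ⊆ Ω_(J i)`, `W i = {1, d i, {∞, X i}, {∞, X' i}}`, `L i` the FF-block,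
  `t i ∈ Jg` the transposition `(X i X' i)`;
* heavy : `F j`, `Fp j = even(Ω_j \ ∞)`, `z j = Ω_j \ ∞`, `E j` (`Sym(Ω_j)` on `F j`, trivial on the others);
* `T = C_S(z_1, .., z_k)`, `D = C_G(z_1, .., z_k)`, `Y j = C_G(z_l : l ≠ j)` (text #23287).
-/

set_option autoImplicit false
set_option linter.unusedSectionVars false

namespace Cfsg.Agent.Omega.NO3S.ESym

open Subgroup Cfsg Cfsg.Agent.ZN.ChoiceBase Cfsg.Agent.ZN.ChoiceSit
open Cfsg.Agent.ZN (jj zj bau zc zl o2)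
open Cfsg.Agent.Omega.FFThm (ActsSym SymK SymKM)
open Cfsg.Agent.Omega.FrameFF (cv)
open Cfsg.Agent.Omega.NO3S (HypF)
open Cfsg.Agent.Omega.SQ1.FFSym (u)
open Cfsg.Agent.Omega.OM
open Cfsg.Agent.Omega.OM.Lev.SymIn (SyL)
open Cfsg.Agent.Omega.OM.Lev.SymIn.SyL (Ch)
open Cfsg.Agent.Omega.OM.Lev.Sym (SymOut)
open Cfsg.Agent.Omega.OM.Lev.SIn (Blk)
open Cfsg.Agent.Omega.OM.Lev.Uni (FrL)
open Cfsg.Agent.Omega.OM.FrSym (CC)
open Cfsg.Agent.Omega.Node.MultiOf
open Cfsg.Agent.Omega.Node.MulG (StgG)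
open Cfsg.Agent.Omega.TC.OfMul (BlkS)
open scoped Pointwise

universe w

variable {G : Type w} [Group G]

/-! ### The heavy groups in coordinates -/

section coord

variable {k n : ℕ}

/-- `V_j` : the vectors supported on `Ω_j` -/
def FF (V : Subgroup G) (e : G → Fin k → Fin n → ZMod 2) (j : Fin k) : Subgroup G :=
  closure {v | v ∈ V ∧ ∀ i, i ≠ j → e v i = 0}

/-- `V_j^+` : the even subsets of `Ω_j \ o` -/
def FP (V : Subgroup G) (o : Fin n) (e : G → Fin k → Fin n → ZMod 2) (j : Fin k) : Subgroup G :=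
  closure {v | v ∈ V ∧ (∀ i, i ≠ j → e v i = 0) ∧ e v j o = 0}

/-- `E_j` : `Sym(Ω_j)` on `V_j`, trivial on the other factors -/
def EE (P V : Subgroup G) (e : G → Fin k → Fin n → ZMod 2) (j : Fin k) : Subgroup G :=
  closure {g | g ∈ P ∧ ∃ π, ActsSym e V g 1 (Pi.mulSingle j π)}

end coord

/-- UNI+ for `q = 2` (`Node.MultiOf.UniTwo` for any index type) -/
def UniI (B ZJ : Subgroup G) {ι : Type} (L W : ι → Subgroup G) : Prop :=
  ∀ L' V' : Subgroup G, FBl B L' V' →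
    ∃ i, V' = W i ∧ L' ≤ L i ⊔ centralizer ((W i ⊔ ZJ : Subgroup G) : Set G)

/-- **The heavy frame of (E), symmetric blocks.** -/
structure SF [Finite G] (S : Sylow 2 G) (P : Subgroup G) where
  -- the level
  (K B ZJ Jg Xf : Subgroup G)
  (AA : Set (Subgroup G))
  (k m : ℕ)
  N : SymKM (S : Subgroup G) P (zl (S : Subgroup G) P) (cv (S : Subgroup G) P) k m
  -- the light blocks
  ι : Type
  J : ι → Fin k
  (X X' : ι → Fin (2 ^ m + 1))
  (t r : ι → G)
  (L A : ι → Subgroup G)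
  -- the heavy vectors
  z : Fin k → G
  hyp : HypF S P
  stg : StgG S P K B ZJ
  k2 : 2 ≤ k
  m2 : 2 ≤ m
  fi : Finite ι
  sy : SyL (S : Subgroup G) P (o2 P) (zl (S : Subgroup G) P) Jg ⊥ AA (0 : Fin (2 ^ m + 1)) N.e
  ch : Ch Jg P (zl (S : Subgroup G) P) ⊥ 0 N.e J X X' t r
  out : SymOut (S : Subgroup G) P (zl (S : Subgroup G) P) Jg (fun i => sy.NN (J i) 0 (X i) (X' i))
    (fun i => u P (zl (S : Subgroup G) P) ⊥ N.e (J i) (X i) (X' i)) t r
  blk : ∀ i, Blk P (S : Subgroup G) (zl (S : Subgroup G) P) ZJ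
    (fun i => u P (zl (S : Subgroup G) P) ⊥ N.e (J i) (X i) (X' i)) r i (L i)
  eqv : ∀ x ∈ (S : Subgroup G), ∀ i j, x * u P (zl (S : Subgroup G) P) ⊥ N.e (J i) (X i) (X' i) * x⁻¹ =
    u P (zl (S : Subgroup G) P) ⊥ N.e (J j) (X j) (X' j) → cj x (L i) = L j
  frl : FrL B (o2 P) (zl (S : Subgroup G) P) Xf ZJ L (fun i => sy.NN (J i) 0 (X i) (X' i))
    (fun i => zpowers (u P (zl (S : Subgroup G) P) ⊥ N.e (J i) (X i) (X' i)))
    (CC fun i => sy.NN (J i) 0 (X i) (X' i)) A 2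
  uni : UniI B ZJ L fun i => sy.NN (J i) 0 (X i) (X' i)
  nloc : NLoc (KZ B ZJ)
  zV : ∀ j, z j ∈ zl (S : Subgroup G) P
  ez : ∀ j i x, N.e (z j) i x = if i = j ∧ x ≠ 0 then 1 else 0
  blkS : BlkS K B ((S : Subgroup G) ⊓ centralizer (Set.range z))

namespace SF

variable [Finite G] {S : Sylow 2 G} {P : Subgroup G} (h : SF S P)

/-- `V_P` -/
def V (_ : SF S P) : Subgroup G := zl (S : Subgroup G) P

/-- `Q = O₂(P)` -/
def Q (_ : SF S P) : Subgroup G := o2 P

/-- light pairs -/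
noncomputable def d (i : h.ι) : G := u P (zl (S : Subgroup G) P) ⊥ h.N.e (h.J i) (h.X i) (h.X' i)

/-- `{1, d i, {∞, X i}, {∞, X' i}}` -/
def W (i : h.ι) : Subgroup G := h.sy.NN (h.J i) 0 (h.X i) (h.X' i)

/-- the factor `V_j` -/
def F (j : Fin h.k) : Subgroup G := FF (zl (S : Subgroup G) P) h.N.e j

/-- `V_j^+` -/
def Fp (j : Fin h.k) : Subgroup G := FP (zl (S : Subgroup G) P) 0 h.N.e j

/-- `E_j` -/
def E (j : Fin h.k) : Subgroup G := EE P (zl (S : Subgroup G) P) h.N.e j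

/-- `T = C_S(z_1, .., z_k)` -/
def T : Subgroup G := (S : Subgroup G) ⊓ centralizer (Set.range h.z)

/-- `D = C_G(z_1, .., z_k)` -/
def D : Subgroup G := centralizer (Set.range h.z)

/-- `Y_j = C_G(z_l : l ≠ j)` -/
def Y (j : Fin h.k) : Subgroup G := centralizer (h.z '' {l | l ≠ j})

end SF

end Cfsg.Agent.Omega.NO3S.ESym

end

section


/-!
# LEMMA FIX inside an abelian group, every stage (helper691 #22160, helper900 #22692, helper164 #22847)

Pure group theory, no frame: `A` is best on the elementary abelian group `X`, induces a group of order `≤ 2` on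
`V ≤ X`, `a ∈ A` moves `u ∈ V`; `n ∈ X` with `[n, Q] ≤ ⟨u⟩`. Then `n` centralises `Q`.

* `Fix.fixX` : the statement above (`A ≤ N(X)`, `|E| |C_X(E)| ≤ |A| |C_X(A)|` for `E ≤ A`);
* `Fix.fixQ` : stage `-1`: `A` elementary abelian of maximal order in `T`, `V, n ≤ Q ≤ T`, `n² = 1`.
-/

set_option autoImplicit false
set_option linter.unusedSectionVars false

namespace Cfsg.Agent.Omega.NO3S.ESym.Fix

open Subgroup Cfsg Cfsg.Agent Cfsg.Agent.ZN

universe u

variable {G : Type u} [Group G]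

/-- index at most two -/
theorem card_le_two_mul [Finite G] {A C : Subgroup G} {τ : G}
    (hidx : ∀ a ∈ A, a ∈ C ∨ τ * a ∈ C) : Nat.card A ≤ 2 * Nat.card C := by
  classical
  -- the map `A → C × Bool`
  let f : A → C × Bool := fun a => if h : (a : G) ∈ C then (⟨a, h⟩, true) else
    (⟨τ * a, (hidx a a.2).resolve_left h⟩, false)
  have hf : Function.Injective f := by
    intro a b hab
    by_cases ha : (a : G) ∈ C <;> by_cases hb : (b : G) ∈ C
    · simp only [f, ha, hb, dif_pos, Prod.mk.injEq, Subtype.mk.injEq, and_true] at hab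
      exact Subtype.ext hab
    · simp [f, ha, hb] at hab
    · simp [f, ha, hb] at hab
    · simp only [f, ha, hb, dif_neg, not_false_eq_true, Prod.mk.injEq, Subtype.mk.injEq, and_true,
        mul_right_inj] at hab
      exact Subtype.ext hab
  have h1 := Nat.card_le_card_of_injective f hf
  rw [Nat.card_prod, Nat.card_eq_fintype_card (α := Bool), Fintype.card_bool, mul_comm] at h1
  exact h1

/-- a proper subgroup has at most half the elements -/
theorem two_mul_card_le [Finite G] {C D : Subgroup G} (h : C ≤ D) {x : G} (hx : x ∈ D) (hxC : x ∉ C) :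
    2 * Nat.card C ≤ Nat.card D := by
  obtain ⟨k, hk⟩ := Subgroup.card_dvd_of_le h
  have hlt : Nat.card C ≠ Nat.card D := by
    intro he
    have : C = D := Subgroup.eq_of_le_of_card_ge h he.ge
    exact hxC (this ▸ hx)
  have hpos : 0 < Nat.card D := Nat.card_pos
  rcases k with _ | _ | k
  · simp at hk; omega
  · simp at hk; exact absurd hk.symm hlt
  · rw [hk]
    nlinarith [Nat.zero_le (Nat.card C * k)]

/-- four cosets -/
theorem four_mul_card_le [Finite G] {C D X : Subgroup G} (hX : ∀ x ∈ X, ∀ y ∈ X, x * y = y * x)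
    (hDX : D ≤ X) (h : C ≤ D) {x y : G} (hx : x ∈ D) (hy : y ∈ D) (hx2 : x * x ∈ C) (hxC : x ∉ C)
    (hyC : y ∉ C) (hxy : x * y ∉ C) : 4 * Nat.card C ≤ Nat.card D := by
  -- `C₁ = C ∪ x C`
  let C₁ : Subgroup G :=
    { carrier := {g | g ∈ C ∨ x * g ∈ C}
      one_mem' := Or.inl C.one_mem
      mul_mem' := by
        rintro a b ha hb
        have hcomm : ∀ g, (g ∈ C ∨ x * g ∈ C) → x * g = g * x := by
          rintro g (hg | hg)
          · exact hX x (hDX hx) g (hDX (h hg))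
          · have hgD : g ∈ D := by
              have := D.mul_mem (D.inv_mem hx) (h hg)
              rwa [inv_mul_cancel_left] at this
            exact hX x (hDX hx) g (hDX hgD)
        rcases ha with ha | ha <;> rcases hb with hb | hb
        · exact Or.inl (C.mul_mem ha hb)
        · right
          have : x * (a * b) = a * (x * b) := by
            rw [← mul_assoc, hcomm a (Or.inl ha), mul_assoc]
          rw [this]
          exact C.mul_mem ha hb
        · right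
          rw [← mul_assoc]
          exact C.mul_mem ha hb
        · left
          have h1 := C.mul_mem ha hb
          have h2 : x * a * (x * b) = (x * x) * (a * b) := by
            rw [show x * a * (x * b) = x * (a * x) * b by group, ← hcomm a (Or.inr ha)]
            group
          rw [h2] at h1
          have := C.mul_mem (C.inv_mem hx2) h1
          rwa [inv_mul_cancel_left] at this
      inv_mem' := by
        rintro a (ha | ha)
        · exact Or.inl (C.inv_mem ha)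
        · right
          have haD : a ∈ D := by
            have := D.mul_mem (D.inv_mem hx) (h ha)
            rwa [inv_mul_cancel_left] at this
          have hc := hX x (hDX hx) a (hDX haD)
          have h1 := C.mul_mem hx2 (C.inv_mem ha)
          have h2 : x * x * (x * a)⁻¹ = x * a⁻¹ := by
            rw [hc]; group
          rwa [h2] at h1 }
  have hC₁D : C₁ ≤ D := by
    rintro g (hg | hg)
    · exact h hg
    · have := D.mul_mem (D.inv_mem hx) (h hg)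
      rwa [inv_mul_cancel_left] at this
  have hCC₁ : C ≤ C₁ := fun g hg => Or.inl hg
  have h1 := two_mul_card_le hCC₁ (x := x) (show x ∈ C ∨ x * x ∈ C from Or.inr hx2) hxC
  have h2 := two_mul_card_le hC₁D hy (fun hy' : y ∈ C ∨ x * y ∈ C => hy'.elim hyC hxy)
  omega

section fix

variable [Finite G] {Q V X A : Subgroup G} {a u n : G}

/-- **LEMMA FIX inside `X`.** -/
theorem fixX (hX : ∀ x ∈ X, ∀ y ∈ X, x * y = y * x) (hX2 : ∀ x ∈ X, x * x = 1) (hVX : V ≤ X)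
    (hVQ : V ≤ centralizer (Q : Set G)) (hA : ∀ b ∈ A, ∀ c ∈ A, b * c * b⁻¹ * c⁻¹ ∈ centralizer (X : Set G))
    (hAX : A ≤ normalizer (X : Set G)) (hE₀ : A ⊓ centralizer (V : Set G) ≤ Q)
    (best : ∀ E : Subgroup G, A ⊓ centralizer (X : Set G) ≤ E → E ≤ A →
      Nat.card E * Nat.card ↥(X ⊓ centralizer (E : Set G)) ≤
        Nat.card A * Nat.card ↥(X ⊓ centralizer (A : Set G)))
    (haA : a ∈ A) (haQ : a ∈ normalizer (Q : Set G)) (hidx : ∀ b ∈ A, b ∈ centralizer (V : Set G) ∨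
      a * b ∈ centralizer (V : Set G)) (hu : u ∈ V) (hau : a * u * a⁻¹ ≠ u) (hauV : a * u * a⁻¹ ∈ V)
    (hn : n ∈ X) (hnQ : ∀ q ∈ Q, n * q * n⁻¹ * q⁻¹ = 1 ∨ n * q * n⁻¹ * q⁻¹ = u) :
    n ∈ centralizer (Q : Set G) := by
  set n' := a * n * a⁻¹ with hn'
  set u' := a * u * a⁻¹ with hu'
  have haX := hAX haA
  have hn'X : n' ∈ X := (mem_normalizer_iff.1 haX n).1 hn
  have hu1 : u ≠ 1 := by
    intro h
    apply hau
    rw [hu', h, mul_one, mul_inv_cancel]
  have hu'1 : u' ≠ 1 := by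
    intro h
    apply hu1
    have : a⁻¹ * u' * a = u := by rw [hu']; group
    rw [← this, h]
    group
  -- `[n', q]`
  have hn'Q : ∀ q ∈ Q, n' * q * n'⁻¹ * q⁻¹ = 1 ∨ n' * q * n'⁻¹ * q⁻¹ = u' := by
    intro q hq
    have hq' : a⁻¹ * q * a ∈ Q := by
      have := (mem_normalizer_iff.1 (inv_mem haQ) q).1 hq
      rwa [inv_inv] at this
    have he : n' * q * n'⁻¹ * q⁻¹ = a * (n * (a⁻¹ * q * a) * n⁻¹ * (a⁻¹ * q * a)⁻¹) * a⁻¹ := by
      rw [hn']; group
    rcases hnQ _ hq' with h | h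
    · left; rw [he, h]; group
    · right; rw [he, h]
  set E₀ := A ⊓ centralizer (V : Set G) with hE₀def
  have hcomm : ∀ e ∈ A, n' * e * n'⁻¹ * e⁻¹ = a * (n * e * n⁻¹ * e⁻¹) * a⁻¹ := by
    intro e he
    -- `a e a⁻¹ = c e`, `c ∈ C(X)`
    have hc := hA a haA e he
    set c := a * e * a⁻¹ * e⁻¹ with hcdef
    have h1 : e = c⁻¹ * (a * e * a⁻¹) := by rw [hcdef]; group
    have h2 : n' * c⁻¹ = c⁻¹ * n' := mem_centralizer_iff.1 (inv_mem hc) n' hn'X
    calc n' * e * n'⁻¹ * e⁻¹ = n' * (c⁻¹ * (a * e * a⁻¹)) * n'⁻¹ * (c⁻¹ * (a * e * a⁻¹))⁻¹ := by rw [← h1]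
      _ = (n' * c⁻¹) * (a * e * a⁻¹) * n'⁻¹ * (a * e * a⁻¹)⁻¹ * c := by group
      _ = c⁻¹ * (a * (n * e * n⁻¹ * e⁻¹) * a⁻¹) * c := by rw [h2, hn']; group
      _ = _ := by
        have h3 : a * (n * e * n⁻¹ * e⁻¹) * a⁻¹ ∈ X := by
          refine (mem_normalizer_iff.1 haX _).1 ?_
          have h4 : e * n⁻¹ * e⁻¹ ∈ X := (mem_normalizer_iff.1 (hAX he) _).1 (X.inv_mem hn)
          have h5 : n * e * n⁻¹ * e⁻¹ = n * (e * n⁻¹ * e⁻¹) := by group
          rw [h5]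
          exact X.mul_mem hn h4
        have h6 := mem_centralizer_iff.1 hc _ h3
        rw [mul_assoc, h6]; group
  -- centralising
  have hcent : ∀ {x e : G}, x * e * x⁻¹ * e⁻¹ = 1 → x * e = e * x := by
    intro x e h
    have h2 : x * e = (x * e * x⁻¹ * e⁻¹) * (e * x) := by group
    rw [h2, h, one_mul]
  have hcent' : ∀ {x e : G}, x * e = e * x → x * e * x⁻¹ * e⁻¹ = 1 := by
    intro x e h
    rw [h]; group
  have hcardA : Nat.card A ≤ 2 * Nat.card E₀ := by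
    refine card_le_two_mul (τ := a) fun b hb => ?_
    rcases hidx b hb with h | h
    · exact Or.inl ⟨hb, h⟩
    · exact Or.inr ⟨A.mul_mem haA hb, h⟩
  have huE : ∀ E ≤ E₀, u ∈ X ⊓ centralizer (E : Set G) := by
    intro E hE
    refine ⟨hVX hu, mem_centralizer_iff.2 fun e he => ?_⟩
    exact (mem_centralizer_iff.1 ((hE he).2) u hu).symm
  have huA : u ∉ X ⊓ centralizer (A : Set G) := by
    intro h
    apply hau
    have := mem_centralizer_iff.1 h.2 a haA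
    rw [hu', this]; group
  have hCA : X ⊓ centralizer (A : Set G) ≤ X ⊓ centralizer (E₀ : Set G) :=
    inf_le_inf_left _ (centralizer_le (fun x hx => (inf_le_left : E₀ ≤ A) hx))
  have hpos : 0 < Nat.card (X ⊓ centralizer (A : Set G) : Subgroup G) := Nat.card_pos
  have hposA : 0 < Nat.card A := Nat.card_pos
  by_cases hw : ∃ e ∈ E₀, n * e * n⁻¹ * e⁻¹ = u
  · -- the case `w ≠ 0`
    exfalso
    obtain ⟨e₀, he₀, hne⟩ := hw
    have hn'e : n' * e₀ * n'⁻¹ * e₀⁻¹ = u' := by rw [hcomm e₀ he₀.1, hne]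
    set E := E₀ ⊓ centralizer ({n} : Set G) with hEdef
    have hE : E ≤ E₀ := inf_le_left
    have hcardE₀ : Nat.card E₀ ≤ 2 * Nat.card E := by
      refine card_le_two_mul (τ := e₀) fun e he => ?_
      rcases hnQ e (hE₀ he) with h | h
      · left
        refine ⟨he, mem_centralizer_iff.2 fun x hx => ?_⟩
        rw [Set.mem_singleton_iff.1 hx]
        exact hcent h
      · right
        refine ⟨mul_mem he₀ he, mem_centralizer_iff.2 fun x hx => ?_⟩
        rw [Set.mem_singleton_iff.1 hx]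
        apply hcent
        -- `[n, e₀ e] = [n, e₀] e₀ [n, e] e₀⁻¹ = u u`
        have h1 : n * (e₀ * e) * n⁻¹ * (e₀ * e)⁻¹ =
            (n * e₀ * n⁻¹ * e₀⁻¹) * (e₀ * (n * e * n⁻¹ * e⁻¹) * e₀⁻¹) := by group
        rw [h1, hne, h]
        have h2 : e₀ * u * e₀⁻¹ = u := by
          have := mem_centralizer_iff.1 he₀.2 u hu
          rw [← this]; group
        rw [h2]
        exact hX2 u (hVX hu)
    -- the four cosets
    have hmemE : ∀ {x : G}, x ∈ X → (∀ e ∈ E, x * e = e * x) → x ∈ X ⊓ centralizer (E : Set G) := by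
      intro x hx h
      exact ⟨hx, mem_centralizer_iff.2 fun e he => (h e he).symm⟩
    have hnE : n ∈ X ⊓ centralizer (E : Set G) :=
      hmemE hn fun e he => mem_centralizer_iff.1 he.2 n rfl
    have hn'E : n' ∈ X ⊓ centralizer (E : Set G) := by
      refine hmemE hn'X fun e he => hcent ?_
      rw [hcomm e (hE he).1, hcent' (mem_centralizer_iff.1 he.2 n rfl)]
      group
    have hnot : ∀ {x : G}, x * e₀ * x⁻¹ * e₀⁻¹ ≠ 1 → x ∉ X ⊓ centralizer (E₀ : Set G) := by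
      intro x h hx
      exact h (hcent' (mem_centralizer_iff.1 hx.2 e₀ he₀).symm)
    have h4 := four_mul_card_le (C := X ⊓ centralizer (E₀ : Set G)) (D := X ⊓ centralizer (E : Set G))
      hX inf_le_left (inf_le_inf_left _ (centralizer_le (fun x hx => hE hx))) hnE hn'E
      (by rw [hX2 n hn]; exact one_mem _) (hnot (by rw [hne]; exact hu1)) (hnot (by rw [hn'e]; exact hu'1))
      (by
        apply hnot
        have h1 : n * n' * e₀ * (n * n')⁻¹ * e₀⁻¹ =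
            (n * (n' * e₀ * n'⁻¹ * e₀⁻¹) * n⁻¹) * (n * e₀ * n⁻¹ * e₀⁻¹) := by group
        rw [h1, hn'e, hne]
        have h2 : n * u' * n⁻¹ = u' := by rw [hX n hn u' (hVX hauV)]; group
        rw [h2]
        intro h3
        apply hau
        have h4 : u' * (u * u) = u := by rw [← mul_assoc, h3, one_mul]
        rwa [hX2 u (hVX hu), mul_one] at h4)
    have h2 := two_mul_card_le hCA (huE E₀ le_rfl) huA
    have hXE : A ⊓ centralizer (X : Set G) ≤ E := by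
      refine fun x hx => ⟨⟨hx.1, centralizer_le hVX hx.2⟩, mem_centralizer_iff.2 fun y hy => ?_⟩
      rw [Set.mem_singleton_iff.1 hy]
      exact mem_centralizer_iff.1 hx.2 n hn
    have h3 := best E hXE (hE.trans inf_le_left)
    have h5 : 2 * (Nat.card A * Nat.card (X ⊓ centralizer (A : Set G) : Subgroup G)) ≤
        Nat.card E * Nat.card (X ⊓ centralizer (E : Set G) : Subgroup G) := by
      have h6 : Nat.card A ≤ 4 * Nat.card E := by omega
      have h7 : 8 * Nat.card (X ⊓ centralizer (A : Set G) : Subgroup G) ≤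
          Nat.card (X ⊓ centralizer (E : Set G) : Subgroup G) := by omega
      have h8 := Nat.mul_le_mul h6 h7
      nlinarith
    have h9 := Nat.mul_pos hposA hpos
    omega
  · -- the case `w = 0`
    push Not at hw
    have hnE₀ : n ∈ X ⊓ centralizer (E₀ : Set G) := by
      refine ⟨hn, mem_centralizer_iff.2 fun e he => ?_⟩
      exact (hcent ((hnQ e (hE₀ he)).resolve_right (hw e he))).symm
    -- `n` or `n u` is centralised by `A`
    have hn2 : n ∈ X ⊓ centralizer (A : Set G) ∨ u * n ∈ X ⊓ centralizer (A : Set G) := by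
      by_contra hcon
      push Not at hcon
      have h4 := four_mul_card_le (C := X ⊓ centralizer (A : Set G)) (D := X ⊓ centralizer (E₀ : Set G))
        hX inf_le_left hCA (huE E₀ le_rfl) hnE₀ (by rw [hX2 u (hVX hu)]; exact one_mem _) huA hcon.1 hcon.2
      have h3 := best E₀ (inf_le_inf_left _ (centralizer_le hVX)) inf_le_left
      have h8 := Nat.mul_le_mul hcardA h4
      have h9 := Nat.mul_pos hposA hpos
      nlinarith
    -- `n' = n v`
    have hn'v : ∃ v ∈ V, n' = n * v := by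
      rcases hn2 with h | h
      · refine ⟨1, V.one_mem, ?_⟩
        have := mem_centralizer_iff.1 h.2 a haA
        rw [hn', this]; group
      · refine ⟨u * u'⁻¹, V.mul_mem hu (V.inv_mem hauV), ?_⟩
        have h1 := mem_centralizer_iff.1 h.2 a haA
        have h2 : u' * n' = u * n := by
          have : u' * n' = a * (u * n) * a⁻¹ := by rw [hu', hn']; group
          rw [this, h1]; group
        have h3 : n' = u'⁻¹ * (u * n) := by rw [← h2]; group
        rw [h3, ← mul_assoc, hX _ (X.mul_mem (X.inv_mem (hVX hauV)) (hVX hu)) n hn]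
        congr 1
        exact hX _ (X.inv_mem (hVX hauV)) _ (hVX hu)
    obtain ⟨v, hv, hnv⟩ := hn'v
    refine mem_centralizer_iff.2 fun q hq => ?_
    refine (hcent ?_).symm
    refine (hnQ q hq).resolve_right fun h => ?_
    have h1 : n' * q * n'⁻¹ * q⁻¹ = u := by
      have h2 : v * q = q * v := (mem_centralizer_iff.1 (hVQ hv) q hq).symm
      have h3 : v * q * v⁻¹ = q := by rw [h2]; group
      calc n' * q * n'⁻¹ * q⁻¹ = n * (v * q * v⁻¹) * n⁻¹ * q⁻¹ := by rw [hnv]; group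
        _ = u := by rw [h3, h]
    rcases hn'Q q hq with h2 | h2
    · exact hu1 (h1.symm.trans h2)
    · exact hau (h2.symm.trans h1)

/-- **LEMMA FIX, stage `-1`**: `A` elementary abelian of maximal order in `T`, `n ∈ Q` an involution. -/
theorem fixQ {T : Subgroup G} (hAT : IsMaxIn T A) (hQT : Q ≤ T)
    (hV2 : ∀ x ∈ V, x * x = 1) (hVleQ : V ≤ Q) (hVQ : V ≤ centralizer (Q : Set G))
    (hE₀ : A ⊓ centralizer (V : Set G) ≤ Q) (haA : a ∈ A) (haQ : a ∈ normalizer (Q : Set G))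
    (hAV : ∀ b ∈ A, ∀ v ∈ V, b * v * b⁻¹ ∈ V) (hidx : ∀ b ∈ A, b ∈ centralizer (V : Set G) ∨
      a * b ∈ centralizer (V : Set G)) (hu : u ∈ V) (hau : a * u * a⁻¹ ≠ u)
    (hn : n ∈ Q) (hn2 : n * n = 1) (hnQ : ∀ q ∈ Q, n * q * n⁻¹ * q⁻¹ = 1 ∨ n * q * n⁻¹ * q⁻¹ = u) :
    n ∈ centralizer (Q : Set G) := by
  have hAel := OddOrderLocal.RankBasics.isElementaryAbelian_iff.1 hAT.2.1
  have hAc : ∀ b ∈ A, ∀ c ∈ A, b * c = c * b := fun b hb c hc => hAel.1 b hb c hc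
  have ha2 : a * a = 1 := by
    have := hAel.2 a haA
    rwa [pow_two] at this
  have hainv : a⁻¹ = a := inv_eq_of_mul_eq_one_left ha2
  have hauV : a * u * a⁻¹ ∈ V := hAV a haA u hu
  set n' := a * n * a⁻¹ with hn'
  set u' := a * u * a⁻¹ with hu'
  have hn'Q' : n' ∈ Q := (mem_normalizer_iff.1 haQ n).1 hn
  have hu1 : u ≠ 1 := by
    intro h
    apply hau
    rw [hu', h, mul_one, mul_inv_cancel]
  have hn'Q : ∀ q ∈ Q, n' * q * n'⁻¹ * q⁻¹ = 1 ∨ n' * q * n'⁻¹ * q⁻¹ = u' := by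
    intro q hq
    have hq' : a⁻¹ * q * a ∈ Q := by
      have := (mem_normalizer_iff.1 (inv_mem haQ) q).1 hq
      rwa [inv_inv] at this
    have he : n' * q * n'⁻¹ * q⁻¹ = a * (n * (a⁻¹ * q * a) * n⁻¹ * (a⁻¹ * q * a)⁻¹) * a⁻¹ := by
      rw [hn']; group
    rcases hnQ _ hq' with h | h
    · left; rw [he, h]; group
    · right; rw [he, h]
  have hcent : ∀ {x e : G}, x * e * x⁻¹ * e⁻¹ = 1 → x * e = e * x := by
    intro x e h
    have h2 : x * e = (x * e * x⁻¹ * e⁻¹) * (e * x) := by group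
    rw [h2, h, one_mul]
  have hsq : ∀ {x : G}, x * x = 1 → x⁻¹ = x := fun h => inv_eq_of_mul_eq_one_left h
  have hnn : n * n' = n' * n := by
    rcases hnQ n' hn'Q' with h | h
    · exact hcent h
    · exfalso
      rcases hn'Q n hn with h1 | h1
      · have h2 : n * n' * n⁻¹ * n'⁻¹ = (n' * n * n'⁻¹ * n⁻¹)⁻¹ := by group
        rw [h, h1, inv_one] at h2
        exact hu1 h2
      · have h2 : n * n' * n⁻¹ * n'⁻¹ = (n' * n * n'⁻¹ * n⁻¹)⁻¹ := by group
        rw [h, h1, hsq (hV2 u' hauV)] at h2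
        exact hau h2.symm
  have hVn : ∀ v ∈ V, ∀ q ∈ Q, v * q = q * v := fun v hv q hq => (mem_centralizer_iff.1 (hVQ hv) q hq).symm
  have hn'2 : n' * n' = 1 := by
    have : n' * n' = a * (n * n) * a⁻¹ := by rw [hn']; group
    rw [this, hn2]; group
  -- `X = V⟨n, n'⟩`
  let X : Subgroup G :=
    { carrier := {x | ∃ v ∈ V, ∃ y, (y = 1 ∨ y = n) ∧ ∃ z, (z = 1 ∨ z = n') ∧ x = v * y * z}
      one_mem' := ⟨1, V.one_mem, 1, Or.inl rfl, 1, Or.inl rfl, by group⟩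
      mul_mem' := by
        rintro x x' ⟨v, hv, y, hy, z, hz, rfl⟩ ⟨v', hv', y', hy', z', hz', rfl⟩
        have hyQ : y ∈ Q := by rcases hy with rfl | rfl; exacts [Q.one_mem, hn]
        have hzQ : z ∈ Q := by rcases hz with rfl | rfl; exacts [Q.one_mem, hn'Q']
        have hzy : z * y' = y' * z := by
          rcases hz with rfl | rfl <;> rcases hy' with rfl | rfl <;> first | (simp; done) | exact hnn.symm
        refine ⟨v * v', V.mul_mem hv hv', y * y', ?_, z * z', ?_, ?_⟩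
        · rcases hy with rfl | rfl <;> rcases hy' with rfl | rfl <;> simp [hn2]
        · rcases hz with rfl | rfl <;> rcases hz' with rfl | rfl <;> simp [hn'2]
        · calc v * y * z * (v' * y' * z') = v * (y * z * v') * y' * z' := by group
            _ = v * (v' * (y * z)) * y' * z' := by rw [hVn v' hv' (y * z) (Q.mul_mem hyQ hzQ)]
            _ = v * v' * y * (z * y') * z' := by group
            _ = v * v' * y * (y' * z) * z' := by rw [hzy]
            _ = _ := by group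
      inv_mem' := by
        rintro x ⟨v, hv, y, hy, z, hz, rfl⟩
        have hyQ : y ∈ Q := by rcases hy with rfl | rfl; exacts [Q.one_mem, hn]
        have hzQ : z ∈ Q := by rcases hz with rfl | rfl; exacts [Q.one_mem, hn'Q']
        have hy2 : y⁻¹ = y := by rcases hy with rfl | rfl; exacts [inv_one, hsq hn2]
        have hz2 : z⁻¹ = z := by rcases hz with rfl | rfl; exacts [inv_one, hsq hn'2]
        have hzy : z * y = y * z := by
          rcases hz with rfl | rfl <;> rcases hy with rfl | rfl <;> first | (simp; done) | exact hnn.symm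
        refine ⟨v, hv, y, hy, z, hz, ?_⟩
        calc (v * y * z)⁻¹ = z⁻¹ * y⁻¹ * v⁻¹ := by group
          _ = z * y * v := by rw [hy2, hz2, hsq (hV2 v hv)]
          _ = v * (z * y) := (hVn v hv (z * y) (Q.mul_mem hzQ hyQ)).symm
          _ = _ := by rw [hzy]; group }
  have hmemX : ∀ {x : G}, x ∈ X ↔ ∃ v ∈ V, ∃ y, (y = 1 ∨ y = n) ∧ ∃ z, (z = 1 ∨ z = n') ∧ x = v * y * z := Iff.rfl
  have hVX : V ≤ X := fun v hv => ⟨v, hv, 1, Or.inl rfl, 1, Or.inl rfl, by group⟩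
  have hnX : n ∈ X := ⟨1, V.one_mem, n, Or.inr rfl, 1, Or.inl rfl, by group⟩
  have hn'X : n' ∈ X := ⟨1, V.one_mem, 1, Or.inl rfl, n', Or.inr rfl, by group⟩
  have hXQ : X ≤ Q := by
    rintro x ⟨v, hv, y, hy, z, hz, rfl⟩
    have hyQ : y ∈ Q := by rcases hy with rfl | rfl; exacts [Q.one_mem, hn]
    have hzQ : z ∈ Q := by rcases hz with rfl | rfl; exacts [Q.one_mem, hn'Q']
    exact Q.mul_mem (Q.mul_mem (hVleQ hv) hyQ) hzQ
  have hXc : ∀ x ∈ X, ∀ y ∈ X, x * y = y * x := by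
    rintro x ⟨v, hv, y, hy, z, hz, rfl⟩ x' hx'
    have e1 : v * x' = x' * v := hVn v hv x' (hXQ hx')
    obtain ⟨v', hv', y', hy', z', hz', rfl⟩ := hx'
    have hyz : ∀ w, (w = 1 ∨ w = n ∨ w = n') → w * (v' * y' * z') = v' * y' * z' * w := by
      intro w hw
      have hwQ : w ∈ Q := by rcases hw with rfl | rfl | rfl; exacts [Q.one_mem, hn, hn'Q']
      have hwy : w * y' = y' * w := by
        rcases hw with rfl | rfl | rfl <;> rcases hy' with rfl | rfl <;>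
          first | (simp; done) | exact hnn.symm | rfl
      have hwz : w * z' = z' * w := by
        rcases hw with rfl | rfl | rfl <;> rcases hz' with rfl | rfl <;>
          first | (simp; done) | exact hnn | rfl
      calc w * (v' * y' * z') = (w * v') * y' * z' := by group
        _ = v' * (w * y') * z' := by rw [← hVn v' hv' w hwQ]; group
        _ = v' * y' * (w * z') := by rw [hwy]; group
        _ = _ := by rw [hwz]; group
    have e2 : y * (v' * y' * z') = v' * y' * z' * y := hyz y (by rcases hy with h | h <;> simp [h])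
    have e3 : z * (v' * y' * z') = v' * y' * z' * z := hyz z (by rcases hz with h | h <;> simp [h])
    calc v * y * z * (v' * y' * z') = v * y * (z * (v' * y' * z')) := by group
      _ = v * (y * (v' * y' * z')) * z := by rw [e3]; group
      _ = (v * (v' * y' * z')) * y * z := by rw [e2]; group
      _ = _ := by rw [e1]; group
  have hX2 : ∀ x ∈ X, x * x = 1 := by
    rintro x ⟨v, hv, y, hy, z, hz, rfl⟩
    have hyX : y ∈ X := by rcases hy with rfl | rfl; exacts [X.one_mem, hnX]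
    have hzX : z ∈ X := by rcases hz with rfl | rfl; exacts [X.one_mem, hn'X]
    have hy2 : y * y = 1 := by rcases hy with rfl | rfl; exacts [one_mul 1, hn2]
    have hz2 : z * z = 1 := by rcases hz with rfl | rfl; exacts [one_mul 1, hn'2]
    have e1 := hXc (v * y) (X.mul_mem (hVX hv) hyX) z hzX
    have e2 := hXc v (hVX hv) y hyX
    calc v * y * z * (v * y * z) = (v * y) * (z * (v * y)) * z := by group
      _ = (v * y) * ((v * y) * z) * z := by rw [← e1]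
      _ = (v * y) * (v * y) * (z * z) := by group
      _ = v * (y * v) * y := by rw [hz2]; group
      _ = (v * v) * (y * y) := by rw [← e2]; group
      _ = 1 := by rw [hV2 v hv, hy2, one_mul]
  -- `A ≤ N(X)`
  have huX : u ∈ X := hVX hu
  have hu'X : u' ∈ X := hVX hauV
  have hE₀X : ∀ e ∈ A, e ∈ centralizer (V : Set G) → ∀ x ∈ X, e * x * e⁻¹ ∈ X := by
    rintro e heA he x ⟨v, hv, y, hy, z, hz, rfl⟩
    have heQ : e ∈ Q := hE₀ ⟨heA, he⟩
    have hev : e * v * e⁻¹ = v := by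
      have := mem_centralizer_iff.1 he v hv
      rw [← this]; group
    have hen : ∀ w t, w ∈ X → t ∈ X → (w * e * w⁻¹ * e⁻¹ = 1 ∨ w * e * w⁻¹ * e⁻¹ = t) → e * w * e⁻¹ ∈ X := by
      intro w t hw ht h
      have h1 : e * w * e⁻¹ = (w * e * w⁻¹ * e⁻¹)⁻¹ * w := by group
      rw [h1]
      rcases h with h | h
      · rw [h]; exact X.mul_mem (X.inv_mem X.one_mem) hw
      · rw [h]; exact X.mul_mem (X.inv_mem ht) hw
    have hy3 : e * y * e⁻¹ ∈ X := by
      rcases hy with rfl | rfl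
      · rw [show e * 1 * e⁻¹ = 1 by group]; exact X.one_mem
      · exact hen _ u hnX huX (hnQ e heQ)
    have hz3 : e * z * e⁻¹ ∈ X := by
      rcases hz with rfl | rfl
      · rw [show e * 1 * e⁻¹ = 1 by group]; exact X.one_mem
      · exact hen _ u' hn'X hu'X (hn'Q e heQ)
    have h1 : e * (v * y * z) * e⁻¹ = (e * v * e⁻¹) * (e * y * e⁻¹) * (e * z * e⁻¹) := by group
    rw [h1, hev]
    exact X.mul_mem (X.mul_mem (hVX hv) hy3) hz3
  have haX : ∀ x ∈ X, a * x * a⁻¹ ∈ X := by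
    rintro x ⟨v, hv, y, hy, z, hz, rfl⟩
    have h1 : a * (v * y * z) * a⁻¹ = (a * v * a⁻¹) * (a * y * a⁻¹) * (a * z * a⁻¹) := by group
    rw [h1]
    have hy3 : a * y * a⁻¹ ∈ X := by
      rcases hy with rfl | rfl
      · rw [show a * 1 * a⁻¹ = 1 by group]; exact X.one_mem
      · exact hn'X
    have hz3 : a * z * a⁻¹ ∈ X := by
      rcases hz with rfl | rfl
      · rw [show a * 1 * a⁻¹ = 1 by group]; exact X.one_mem
      · have : a * (a * n * a⁻¹) * a⁻¹ = (a * a) * n * (a * a)⁻¹ := by group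
        rw [hn', this, ha2]
        simpa using hnX
    exact X.mul_mem (X.mul_mem (hVX (hAV a haA v hv)) hy3) hz3
  have hAXm : ∀ b ∈ A, ∀ x ∈ X, b * x * b⁻¹ ∈ X := by
    intro b hb x hx
    rcases hidx b hb with h | h
    · exact hE₀X b hb h x hx
    · have h1 := hE₀X (a * b) (A.mul_mem haA hb) h x hx
      have h2 := haX _ h1
      have h3 : a * (a * b * x * (a * b)⁻¹) * a⁻¹ = (a * a) * (b * x * b⁻¹) * (a * a)⁻¹ := by group
      rw [h3, ha2] at h2
      simpa using h2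
  have hAX : A ≤ normalizer (X : Set G) := by
    intro b hb
    refine mem_normalizer_iff.2 fun x => ⟨fun hx => hAXm b hb x hx, fun hx => ?_⟩
    have := hAXm b⁻¹ (A.inv_mem hb) _ hx
    have h1 : b⁻¹ * (b * x * b⁻¹) * b⁻¹⁻¹ = x := by group
    rwa [h1] at this
  have hXel : IsElementaryAbelian 2 X :=
    OddOrderLocal.RankBasics.isElementaryAbelian_iff.2 ⟨fun x hx y hy => hXc x hx y hy,
      fun x hx => by rw [pow_two]; exact hX2 x hx⟩
  -- best
  refine fixX (X := X) (A := A) (a := a) (u := u) (n := n) hXc hX2 hVX hVQ ?_ hAX hE₀ ?_ haA haQ hidx hu hau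
    hauV hnX hnQ
  · intro b hb c hc
    rw [hAc b hb c hc]
    have : c * b * b⁻¹ * c⁻¹ = 1 := by group
    rw [this]; exact one_mem _
  · intro E hE1 hE
    have hEel : IsElementaryAbelian 2 E :=
      OddOrderLocal.RankBasics.isElementaryAbelian_iff.2 ⟨fun x hx y hy => hAc x (hE hx) y (hE hy),
        fun x hx => hAel.2 x (hE hx)⟩
    have hCel : IsElementaryAbelian 2 (X ⊓ centralizer (E : Set G) : Subgroup G) :=
      OddOrderLocal.RankBasics.isElementaryAbelian_iff.2 ⟨fun x hx y hy => hXc x hx.1 y hy.1,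
        fun x hx => by rw [pow_two]; exact hX2 x hx.1⟩
    have hcm : ∀ e ∈ E, ∀ x ∈ (X ⊓ centralizer (E : Set G) : Subgroup G), e * x = x * e :=
      fun e he x hx => mem_centralizer_iff.1 hx.2 e he
    have h1 := WeakTI.FlatLine.card_sup_mul_card_inf (U := E) (V := X ⊓ centralizer (E : Set G)) hcm
    have h2 := hAT.2.2 (E ⊔ (X ⊓ centralizer (E : Set G)))
      (sup_le (hE.trans hAT.1) (inf_le_left.trans (hXQ.trans hQT)))
      (OddOrderLocal.RankBasics.isElementaryAbelian_sup hEel hCel hcm)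
    have h3 : Nat.card ↥(E ⊓ (X ⊓ centralizer (E : Set G))) ≤ Nat.card ↥(X ⊓ centralizer (A : Set G)) := by
      refine Subgroup.card_le_of_le ?_
      refine fun x hx => ⟨hx.2.1, mem_centralizer_iff.2 fun b hb => hAc b hb x (hE hx.1)⟩
    calc Nat.card E * Nat.card ↥(X ⊓ centralizer (E : Set G)) = _ := h1.symm
      _ ≤ _ := Nat.mul_le_mul h2 h3

end fix

end Cfsg.Agent.Omega.NO3S.ESym.Fix

end

section


/-!
# `SymManyL`, case (E): the heavy groups in coordinates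

Over the module data `Sy P V ⊥ e` (`SQ1/FFSym.lean`): `mem_FF`, `mem_FP`, `mem_EE`, `V_le_FF`, `FF_dir`, `EE_cent`, `EE_norm`,
`EE_comm`, `cent_EE`, `exists_zz`, conjugation by elements of `P`.
-/

set_option autoImplicit false
set_option linter.unusedSectionVars false

namespace Cfsg.Agent.Omega.NO3S.ESym.Coord

open Subgroup Cfsg
open Cfsg.Agent.Omega.FFThm (ActsSym)
open Cfsg.Agent.Omega.SQ1.FFSym (Sy Gd perm_inv_self act_mul act_conj single_conj u)
open Cfsg.Agent.Omega.OM Cfsg.Agent.Omega.OM.Uni Cfsg.Agent.ZN.ChoiceBase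
open Cfsg.Agent.Omega.NO3S.ESym (FF FP EE)

universe w

variable {G : Type w} [Group G] {P V : Subgroup G} {k n : ℕ} {e : G → Fin k → Fin n → ZMod 2}

section

variable (h : Sy P V ⊥ e)
include h

theorem eq_of_e {v w : G} (hv : v ∈ V) (hw : w ∈ V) (he : e v = e w) : v = w := by
  have h1 := mem_bot.1 (h.e_eq hv hw he)
  rw [eq_inv_of_mul_eq_one_left h1, h.inv_eq hw]

theorem mem_FF {j : Fin k} {v : G} : v ∈ FF V e j ↔ v ∈ V ∧ ∀ i, i ≠ j → e v i = 0 := by
  refine ⟨fun hv => ?_, fun hv => subset_closure hv⟩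
  refine closure_induction (fun x hx => hx) ⟨one_mem _, fun i _ => by rw [h.e_one]; rfl⟩ (fun x y _ _ hx hy => ?_)
    (fun x _ hx => ?_) hv
  · refine ⟨mul_mem hx.1 hy.1, fun i hi => ?_⟩
    rw [h.mul _ hx.1 _ hy.1, Pi.add_apply, hx.2 i hi, hy.2 i hi, add_zero]
  · refine ⟨inv_mem hx.1, fun i hi => ?_⟩
    rw [h.e_inv hx.1, hx.2 i hi]

theorem mem_FP {o : Fin n} {j : Fin k} {v : G} :
    v ∈ FP V o e j ↔ v ∈ V ∧ (∀ i, i ≠ j → e v i = 0) ∧ e v j o = 0 := by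
  refine ⟨fun hv => ?_, fun hv => subset_closure hv⟩
  refine closure_induction (fun x hx => hx) ⟨one_mem _, fun i _ => by rw [h.e_one]; rfl, by rw [h.e_one]; rfl⟩
    (fun x y _ _ hx hy => ?_) (fun x _ hx => ?_) hv
  · refine ⟨mul_mem hx.1 hy.1, fun i hi => ?_, ?_⟩
    · rw [h.mul _ hx.1 _ hy.1, Pi.add_apply, hx.2.1 i hi, hy.2.1 i hi, add_zero]
    · rw [h.mul _ hx.1 _ hy.1, Pi.add_apply, Pi.add_apply, hx.2.2, hy.2.2, add_zero]
  · refine ⟨inv_mem hx.1, fun i hi => ?_, ?_⟩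
    · rw [h.e_inv hx.1, hx.2.1 i hi]
    · rw [h.e_inv hx.1, hx.2.2]

theorem FP_le_FF {o : Fin n} (j : Fin k) : FP V o e j ≤ FF V e j := fun v hv => by
  rw [mem_FP h] at hv
  exact (mem_FF h).2 ⟨hv.1, hv.2.1⟩

theorem FF_le (j : Fin k) : FF V e j ≤ V := fun _ hv => ((mem_FF h).1 hv).1

theorem FP_le {o : Fin n} (j : Fin k) : FP V o e j ≤ V := (FP_le_FF h j).trans (FF_le h j)

theorem mem_EE {j : Fin k} {g : G} : g ∈ EE P V e j ↔ g ∈ P ∧ ∃ π, ActsSym e V g 1 (Pi.mulSingle j π) := by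
  refine ⟨fun hg => ?_, fun hg => subset_closure hg⟩
  refine closure_induction (fun x hx => hx) ⟨one_mem _, 1, ?_⟩ (fun x y _ _ hx hy => ?_) (fun x _ hx => ?_) hg
  · rw [Pi.mulSingle_one]
    exact h.gd_one.act
  · obtain ⟨hx, π, h1⟩ := hx
    obtain ⟨hy, ρ, h2⟩ := hy
    refine ⟨mul_mem hx hy, π * ρ, ?_⟩
    have h3 := act_mul (h.Vn y hy) h1 h2
    rw [one_mul] at h3
    rw [Pi.mulSingle_mul]
    exact h3
  · obtain ⟨hx, π, h1⟩ := hx
    refine ⟨inv_mem hx, π⁻¹, ?_⟩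
    have h2 := (h.gd_inv ⟨hx, fun d hd => by rw [mem_bot.1 hd, one_mul, mul_one], h1⟩).act
    rw [Pi.mulSingle_inv]
    exact h2

theorem gd_of {g : G} {τ : Fin k → Equiv.Perm (Fin n)} (hg : g ∈ P) (ha : ActsSym e V g 1 τ) : Gd P V ⊥ e τ g :=
  ⟨hg, fun d hd => by rw [mem_bot.1 hd, one_mul, mul_one], ha⟩

theorem EE_le (j : Fin k) : EE P V e j ≤ P := fun _ hg => ((mem_EE h).1 hg).1

/-- elements of `C_P(V)` are in every `E j` -/
theorem cent_le_EE (j : Fin k) {g : G} (hg : g ∈ P) (hc : ∀ v ∈ V, g * v = v * g) : g ∈ EE P V e j := by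
  refine (mem_EE h).2 ⟨hg, 1, fun v hv i x => ?_⟩
  rw [hc v hv, Pi.mulSingle_one]
  simp

/-- an element acting trivially on the coordinates centralises `V` -/
theorem comm_of_act {g : G} (hg : g ∈ P) (ha : ActsSym e V g 1 1) : ∀ v ∈ V, g * v = v * g := by
  refine h.cent g hg (fun d hd => by rw [mem_bot.1 hd, one_mul, mul_one]) fun v hv => ?_
  funext i x
  have := ha v hv i x
  rwa [Equiv.Perm.one_apply, Pi.one_apply, Equiv.Perm.one_apply] at this

/-- `V` is generated by the factors -/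
theorem V_le_iSup : V ≤ ⨆ j, FF V e j := by
  classical
  have key : ∀ s : Finset (Fin k), ∀ v ∈ V, (∀ i, i ∉ s → e v i = 0) → v ∈ ⨆ j, FF V e j := by
    intro s
    induction s using Finset.induction_on with
    | empty =>
      intro v hv h0
      have : v = 1 := eq_of_e h hv (one_mem V) (by
        rw [h.e_one]
        funext i
        exact h0 i (by simp))
      rw [this]
      exact one_mem _
    | insert j s hj ih =>
      intro v hv h0
      obtain ⟨w, hw, hew⟩ := h.surj (fun i => if i = j then e v i else 0) fun i => by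
        by_cases hi : i = j
        · simp only [hi, if_true]
          exact h.even v hv j
        · simp [hi]
      have h1 : w ∈ FF V e j := (mem_FF h).2 ⟨hw, fun i hi => by rw [hew]; simp [hi]⟩
      have h2 : v * w ∈ ⨆ j, FF V e j := by
        refine ih _ (mul_mem hv hw) fun i hi => ?_
        rw [h.mul _ hv _ hw, Pi.add_apply, hew]
        by_cases hij : i = j
        · simp only [hij, if_true]
          funext x
          exact CharTwo.add_self_eq_zero _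
        · simp only [hij, if_false]
          rw [h0 i (by simp [hij, hi])]
          exact add_zero _
      have h3 : v = (v * w) * w⁻¹ := by group
      rw [h3]
      exact mul_mem h2 (inv_mem ((le_iSup (fun j => FF V e j) j) h1))
  intro v hv
  exact key Finset.univ v hv fun i hi => absurd (Finset.mem_univ i) hi

theorem V_eq : V = ⨆ j, FF V e j := le_antisymm (V_le_iSup h) (iSup_le fun j => FF_le h j)

/-- the join of the other factors -/
theorem e_of_mem_iSup {j : Fin k} {v : G} (hv : v ∈ ⨆ i, ⨆ _ : i ≠ j, FF V e i) : v ∈ V ∧ e v j = 0 := by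
  have h1 : (⨆ i, ⨆ _ : i ≠ j, FF V e i) ≤ closure {v | v ∈ V ∧ e v j = 0} := by
    refine iSup_le fun i => iSup_le fun hi => fun v hv => subset_closure ⟨FF_le h i hv, ?_⟩
    exact ((mem_FF h).1 hv).2 j hi.symm
  refine closure_induction (fun x hx => hx) ⟨one_mem _, by rw [h.e_one]; rfl⟩ (fun x y _ _ hx hy => ?_)
    (fun x _ hx => ?_) (h1 hv)
  · exact ⟨mul_mem hx.1 hy.1, by rw [h.mul _ hx.1 _ hy.1, Pi.add_apply, hx.2, hy.2, add_zero]⟩
  · exact ⟨inv_mem hx.1, by rw [h.e_inv hx.1, hx.2]⟩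

theorem FF_dir (j : Fin k) : FF V e j ⊓ (⨆ i, ⨆ _ : i ≠ j, FF V e i) = ⊥ := by
  rw [eq_bot_iff]
  rintro v ⟨h1, h2⟩
  obtain ⟨hv, h3⟩ := e_of_mem_iSup h h2
  rw [mem_bot]
  refine eq_of_e h hv (one_mem V) ?_
  rw [h.e_one]
  funext i
  by_cases hi : i = j
  · rw [hi, h3]; rfl
  · rw [((mem_FF h).1 h1).2 i hi]; rfl

theorem FF_inf {i j : Fin k} (hij : i ≠ j) : FF V e i ⊓ FF V e j = ⊥ := by
  rw [eq_bot_iff, inf_comm, ← FF_dir h j]
  exact inf_le_inf_left _ ((le_iSup₂ (f := fun i (_ : i ≠ j) => FF V e i) i hij))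

/-- an element of `P` acting as `(σ, τ)` maps the factors -/
theorem cj_FF {g : G} (hg : g ∈ P) {σ : Equiv.Perm (Fin k)} {τ : Fin k → Equiv.Perm (Fin n)}
    (ha : ActsSym e V g σ τ) (j : Fin k) : cj g (FF V e j) = FF V e (σ j) := by
  ext v
  rw [mem_cj, mem_FF h, mem_FF h]
  constructor
  · rintro ⟨h1, h2⟩
    have hv : v ∈ V := by
      have := h.Vn g hg _ h1
      have e1 : g * (g⁻¹ * v * g) * g⁻¹ = v := by group
      rwa [e1] at this
    refine ⟨hv, fun i hi => ?_⟩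
    funext x
    have h3 := ha _ h1 (σ.symm i) ((τ (σ.symm i))⁻¹ x)
    have e1 : g * (g⁻¹ * v * g) * g⁻¹ = v := by group
    rw [e1, Equiv.apply_symm_apply, perm_inv_self] at h3
    rw [h3, h2 _ (fun hc => hi (by rw [← hc, Equiv.apply_symm_apply]))]
    rfl
  · rintro ⟨h1, h2⟩
    refine ⟨h.Vn' hg v h1, fun i hi => ?_⟩
    funext x
    have h3 := ha _ (h.Vn' hg v h1) i x
    have e1 : g * (g⁻¹ * v * g) * g⁻¹ = v := by group
    rw [e1] at h3
    rw [← h3, h2 _ (fun hc => hi (σ.injective hc))]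
    rfl

theorem cj_FP {o : Fin n} {g : G} (hg : g ∈ P) {σ : Equiv.Perm (Fin k)} {τ : Fin k → Equiv.Perm (Fin n)}
    (ha : ActsSym e V g σ τ) (j : Fin k) (ho : τ j o = o) : cj g (FP V o e j) = FP V o e (σ j) := by
  ext v
  have h0 := cj_FF h hg ha j
  have h1 : v ∈ cj g (FF V e j) ↔ v ∈ FF V e (σ j) := by rw [h0]
  rw [mem_cj, mem_FF h, mem_FF h] at h1
  rw [mem_cj, mem_FP h, mem_FP h, ← and_assoc, ← and_assoc, h1]
  refine and_congr_right fun h2 => ?_
  have h3 := ha _ (h.Vn' hg v h2.1) j o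
  have e1 : g * (g⁻¹ * v * g) * g⁻¹ = v := by group
  rw [e1, ho] at h3
  rw [h3]

theorem cj_EE {g : G} (hg : g ∈ P) {σ : Equiv.Perm (Fin k)} {τ : Fin k → Equiv.Perm (Fin n)}
    (ha : ActsSym e V g σ τ) (j : Fin k) : cj g (EE P V e j) = EE P V e (σ j) := by
  refine le_antisymm ?_ ?_
  · rintro _ ⟨x, hx, rfl⟩
    obtain ⟨hxP, π, hπ⟩ := (mem_EE h).1 hx
    have h1 := h.gd_conj_single hg ha (gd_of h hxP hπ)
    exact (mem_EE h).2 ⟨h1.mem, _, h1.act⟩
  · intro x hx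
    obtain ⟨hxP, π, hπ⟩ := (mem_EE h).1 hx
    rw [mem_cj]
    obtain ⟨σ', τ', ha'⟩ := h.perm g⁻¹ (inv_mem hg)
    have h1 := h.gd_conj_single (inv_mem hg) ha' (gd_of h hxP hπ)
    have h2 : σ' (σ j) = j := by
      have h3 := act_mul (h.Vn g hg) ha' ha
      rw [inv_mul_cancel] at h3
      have h4 := (h.act_unique h3 h.gd_one.act).1
      exact congrArg (fun f : Equiv.Perm (Fin k) => f j) h4
    rw [h2, inv_inv] at h1
    exact (mem_EE h).2 ⟨h1.mem, _, h1.act⟩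

/-- `E i` centralises `V_j`, `j ≠ i` -/
theorem EE_cent {i j : Fin k} (hij : i ≠ j) {g : G} (hg : g ∈ EE P V e i) {v : G} (hv : v ∈ FF V e j) :
    g * v = v * g := by
  obtain ⟨hgP, π, hπ⟩ := (mem_EE h).1 hg
  rw [mem_FF h] at hv
  have h1 : g * v * g⁻¹ = v := by
    refine eq_of_e h (h.Vn g hgP v hv.1) hv.1 ?_
    funext l x
    by_cases hl : l = i
    · subst hl
      have h2 := hπ v hv.1 l ((π)⁻¹ x)
      rw [Equiv.Perm.one_apply, Pi.mulSingle_eq_same, perm_inv_self] at h2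
      rw [h2, hv.2 l hij]
      rfl
    · have h2 := hπ v hv.1 l x
      rw [Equiv.Perm.one_apply, Pi.mulSingle_eq_of_ne hl, Equiv.Perm.one_apply] at h2
      exact h2
  calc g * v = g * v * g⁻¹ * g := by group
    _ = v * g := by rw [h1]

/-- `E j` normalises every factor -/
theorem EE_norm (i j : Fin k) : EE P V e i ≤ normalizer (FF V e j : Set G) := by
  intro g hg
  obtain ⟨hgP, π, hπ⟩ := (mem_EE h).1 hg
  rw [mem_normalizer_iff_cj, cj_FF h hgP hπ, Equiv.Perm.one_apply]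

/-- `[E i, E j] ≤ C(V)` -/
theorem EE_comm {i j : Fin k} (hij : i ≠ j) {x y : G} (hx : x ∈ EE P V e i) (hy : y ∈ EE P V e j) :
    ∀ v ∈ V, (x * y * x⁻¹ * y⁻¹) * v = v * (x * y * x⁻¹ * y⁻¹) := by
  obtain ⟨hxP, π, hπ⟩ := (mem_EE h).1 hx
  obtain ⟨hyP, ρ, hρ⟩ := (mem_EE h).1 hy
  have h1 := h.gd_conj_single hxP hπ (gd_of h hyP hρ)
  rw [Equiv.Perm.one_apply, Pi.mulSingle_eq_of_ne hij.symm] at h1
  have h2 : (1 : Equiv.Perm (Fin n)) * ρ * (1 : Equiv.Perm (Fin n))⁻¹ = ρ := by group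
  rw [h2] at h1
  have h3 := h.gd_mul h1 (h.gd_inv (gd_of h hyP hρ))
  rw [mul_inv_cancel] at h3
  exact comm_of_act h h3.mem h3.act

/-- a vector centralised by `E i` has `i`-component zero -/
theorem e_eq_zero (hn : Odd n) {i : Fin k} {v : G} (hv : v ∈ V) (hc : ∀ g ∈ EE P V e i, g * v = v * g) :
    e v i = 0 := by
  have h1 : ∀ x y : Fin n, e v i x = e v i y := by
    intro x y
    obtain ⟨g, hg⟩ := h.exists_gd (Pi.mulSingle i (Equiv.swap x y))
    have h2 := hc g ((mem_EE h).2 ⟨hg.mem, _, hg.act⟩)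
    have h3 := hg.act v hv i x
    have h4 : g * v * g⁻¹ = v := by rw [h2]; group
    rw [h4, Equiv.Perm.one_apply, Pi.mulSingle_eq_same, Equiv.swap_apply_left] at h3
    exact h3.symm
  funext x
  have h2 := h.even v hv i
  rw [Finset.sum_congr rfl fun y _ => h1 y x, Finset.sum_const, Finset.card_univ, Fintype.card_fin, nsmul_eq_mul] at h2
  obtain ⟨c, hc⟩ := hn
  rw [hc, Nat.cast_add, Nat.cast_mul, Nat.cast_one] at h2
  have h3 : ((2 : ℕ) : ZMod 2) = 0 := by decide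
  rw [h3, zero_mul, zero_add, one_mul] at h2
  exact h2

/-- `C_V(⟨E i : i ≠ j⟩) = V_j` -/
theorem cent_EE (hn : Odd n) {j : Fin k} {v : G} (hv : v ∈ V)
    (hc : ∀ i, i ≠ j → ∀ g ∈ EE P V e i, g * v = v * g) : v ∈ FF V e j :=
  (mem_FF h).2 ⟨hv, fun i hi => e_eq_zero h hn hv (hc i hi)⟩

/-- the action of `E j` on the points: `E j → Sym` is onto -/
theorem exists_EE (j : Fin k) (π : Equiv.Perm (Fin n)) : ∃ g ∈ EE P V e j, ActsSym e V g 1 (Pi.mulSingle j π) := by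
  obtain ⟨g, hg⟩ := h.exists_gd (Pi.mulSingle j π)
  exact ⟨g, (mem_EE h).2 ⟨hg.mem, _, hg.act⟩, hg.act⟩

/-! ### The heavy vector -/

section heavy

variable {o : Fin n} {z : G} {j : Fin k} (hz : z ∈ V)
  (ez : ∀ i x, e z i x = if i = j ∧ x ≠ o then 1 else 0)
include hz ez

theorem z_mem_FP : z ∈ FP V o e j := by
  refine (mem_FP h).2 ⟨hz, fun i hi => ?_, by simp [ez]⟩
  funext x
  simp [ez, hi]

theorem z_ne_one : z ≠ 1 := by
  rintro rfl
  obtain ⟨x, hx, -⟩ := h.exists_third o o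
  have h1 := ez j x
  rw [h.e_one] at h1
  simp [hx] at h1

/-- an element acting as `(σ, τ)` on the points maps `z j` to the complement of `τ j o` in `Ω (σ j)` -/
theorem e_conj_z {g : G} {σ : Equiv.Perm (Fin k)} {τ : Fin k → Equiv.Perm (Fin n)}
    (ha : ActsSym e V g σ τ) (i : Fin k) (x : Fin n) :
    e (g * z * g⁻¹) i x = if i = σ j ∧ x ≠ τ j o then 1 else 0 := by
  have h1 := ha z hz (σ.symm i) ((τ (σ.symm i))⁻¹ x)
  rw [Equiv.apply_symm_apply, perm_inv_self] at h1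
  rw [h1, ez]
  by_cases hi : i = σ j
  · subst hi
    rw [Equiv.symm_apply_apply]
    have h2 : (τ j)⁻¹ x = o ↔ x = τ j o := by
      rw [Equiv.Perm.inv_eq_iff_eq]
    simp only [true_and]
    by_cases hx : x = τ j o
    · rw [if_neg (not_not.2 hx), if_neg (not_not.2 (h2.2 hx))]
    · rw [if_pos hx, if_pos (fun hc => hx (h2.1 hc))]
  · have h2 : σ.symm i ≠ j := fun hc => hi (by rw [← hc, Equiv.apply_symm_apply])
    rw [if_neg (fun hc => h2 hc.1), if_neg (fun hc => hi hc.1)]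

/-- `g ∈ E j` fixes `z j` iff it fixes `o` -/
theorem fix_z_iff {g : G} (hg : g ∈ P) {π : Equiv.Perm (Fin n)} (ha : ActsSym e V g 1 (Pi.mulSingle j π)) :
    g * z * g⁻¹ = z ↔ π o = o := by
  have h1 := e_conj_z h hz ez ha
  constructor
  · intro hc
    by_contra hne
    have h2 := h1 j (π o)
    rw [hc, ez] at h2
    simp [Pi.mulSingle_eq_same, hne] at h2
  · intro hc
    refine eq_of_e h (h.Vn g hg z hz) hz ?_
    funext i x
    rw [h1, ez, Pi.mulSingle_eq_same, hc, Equiv.Perm.one_apply]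

/-- **the point stabiliser is maximal**: `E j = ⟨C_{E j}(z j), x⟩` for `x ∈ E j` moving `z j` -/
theorem EE_max {x : G} (hx : x ∈ EE P V e j) (hne : x * z * x⁻¹ ≠ z) {K : Subgroup G} (hxK : x ∈ K)
    (hK : ∀ g ∈ EE P V e j, g * z * g⁻¹ = z → g ∈ K) : EE P V e j ≤ K := by
  obtain ⟨hxP, π, hπ⟩ := (mem_EE h).1 hx
  have hπo : π o ≠ o := fun hc => hne ((fix_z_iff h hz ez hxP hπ).2 hc)
  intro g hg
  obtain ⟨hgP, ρ, hρ⟩ := (mem_EE h).1 hg
  by_cases h0 : ρ o = o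
  · exact hK g hg ((fix_z_iff h hz ez hgP hρ).2 h0)
  · -- choose `t` in `E j` fixing `o` and mapping `π o` to `ρ o`
    obtain ⟨t, ht, hta⟩ := exists_EE h j (Equiv.swap (π o) (ρ o))
    have hto : Equiv.swap (π o) (ρ o) o = o := Equiv.swap_apply_of_ne_of_ne (Ne.symm hπo) (Ne.symm h0)
    have htK : t ∈ K := hK t ht ((fix_z_iff h hz ez (EE_le h j ht) hta).2 hto)
    -- `(t x)⁻¹ g` fixes `o`
    have h1 := h.gd_mul (gd_of h (EE_le h j ht) hta) (gd_of h hxP hπ)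
    have h2 := h.gd_mul (h.gd_inv h1) (gd_of h hgP hρ)
    rw [← Pi.mulSingle_mul, ← Pi.mulSingle_inv, ← Pi.mulSingle_mul] at h2
    have h3 : ((Equiv.swap (π o) (ρ o) * π)⁻¹ * ρ) o = o := by
      rw [Equiv.Perm.mul_apply, Equiv.Perm.inv_eq_iff_eq, Equiv.Perm.mul_apply, Equiv.swap_apply_left]
    have h4 : (t * x)⁻¹ * g ∈ K := hK _ ((mem_EE h).2 ⟨h2.mem, _, h2.act⟩) ((fix_z_iff h hz ez h2.mem h2.act).2 h3)
    have h5 : g = (t * x) * ((t * x)⁻¹ * g) := by group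
    rw [h5]
    exact mul_mem (mul_mem htK hxK) h4

end heavy

/-- there are heavy vectors -/
theorem exists_zz (hn : Odd n) (o : Fin n) (j : Fin k) : ∃ z ∈ V, ∀ i x, e z i x = if i = j ∧ x ≠ o then 1 else 0 := by
  obtain ⟨z, hz, he⟩ := h.surj (fun i x => if i = j ∧ x ≠ o then 1 else 0) fun i => by
    by_cases hi : i = j
    · simp only [hi, true_and]
      rw [Finset.sum_ite, Finset.sum_const_zero, add_zero, Finset.sum_const, nsmul_eq_mul, mul_one,
        Finset.filter_ne', Finset.card_erase_of_mem (Finset.mem_univ _), Finset.card_univ, Fintype.card_fin]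
      obtain ⟨c, hc⟩ := hn
      rw [hc, Nat.add_sub_cancel, Nat.cast_mul]
      have h3 : ((2 : ℕ) : ZMod 2) = 0 := by decide
      rw [h3, zero_mul]
    · simp [hi]
  exact ⟨z, hz, fun i x => by rw [he]⟩

end

end Cfsg.Agent.Omega.NO3S.ESym.Coord

end

section


/-!
# The leaves `MultiTwoH`, `MultiQH` of GammaFF over `CaseLP`

`K₀ = O₂(P)`, `K = nxt S (O₂(P))`, `ZJ = Ω₁(Z(K))`, `B = C_S(ZJ)`.

* `OmC K c`, `EC K c` : the sockets (`c` = the condition on `(k, q)`); `multiTwoC_of`, `multiQC_of`;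
* `KZ_eq` : `KZ = ⟨C_G(Z_J), L_1, .., L_k⟩` over `Bg`, `q = 2`;
* `UniC K` : UNI+ and block generation; `EEndTwo K`, `EEndK K` : the ends of case (E) over `MulG`, `UniTwo`, `BlkS`
  (any frame); `eC_two`, `eC_three`, `eFrK_of_end`.
-/

set_option autoImplicit false
set_option linter.unusedSectionVars false

namespace Cfsg.Agent.Omega.Node.MulC

open Subgroup Cfsg Cfsg.Agent.ZN.ChoiceBase Cfsg.Agent.ZN.ChoiceSit
open Cfsg.Agent.ZN (jj zj bau zc zl o2)
open Cfsg.Agent.Omega.MinPar (IsParS)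
open Cfsg.Agent.Omega.FFThm (NatK NatKM)
open Cfsg.Agent.Omega.FrameFF (cv)
open Cfsg.Agent.Omega.NO3S (HypL HypF HypN HypJ Hyp PSS FrP CaseLP MultiTwoH MultiQH)
open Cfsg.Agent.Omega.NO3S.Level (lev nxt Lev CaseL)
open Cfsg.Agent.Omega.Frame (Cls)
open Cfsg.Agent.Omega.NO3S.EThree.Frame (Bg Fg)
open Cfsg.Agent.Omega.OM
open Cfsg.Agent.Omega.Node.MultiOf Cfsg.Agent.Omega.Node.MulG
open Cfsg.Agent.Omega.TC.OfMul (BlkS)

universe u

section sockets

variable (K : Cls.{u}) (c : ℕ → ℕ → Prop)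

/-- **(Om)**, case (L). -/
def OmC : Prop :=
  ∀ (G : Type u) [Group G] [Finite G], K G → ∀ (S : Sylow 2 G) (P : Subgroup G), CaseL S P →
    ∀ (B ZJ : Subgroup G) (k : ℕ) (L W Z C : Fin k → Subgroup G) (q : ℕ), 2 ≤ k → c k q →
      ZJ = zc (nxt (S : Subgroup G) (o2 P)) → B = (S : Subgroup G) ⊓ centralizer (ZJ : Set G) →
      MulG S P (nxt (S : Subgroup G) (o2 P)) B ZJ L W Z C q → o2 (KZ B ZJ) ≠ ⊥ → o2 (KZ B ZJ) ≤ B →
      KZ B ZJ ⊔ normalizer (B : Set G) ≤ normalizer (o2 (KZ B ZJ) : Set G) → IsKnownSimple' G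

/-- **(E)**, case (L). -/
def EC : Prop :=
  ∀ (G : Type u) [Group G] [Finite G], K G → ∀ (S : Sylow 2 G) (P : Subgroup G), CaseL S P →
    ∀ (B ZJ : Subgroup G) (k : ℕ) (L W Z C : Fin k → Subgroup G) (q : ℕ), 2 ≤ k → c k q →
      ZJ = zc (nxt (S : Subgroup G) (o2 P)) → B = (S : Subgroup G) ⊓ centralizer (ZJ : Set G) →
      MulG S P (nxt (S : Subgroup G) (o2 P)) B ZJ L W Z C q → NLoc (KZ B ZJ) → IsKnownSimple' G

/-- **UNI+ and block generation** in the case (L), `q = 2`. -/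
def UniC : Prop :=
  ∀ (G : Type u) [Group G] [Finite G], K G → ∀ (S : Sylow 2 G) (P : Subgroup G), CaseL S P →
    ∀ (F : Type) [Field F] [Finite F] [CharP F 2] (k : ℕ), Nat.card F = 2 → 2 ≤ k →
      NatKM F (S : Subgroup G) P (zl (S : Subgroup G) P) (cv (S : Subgroup G) P) k →
        ∀ B ZJ : Subgroup G, ZJ = zc (nxt (S : Subgroup G) (o2 P)) →
          B = (S : Subgroup G) ⊓ centralizer (ZJ : Set G) → NLoc (KZ B ZJ) →
          ∃ L W Z C : Fin k → Subgroup G, Bg S P B ZJ L W Z C 2 ∧ UniTwo B ZJ L W ∧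
            (3 ≤ k → BlkS (nxt (S : Subgroup G) (o2 P)) B B) ∧
            ∀ i : Fin k, k = 2 → BlkS (nxt (S : Subgroup G) (o2 P)) B ((S : Subgroup G) ⊓ normalizer (Z i : Set G))

/-- **the end of (E), `k = 2`, `q = 2`**, over the general frame: `EFr` without levels. -/
def EEndTwo : Prop :=
  ∀ (G : Type u) [Group G] [Finite G], K G → ∀ (S : Sylow 2 G) (P K' B ZJ : Subgroup G)
    (L W Z C : Fin 2 → Subgroup G), MulG S P K' B ZJ L W Z C 2 → NLoc (KZ B ZJ) → UniTwo B ZJ L W →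
      BlkS K' B ((S : Subgroup G) ⊓ normalizer (Z 0 : Set G)) → IsKnownSimple' G

/-- **the end of (E), `k ≥ 3`, `q = 2`**, over the general frame. -/
def EEndK : Prop :=
  ∀ (G : Type u) [Group G] [Finite G], K G → ∀ (S : Sylow 2 G) (P K' B ZJ : Subgroup G) (k : ℕ)
    (L W Z C : Fin k → Subgroup G), 3 ≤ k → MulG S P K' B ZJ L W Z C 2 → NLoc (KZ B ZJ) →
      UniTwo B ZJ L W → BlkS K' B B → IsKnownSimple' G

end sockets

variable {K : Cls.{u}}

theorem known_of {c : ℕ → ℕ → Prop} (hO : OmC K c) (hE : EC K c) (G : Type u) [Group G] [Finite G] (hK : K G)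
    (S : Sylow 2 G) (P : Subgroup G) (h : CaseL S P) (F : Type) [Field F] [Finite F] [CharP F 2] (k : ℕ) (hk : 2 ≤ k)
    (hc : c k (Nat.card F))
    (N : NatKM F (S : Subgroup G) P (zl (S : Subgroup G) P) (cv (S : Subgroup G) P) k) : IsKnownSimple' G := by
  obtain ⟨M, L, Z, A, -, -, hB, -⟩ := Lev.Main.bg_K h.hypN h.levQ le_rfl (exists_BO_caseL h) hk N rfl
  have hM : MulG S P _ _ _ L _ Z _ (Nat.card F) :=
    ⟨h.hypF, StgG.lev _ (top_caseL h), hB, F, inferInstance, inferInstance, inferInstance, rfl, ⟨N⟩⟩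
  rcases hM.cases with h1 | ⟨h1, h2, h3⟩
  · exact hE G hK S P h _ _ k L _ Z _ _ hk hc rfl rfl hM h1
  · exact hO G hK S P h _ _ k L _ Z _ _ hk hc rfl rfl hM h1 h2 h3

/-- **`MultiTwoH K CaseLP`.** -/
theorem multiTwoC_of (hO : OmC K fun _ q => q = 2) (hE : EC K fun k q => k = 2 ∧ q = 2)
    (hE' : EC K fun k q => 3 ≤ k ∧ q = 2) : MultiTwoH K CaseLP := by
  intro G _ _ hK S P h F _ _ _ k hk hq N
  refine known_of (c := fun _ q => q = 2) hO ?_ G hK S P h F k hk hq N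
  intro G _ _ hK S P h B ZJ k L W Z C q hk hq e1 e2 hM hN
  rcases Nat.lt_or_ge k 3 with hk3 | hk3
  · exact hE G hK S P h B ZJ k L W Z C q hk ⟨by omega, hq⟩ e1 e2 hM hN
  · exact hE' G hK S P h B ZJ k L W Z C q hk ⟨hk3, hq⟩ e1 e2 hM hN

/-- **`MultiQH K CaseLP`.** -/
theorem multiQC_of (hO : OmC K fun _ q => 4 ≤ q) (hE : EC K fun k q => k = 2 ∧ 4 ≤ q)
    (hE' : EC K fun k q => 3 ≤ k ∧ 4 ≤ q) : MultiQH K CaseLP := by
  intro G _ _ hK S P h F _ _ _ k hk hq N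
  refine known_of (c := fun _ q => 4 ≤ q) hO ?_ G hK S P h F k hk hq N
  intro G _ _ hK S P h B ZJ k L W Z C q hk hq e1 e2 hM hN
  rcases Nat.lt_or_ge k 3 with hk3 | hk3
  · exact hE G hK S P h B ZJ k L W Z C q hk ⟨by omega, hq⟩ e1 e2 hM hN
  · exact hE' G hK S P h B ZJ k L W Z C q hk ⟨hk3, hq⟩ e1 e2 hM hN

/-- `EOfH` over `CaseLP` gives `EC`. -/
theorem eC_of_H {c : ℕ → ℕ → Prop} (h : EOfH K CaseLP c) : EC K c :=
  fun G _ _ hK S P hL B ZJ k L W Z C q hk hc _ _ hM hN => h G hK S P _ B ZJ k L W Z C q hL hk hc hM hN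

theorem omC_of_H {c : ℕ → ℕ → Prop} (h : OmOfH K CaseLP c) : OmC K c :=
  fun G _ _ hK S P hL B ZJ k L W Z C q hk hc _ _ hM h1 h2 h3 =>
    h G hK S P _ B ZJ k L W Z C q hL hk hc hM h1 h2 h3

/-- **`KZ = ⟨C_G(Z_J), L_1, .., L_k⟩`** over `Bg` and UNI+. -/
theorem KZ_eq {G : Type u} [Group G] [Finite G] {S : Sylow 2 G} {P B ZJ : Subgroup G} {k : ℕ}
    {L W Z C : Fin k → Subgroup G} (h : Bg S P B ZJ L W Z C 2) (hu : UniTwo B ZJ L W) :
    KZ B ZJ = centralizer (ZJ : Set G) ⊔ ⨆ i, L i := by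
  apply le_antisymm
  · refine sup_le le_sup_left (iSup_le ?_)
    rintro ⟨⟨L', V'⟩, hb⟩
    obtain ⟨i, -, hle⟩ := hu L' V' hb
    refine hle.trans (sup_le (le_sup_of_le_right (le_iSup L i)) (le_sup_of_le_left (centralizer_le ?_)))
    exact_mod_cast (le_sup_right : ZJ ≤ W i ⊔ ZJ)
  · refine sup_le LevD.cent_le_K0 (iSup_le fun i => ?_)
    exact LevD.blk_le_K0 (V := W i) (⟨⟨_, _, h.fr.blk i⟩, h.block i⟩ : FBl B (L i) (W i))

/-- case (L), `k = 2`, `q = 2` -/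
theorem eC_two (hU : UniC K) (hE : EEndTwo K) : EC K fun k q => k = 2 ∧ q = 2 := by
  rintro G _ _ hK S P h B ZJ k L W Z C q hk ⟨rfl, rfl⟩ e1 e2 hM hN
  obtain ⟨F, _, _, _, hF, ⟨N⟩⟩ := hM.nat
  obtain ⟨L', W', Z', C', hbg, hu, -, hb⟩ := hU G hK S P h F 2 hF le_rfl N B ZJ e1 e2 hN
  exact hE G hK S P _ B ZJ L' W' Z' C'
    ⟨hM.hyp, hM.stg, hbg, F, inferInstance, inferInstance, inferInstance, hF, ⟨N⟩⟩ hN hu (hb 0 rfl)

/-- case (L), `k ≥ 3`, `q = 2` -/
theorem eC_three (hU : UniC K) (hE : EEndK K) : EC K fun k q => 3 ≤ k ∧ q = 2 := by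
  rintro G _ _ hK S P h B ZJ k L W Z C q hk ⟨hk3, rfl⟩ e1 e2 hM hN
  obtain ⟨F, _, _, _, hF, ⟨N⟩⟩ := hM.nat
  obtain ⟨L', W', Z', C', hbg, hu, hb, -⟩ := hU G hK S P h F k hF (by omega) N B ZJ e1 e2 hN
  exact hE G hK S P _ B ZJ k L' W' Z' C' hk3
    ⟨hM.hyp, hM.stg, hbg, F, inferInstance, inferInstance, inferInstance, hF, ⟨N⟩⟩ hN hu (hb hk3)

/-- the general end gives 574's / 712's end over `Mul` -/
theorem eFrK_of_end (hE : EEndK K) : EK3.OfMul.EFrK K :=
  fun G _ _ hK S P K' B ZJ k L W Z C hk hM hN hu hb => hE G hK S P K' B ZJ k L W Z C hk hM.toG hN hu hb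

end Cfsg.Agent.Omega.Node.MulC

end

section


/-!
# The leaves `MultiTwoH`, `MultiQH` over `CaseLP`: the family of FF-blocks with module in `V_P` (helper85)

In the case (L) UNI+ for **all** FF-blocks over `B` is not available (blocks `L'` with `O₂(P) ≰ O₂(L')`). The dichotomy
works for the smaller family `FBlV B V` : FF-blocks over `B` with module in `V = V_P`, where UNI+ needs nothing.

* `FBlV`, `KV B ZJ V = ⟨C_G(Z_J), blocks of the family⟩`; `famV`, `casesV` : the dichotomy over `MulG`;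
* `CaseV S P B ZJ L W Z C A q` : the case (L) with the frames `MulG` and `FrL` (`X = V_P`); `exists_caseV`;
* `CaseV.uniV` : UNI+ for the family, any `q`; `CaseV.uniTwoV`, `KV_eq` : `KV = ⟨C_G(Z_J), L_1, .., L_k⟩` (`q = 2`);
* `exists_fblkV` : a minimal parabolic `R` over `T`, `B ≤ T ≤ S`, with `O₂(P) ≤ O₂(R)`, `nxt S (O₂(P)) ≰ O₂(R)`, moving
  `Ω₁(Z(T))`, is generated by `T` and a block of the family in `R`;
* sockets `OmV K c`, `EV K c`; `multiTwoV_of`, `multiQV_of`.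
-/

set_option autoImplicit false
set_option linter.unusedSectionVars false

namespace Cfsg.Agent.Omega.Node.MulV

open Subgroup Cfsg Cfsg.Agent.ZN.ChoiceBase Cfsg.Agent.ZN.ChoiceSit
open Cfsg.Agent.ZN (jj zj bau zc zl o2)
open Cfsg.Agent.MinSimple.MinParabolic (IsMinPar)
open Cfsg.Agent.Omega.FFThm (NatK NatKM SymKM OffM)
open Cfsg.Agent.Omega.FrameFF (cv)
open Cfsg.Agent.Omega.NO3S (HypL HypF HypN HypJ Hyp PSS FrP CaseLP MultiTwoH MultiQH)
open Cfsg.Agent.Omega.NO3S.Level (lev nxt Lev BO CaseL)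
open Cfsg.Agent.Omega.Frame (Cls)
open Cfsg.Agent.Omega.NO3S.EThree.Frame (Bg Fg)
open Cfsg.Agent.Omega.OM
open Cfsg.Agent.Omega.OM.Uni (FB)
open Cfsg.Agent.Omega.OM.LevD (LB)
open Cfsg.Agent.Omega.OM.GLev
open Cfsg.Agent.Omega.OM.Lev.Uni (FrL)
open Cfsg.Agent.Omega.Node.MultiOf Cfsg.Agent.Omega.Node.MulG

universe u

section defs

variable {G : Type u} [Group G]

/-- FF-blocks over `B` with module in `V`. -/
def FBlV (B V L' V' : Subgroup G) : Prop := FBl B L' V' ∧ V' ≤ V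

/-- `⟨C_G(Z_J), the FF-blocks over B with module in V⟩` -/
def KV (B ZJ V : Subgroup G) : Subgroup G := LevD.K0 ZJ (FBlV B V)

/-- UNI+ for the family, `q = 2`. -/
def UniTwoV (B ZJ V : Subgroup G) {k : ℕ} (L W : Fin k → Subgroup G) : Prop :=
  ∀ L' V' : Subgroup G, FBlV B V L' V' →
    ∃ i, V' = W i ∧ L' ≤ L i ⊔ centralizer ((W i ⊔ ZJ : Subgroup G) : Set G)

theorem cent_le {B ZJ V : Subgroup G} : centralizer (ZJ : Set G) ≤ KV B ZJ V := LevD.cent_le_K0

/-- the restricted family generates less -/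
theorem KV_le {B ZJ V : Subgroup G} : KV B ZJ V ≤ KZ B ZJ := by
  refine sup_le LevD.cent_le_K0 (iSup_le ?_)
  rintro ⟨⟨L', V'⟩, hb⟩
  exact LevD.blk_le_K0 (V := V') hb.1

variable [Finite G]

section mul

variable {S : Sylow 2 G} {P K B ZJ : Subgroup G} {k : ℕ} {L W Z C : Fin k → Subgroup G} {q : ℕ}
  (h : MulG S P K B ZJ L W Z C q)
include h

theorem fblV (i : Fin k) : FBlV B (zl (S : Subgroup G) P) (L i) (W i) := ⟨h.fbl i, h.bg.fr.WV i⟩

/-- the restricted family -/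
theorem famV : LevD.Fam B ZJ (FBlV B (zl (S : Subgroup G) P)) where
  blk := fun _ _ hb => hb.1.blk
  conj := fun n hn _ _ hb => ⟨hb.1.conj hn, (cj_mono n hb.2).trans (h.bg.nrm n hn).1.le⟩
  zj_le := by
    refine (h.bg.fr.ZJV.trans (Fg_V_le h.bg.fr)).trans (iSup_le fun i => ?_)
    exact le_iSup (fun i : {x : Subgroup G × Subgroup G // FBlV B (zl (S : Subgroup G) P) x.1 x.2} => i.1.2)
      ⟨(L i, W i), fblV h i⟩

theorem L_le (i : Fin k) : L i ≤ KV B ZJ (zl (S : Subgroup G) P) := LevD.blk_le_K0 (fblV h i)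

/-- **the dichotomy** for the restricted family -/
theorem casesV : NLoc (KV B ZJ (zl (S : Subgroup G) P)) ∨ (o2 (KV B ZJ (zl (S : Subgroup G) P)) ≠ ⊥ ∧
    o2 (KV B ZJ (zl (S : Subgroup G) P)) ≤ B ∧ KV B ZJ (zl (S : Subgroup G) P) ⊔ normalizer (B : Set G) ≤
      normalizer (o2 (KV B ZJ (zl (S : Subgroup G) P)) : Set G)) := by
  by_cases h0 : NLoc (KV B ZJ (zl (S : Subgroup G) P))
  · exact Or.inl h0
  · right
    unfold NLoc at h0
    push Not at h0
    obtain ⟨R, hR, hRn, hR1⟩ := h0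
    exact LevD.Fam.dich h.lb (famV h) hR hR1 hRn

/-- **`KV = ⟨C_G(Z_J), L_1, .., L_k⟩`** -/
theorem KV_eq (hu : UniTwoV B ZJ (zl (S : Subgroup G) P) L W) :
    KV B ZJ (zl (S : Subgroup G) P) = centralizer (ZJ : Set G) ⊔ ⨆ i, L i := by
  apply le_antisymm
  · refine sup_le le_sup_left (iSup_le ?_)
    rintro ⟨⟨L', V'⟩, hb⟩
    obtain ⟨i, -, hle⟩ := hu L' V' hb
    refine hle.trans (sup_le (le_sup_of_le_right (le_iSup L i)) (le_sup_of_le_left (centralizer_le ?_)))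
    exact_mod_cast (le_sup_right : ZJ ≤ W i ⊔ ZJ)
  · exact sup_le cent_le (iSup_le fun i => L_le h i)

end mul

/-! ### The module of a block -/

/-- The module of an FF-block over `B` lies in every `L'`-invariant group over `Ω₁(Z(B))`. -/
theorem fb_V_le {B L' V' Z' X : Subgroup G} {q : ℕ} (h : FB B L' V' Z' q) (hX : zc B ≤ X)
    (hn : L' ≤ normalizer (X : Set G)) : V' ≤ X := by
  have h1 : ⁅V', B⁆ ≤ X := by
    rw [commutator_le]
    intro v hv b hb
    have h2 : b * v * b⁻¹ * v⁻¹ ∈ Z' := h.com b hb v hv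
    have h3 : b * v * b⁻¹ * v⁻¹ ∈ zc B := mem_zc.2 ⟨h.VB (h.ZV h2), SQ1.Bau.elem_sq h.el _ (h.ZV h2),
      fun y hy => h.cZ y hy _ h2⟩
    have h4 := inv_mem (hX h3)
    have e : (b * v * b⁻¹ * v⁻¹)⁻¹ = v * b * v⁻¹ * b⁻¹ := by group
    rw [e] at h4
    exact h4
  obtain ⟨l, hl, hle⟩ := h.sup
  refine hle.trans (sup_le h1 ?_)
  have h5 := cj_mono l h1
  rwa [cj_eq_of_mem_normalizer (hn hl)] at h5

end defs

/-! ### The frame -/

/-- **The case (L), several natural blocks**: the frames `MulG` and `FrL`. -/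
structure CaseV {G : Type u} [Group G] [Finite G] (S : Sylow 2 G) (P B ZJ : Subgroup G) {k : ℕ}
    (L W Z C A : Fin k → Subgroup G) (q : ℕ) : Prop where
  cl : CaseL S P
  eqZ : ZJ = zc (nxt (S : Subgroup G) (o2 P))
  eqB : B = (S : Subgroup G) ⊓ centralizer (ZJ : Set G)
  mul : MulG S P (nxt (S : Subgroup G) (o2 P)) B ZJ L W Z C q
  fr : FrL B (o2 P) (zl (S : Subgroup G) P) (zl (S : Subgroup G) P) ZJ L W Z C A q

theorem exists_caseV {G : Type u} [Group G] [Finite G] {S : Sylow 2 G} {P : Subgroup G} (h : CaseL S P) {F : Type}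
    [Field F] [Finite F] [CharP F 2] {k : ℕ} (hk : 2 ≤ k)
    (N : NatKM F (S : Subgroup G) P (zl (S : Subgroup G) P) (cv (S : Subgroup G) P) k) :
    ∃ (B ZJ : Subgroup G) (L W Z C A : Fin k → Subgroup G), CaseV S P B ZJ L W Z C A (Nat.card F) := by
  obtain ⟨M, L, Z, A, -, hfr, hB, -⟩ := Lev.Main.bg_K h.hypN h.levQ le_rfl (exists_BO_caseL h) hk N rfl
  rw [h.zc_eq] at hfr
  exact ⟨_, _, L, _, Z, _, A, h, rfl, rfl,
    ⟨h.hypF, StgG.lev _ (top_caseL h), hB, F, inferInstance, inferInstance, inferInstance, rfl, ⟨N⟩⟩, hfr⟩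

namespace CaseV

variable {G : Type u} [Group G] [Finite G] {S : Sylow 2 G} {P B ZJ : Subgroup G} {k : ℕ}
  {L W Z C A : Fin k → Subgroup G} {q : ℕ} (h : CaseV S P B ZJ L W Z C A q)
include h

theorem lb : LB S (nxt (S : Subgroup G) (o2 P)) B ZJ := h.mul.lb

theorem Q_le_S : o2 P ≤ (S : Subgroup G) := h.cl.pss.par.isLoc.o2_le S

theorem Q_le_nxt : o2 P ≤ nxt (S : Subgroup G) (o2 P) := NO3S.Level.le_nxt h.Q_le_S

/-- **UNI+ for the family**, any `q`. -/
theorem uniV {L' V' : Subgroup G} (h' : FBlV B (zl (S : Subgroup G) P) L' V') :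
    ∃ Z', FB B L' V' Z' q ∧ ∃ i, Z' = Z i ∧ UniPlus.NB B L' V' (Z i) q ∧ V' ≤ W i ⊔ ZJ ∧
      (∀ z ∈ ZJ, z ∈ C i ↔ ∀ l ∈ L', l * z = z * l) ∧
        (q = 2 → V' = W i ∧ L' ≤ L i ⊔ centralizer ((W i ⊔ ZJ : Subgroup G) : Set G)) := by
  obtain ⟨⟨⟨Z', q', hF⟩, -⟩, hX⟩ := h'
  obtain ⟨rfl, i, hZ, h1⟩ := Lev.UniPlus.uniPlusX h.fr h.lb.Bp h.mul.bg.wc
    (fun g hg j => by
      obtain ⟨k, hk, -⟩ := (h.mul.bg.nrm g hg).2 j
      exact ⟨k, hk⟩) hF hX
  exact ⟨Z', hF, i, hZ, h1⟩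

/-- `Ω₁(Z(B)) ≤ V_P` -/
theorem zc_B_le : zc B ≤ zl (S : Subgroup G) P := by
  intro z hz
  obtain ⟨h1, h2, h3⟩ := mem_zc.1 hz
  rw [← h.cl.zc_eq]
  exact h.cl.levQ.mem_of_comm (h.lb.BS h1) h2 fun y hy => h3 y (h.lb.KB (h.Q_le_nxt hy))

theorem zc_B : zc B = ZJ := by
  ext z
  constructor
  · intro hz
    obtain ⟨h1, h2, h3⟩ := mem_zc.1 hz
    rw [h.eqZ]
    exact h.cl.levQ.next.mem_of_comm (h.lb.BS h1) h2 fun y hy => h3 y (h.lb.KB hy)
  · intro hz
    exact mem_zc.2 ⟨h.lb.ZB hz, h.lb.sq z hz, fun y hy => (mem_centralizer_iff.1 (h.lb.Bc hy) z hz).symm⟩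

/-- **A minimal parabolic over `T ≤ S` which normalises `O₂(P)` is generated by `T` and a block of the family.** -/
theorem exists_fblkV {T R : Subgroup G} (hT : Syl T R) (hTS : T ≤ (S : Subgroup G)) (hB : B ≤ T) (hP : IsMinPar T R)
    (hc : R ⊓ centralizer (o2 R : Set G) ≤ o2 R) (hK : o2 P ≤ o2 R) (hn : ¬ nxt (S : Subgroup G) (o2 P) ≤ o2 R)
    (hZ : ¬ R ≤ centralizer (zc T : Set G)) :
    ∃ L' V' : Subgroup G, FBlV B (zl (S : Subgroup G) P) L' V' ∧ L' ≤ R ∧ R ≤ L' ⊔ T := by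
  have hb := h.lb
  have hle := hb.KB.trans hB
  have hT2 := hT.2.1
  have hQT : o2 P ≤ T := h.Q_le_nxt.trans hle
  have hjj : jj T = jj (S : Subgroup G) := jj_eq_of_jj_le (h.cl.levQ.jjle.trans hQT) hTS
  have hL : Lev T (o2 P) :=
    { le := hQT
      jjle := by rw [hjj]; exact h.cl.levQ.jjle
      norm := fun T' h1 h2 => h.cl.levQ.norm T' h1 (h2.trans hTS) }
  have hBO : BO T (o2 P) = BO (S : Subgroup G) (o2 P) := by
    ext A
    constructor
    · exact fun hA => ⟨hA.1.trans hTS, hA.2⟩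
    · exact fun hA => ⟨(NO3S.Level.BO.le_nxt hA).trans hle, hA.2⟩
  have hC : T ⊓ centralizer (zc (o2 P) : Set G) = (S : Subgroup G) ⊓ centralizer (zc (o2 P) : Set G) := by
    refine le_antisymm (inf_le_inf_right _ hTS) (le_inf ?_ inf_le_right)
    exact (le_sup_left : _ ≤ nxt (S : Subgroup G) (o2 P)).trans hle
  have hnx : nxt T (o2 P) = nxt (S : Subgroup G) (o2 P) := by
    unfold nxt
    rw [hBO, hC]
  have hV : zl T R ≤ zc (o2 P) :=
    (MinSimple.VModule.zl_le_zc hT.1 hT2 (syl_not_dvd hT) hc).trans (hL.zc_o2_le hK (o2_le_syl hT))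
  have hQC := BlkGen.inf_cent hT hP hZ
  obtain ⟨A, hA, hAQ⟩ : ∃ A ∈ BO T (o2 P), ¬ A ≤ o2 R := by
    by_contra hcon
    push Not at hcon
    apply hn
    rw [← hnx]
    exact sup_le ((inf_le_inf_left _ (centralizer_le hV)).trans hQC) (sSup_le hcon)
  have hoff : OffM (zl T R) A := hA.2.offM hV fun h1 => hAQ ((le_inf hA.1 h1).trans hQC)
  obtain ⟨hno, hcon⟩ := FF.Glob.ffthmM G T R hT hP hc ⟨A, hA.1.trans hT.1, hoff⟩
  have hge := GE.of_lev hT hP hc hZ hL hK hno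
  have hbz : BZ T (zc (o2 P)) (BO T (o2 P)) B ZJ :=
    { mem_ZJ := fun z => by
        rw [h.eqZ, ← hnx]
        exact zc_nxt hL
      eqB := (hb.inf_eq hT2 hB).symm
      zcB := h.zc_B
      wn := fun R hR hBR => hb.two_le hR hBR
      sylB := fun R hR hBR hRc => hb.syl.2.2 R hRc hR hBR }
  have hw := hb.weakNormal
  have hRn : R ≤ normalizer (zl (S : Subgroup G) P : Set G) := by
    rw [← h.cl.zc_eq]
    exact (hL.le_norm_of_o2 hK (o2_le_syl hT)).trans (NO3S.Level.normalizer_le_zc _)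
  have key : ∀ {L' V' Z' : Subgroup G} {q' : ℕ}, FB B L' V' Z' q' → L' ≤ R → V' ≤ zl (S : Subgroup G) P :=
    fun hF hLR => fb_V_le hF h.zc_B_le (hLR.trans hRn)
  rcases hcon with ⟨F, _, _, _, k, hk, ⟨N⟩⟩ | ⟨k, m, hk, hm, hN⟩
  · obtain ⟨L, N', N₁, D', -, hLH, hpb, hsup⟩ := GNat.exists_pb hge hbz N hk ⟨A, hA, hAQ⟩
    exact ⟨L, _, ⟨⟨⟨_, _, hpb.fb⟩, hpb.block hw⟩, key hpb.fb hLH⟩, hLH, hsup.trans (sup_comm _ _).le⟩
  · obtain ⟨L, N', N₁, D', q, -, hLH, hpb, hsup⟩ := LevB.symBlk G T R _ _ _ _ k m hge hbz hk hm hN ⟨A, hA, hAQ⟩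
    exact ⟨L, _, ⟨⟨⟨_, _, hpb.fb⟩, hpb.block hw⟩, key hpb.fb hLH⟩, hLH, hsup.trans (sup_comm _ _).le⟩

end CaseV

/-- **UNI+ for the family**, `q = 2`. -/
theorem CaseV.uniTwoV {G : Type u} [Group G] [Finite G] {S : Sylow 2 G} {P B ZJ : Subgroup G} {k : ℕ}
    {L W Z C A : Fin k → Subgroup G} (h : CaseV S P B ZJ L W Z C A 2) :
    UniTwoV B ZJ (zl (S : Subgroup G) P) L W := by
  intro L' V' h'
  obtain ⟨-, -, i, -, -, -, -, h1⟩ := h.uniV h'
  exact ⟨i, h1 rfl⟩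

/-! ### Sockets -/

section sockets

variable (K : Cls.{u}) (c : ℕ → ℕ → Prop)

/-- **(Om)**, case (L), for the restricted family. -/
def OmV : Prop :=
  ∀ (G : Type u) [Group G] [Finite G], K G → ∀ (S : Sylow 2 G) (P B ZJ : Subgroup G) (k : ℕ)
    (L W Z C A : Fin k → Subgroup G) (q : ℕ), 2 ≤ k → c k q → CaseV S P B ZJ L W Z C A q →
      o2 (KV B ZJ (zl (S : Subgroup G) P)) ≠ ⊥ → o2 (KV B ZJ (zl (S : Subgroup G) P)) ≤ B →
      KV B ZJ (zl (S : Subgroup G) P) ⊔ normalizer (B : Set G) ≤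
        normalizer (o2 (KV B ZJ (zl (S : Subgroup G) P)) : Set G) → IsKnownSimple' G

/-- **(E)**, case (L), for the restricted family. -/
def EV : Prop :=
  ∀ (G : Type u) [Group G] [Finite G], K G → ∀ (S : Sylow 2 G) (P B ZJ : Subgroup G) (k : ℕ)
    (L W Z C A : Fin k → Subgroup G) (q : ℕ), 2 ≤ k → c k q → CaseV S P B ZJ L W Z C A q →
      NLoc (KV B ZJ (zl (S : Subgroup G) P)) → IsKnownSimple' G

end sockets

variable {K : Cls.{u}}

theorem known_ofV {c : ℕ → ℕ → Prop} (hO : OmV K c) (hE : EV K c) (G : Type u) [Group G] [Finite G] (hK : K G)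
    (S : Sylow 2 G) (P : Subgroup G) (h : CaseL S P) (F : Type) [Field F] [Finite F] [CharP F 2] (k : ℕ) (hk : 2 ≤ k)
    (hc : c k (Nat.card F))
    (N : NatKM F (S : Subgroup G) P (zl (S : Subgroup G) P) (cv (S : Subgroup G) P) k) : IsKnownSimple' G := by
  obtain ⟨B, ZJ, L, W, Z, C, A, hV⟩ := exists_caseV h hk N
  rcases casesV hV.mul with h1 | ⟨h1, h2, h3⟩
  · exact hE G hK S P B ZJ k L W Z C A _ hk hc hV h1
  · exact hO G hK S P B ZJ k L W Z C A _ hk hc hV h1 h2 h3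

/-- **`MultiTwoH K CaseLP`.** -/
theorem multiTwoV_of (hO : OmV K fun _ q => q = 2) (hE : EV K fun k q => k = 2 ∧ q = 2)
    (hE' : EV K fun k q => 3 ≤ k ∧ q = 2) : MultiTwoH K CaseLP := by
  intro G _ _ hK S P h F _ _ _ k hk hq N
  refine known_ofV (c := fun _ q => q = 2) hO ?_ G hK S P h F k hk hq N
  intro G _ _ hK S P B ZJ k L W Z C A q hk hq hV hN
  rcases Nat.lt_or_ge k 3 with hk3 | hk3
  · exact hE G hK S P B ZJ k L W Z C A q hk ⟨by omega, hq⟩ hV hN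
  · exact hE' G hK S P B ZJ k L W Z C A q hk ⟨hk3, hq⟩ hV hN

/-- **`MultiQH K CaseLP`.** -/
theorem multiQV_of (hO : OmV K fun _ q => 4 ≤ q) (hE : EV K fun k q => k = 2 ∧ 4 ≤ q)
    (hE' : EV K fun k q => 3 ≤ k ∧ 4 ≤ q) : MultiQH K CaseLP := by
  intro G _ _ hK S P h F _ _ _ k hk hq N
  refine known_ofV (c := fun _ q => 4 ≤ q) hO ?_ G hK S P h F k hk hq N
  intro G _ _ hK S P B ZJ k L W Z C A q hk hq hV hN
  rcases Nat.lt_or_ge k 3 with hk3 | hk3
  · exact hE G hK S P B ZJ k L W Z C A q hk ⟨by omega, hq⟩ hV hN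
  · exact hE' G hK S P B ZJ k L W Z C A q hk ⟨hk3, hq⟩ hV hN

end Cfsg.Agent.Omega.Node.MulV

end

section


/-!
# hU (bb OMEGA #22723 (A), #22160) over `MulG`: every `q`, every `k ≥ 2`, every stage (port of helper431's `HUMul`)

`MulG S P K B ZJ L W Z C q`, `T ≥ B` a Sylow 2-subgroup of the minimal parabolic `R`, `R` centralises the `Z l`, `l ≠ j`,
and does not normalise `Z j`.

* `fixS` : **FIX / FIX-X**: stage `-1`: `n ∈ O₂(P)` an involution, stage `n`: `n ∈ Ω₁(Z(lev n))`; `[n, O₂(P)] ≤ Z i` ⟹ `n ∈ V`;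
* `norm_W`, `norm_T0` : `R` normalises `W j` and `T ∩ C(W j)`;
* `hU` : `R` normalises `V` and all `W i` and centralises `W i / Z i` for `i ≠ j` (at stage `-1` with `k = 2` if `(W i)^R` and
  `W i` commute); `main` : the same from UNI+ and block generation.
-/

set_option autoImplicit false
set_option linter.unusedSectionVars false

namespace Cfsg.Agent.Omega.OM.HUMulG

open Subgroup Cfsg Cfsg.Agent.ZN.ChoiceBase
open Cfsg.Agent.ZN (jj zj bau zc zl o2)
open Cfsg.Agent.ZN.ChoiceSit (Syl exists_syl syl_conj syl_not_dvd isPGroup_o2 le_o2 le_normalizer_o2 o2_le_syl o2_le)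
open Cfsg.Agent.MinSimple.MinParabolic (IsMinPar)
open Cfsg.Agent.Omega.SQ1.Bau (mem_sup_comm elem_sq)
open Cfsg.Agent.Omega.OM Cfsg.Agent.Omega.OM.Uni
open Cfsg.Agent.Omega.NO3S (HypJ HypN Hyp HypL)
open Cfsg.Agent.Omega.NO3S.Level (nxt BO Lev)
open Cfsg.Agent.Omega.NO3S.EThree.Frame
open Cfsg.Agent.Omega.Node.MultiOf
open Cfsg.Agent.Omega.Node.MulG
open Cfsg.Agent.Omega.MinPar (IsParS)
open Cfsg.Agent.Omega.TC.OfMul (BlkS)
open Cfsg.Agent.Omega.OM.Lev.Uni (FrL)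
open scoped commutatorElement

universe u

variable {G : Type u} [Group G] [Finite G] {S : Sylow 2 G} {P K B ZJ : Subgroup G} {k : ℕ}
  {L W Z C : Fin k → Subgroup G} {q : ℕ}

/-- `[W i, B] = Z i` -/
theorem comm_W {ι : Type} {L W Z C : ι → Subgroup G} (h : Bg S P B ZJ L W Z C q) (i : ι) : ⁅W i, B⁆ = Z i := by
  apply le_antisymm
  · exact (h.fr.blk i).comm_le le_rfl
  · intro z hz
    obtain ⟨w, hw, hwZ⟩ := HU.exists_W h i
    obtain ⟨b, hb, -, e⟩ := h.root i w hw hwZ z hz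
    have h1 := inv_mem (commutator_mem_commutator (H₁ := W i) (H₂ := B) hw hb)
    rw [← e]
    have e2 : (⁅w, b⁆)⁻¹ = b * w * b⁻¹ * w⁻¹ := by rw [commutatorElement_def]; group
    rwa [e2] at h1

theorem exists_BO_top (hG : IsCharacteristicTwoType G) (hP : IsParS (S : Subgroup G) P) {K₀ : Subgroup G}
    (t : Top S P K₀) : ∃ A ∈ BO (S : Subgroup G) K₀, ¬ A ≤ o2 P := by
  by_contra hcon
  push Not at hcon
  apply t.nxt
  refine sup_le ?_ (sSup_le hcon)
  rw [← IsParS.inf_centralizer S hG hP]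
  exact inf_le_inf_left _ (centralizer_le
    ((hP.isLoc.zl_le S hG).trans (t.lev.zc_o2_le t.le (hP.isLoc.o2_le S))))

/-- **FIX-X at a top level.** -/
theorem fix_lev (h : MulG S P K B ZJ L W Z C q) (hk : 2 ≤ k) {K₀ : Subgroup G} (t : Top S P K₀)
    (eqB : B = (S : Subgroup G) ⊓ centralizer (zc (nxt (S : Subgroup G) K₀) : Set G)) (i : Fin k) {x : G}
    (hx : x ∈ zc K₀) (hxQ : ∀ o ∈ o2 P, o * x * o⁻¹ * x⁻¹ ∈ Z i) : x ∈ zl (S : Subgroup G) P := by
  obtain ⟨F, _, _, _, rfl, ⟨N⟩⟩ := h.nat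
  obtain ⟨M, L', Z', A, -, hF, -⟩ :=
    Lev.Main.bg_K h.bg.hyp t.lev t.le (exists_BO_top h.bg.hyp.ctx.char2 h.bg.hyp.toHyp.star t) hk N eqB
  have hWX : W i ≤ zc K₀ := (h.bg.fr.WV i).trans hF.VX
  obtain ⟨-, i', hi', -⟩ := hF.uni (h.bg.fr.blk i).toMd hWX
  rw [comm_W h.bg i] at hi'
  refine FixXQ.fixX hF ?_ i' hx fun o ho => ?_
  · exact (MinSimple.VModule.zc_le _).trans (t.le.trans h.bg.fr.QB)
  · rw [← hi']
    exact hxQ o ho

/-- **LEMMA FIX at stage `-1`.** -/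
theorem fix_neg (h : MulG S P K B ZJ L W Z C q) (hk : 2 ≤ k) (hj : ¬ jj (S : Subgroup G) ≤ o2 P)
    (eqB : B = bau (S : Subgroup G)) (i : Fin k) {x : G}
    (hx : x ∈ o2 P) (hx2 : x ^ 2 = 1) (hxQ : ∀ o ∈ o2 P, o * x * o⁻¹ * x⁻¹ ∈ Z i) :
    x ∈ zl (S : Subgroup G) P := by
  subst eqB
  obtain ⟨F, _, _, _, rfl, ⟨N⟩⟩ := h.nat
  obtain ⟨L', W', Z', C', A, -, -, -, -, hL⟩ := OM.Line.exists_nat ⟨h.bg.hyp, hj⟩ hk N.toNatK
  obtain ⟨-, i', hi', -⟩ := hL.fr.uni (h.bg.fr.blk i).toMd fun _ hw _ hv => h.bg.fr.Vc (h.bg.fr.WV i hw) hv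
  rw [comm_W h.bg i] at hi'
  refine FixLem.fix_Z hL.fr (i := i') hx hx2 fun o ho => ?_
  rw [← hi']
  have h1 := inv_mem (hxQ o ho)
  have e : (o * x * o⁻¹ * x⁻¹)⁻¹ = x * o * x⁻¹ * o⁻¹ := by group
  rwa [e] at h1

/-- **FIX at every stage.** `x ∈ O₂(P)` an involution, at a top level `K₀` also `x ∈ Ω₁(Z(K₀))`. -/
theorem fixS (h : MulG S P K B ZJ L W Z C q) (hk : 2 ≤ k) (i : Fin k) {x : G} (hx : x ∈ o2 P) (hx2 : x ^ 2 = 1)
    (hxX : ∀ K₀, Top S P K₀ → K = nxt (S : Subgroup G) K₀ → x ∈ zc K₀)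
    (hxQ : ∀ o ∈ o2 P, o * x * o⁻¹ * x⁻¹ ∈ Z i) : x ∈ zl (S : Subgroup G) P := by
  cases h.stg with
  | neg hj => exact fix_neg h hk hj rfl i hx hx2 hxQ
  | lev K₀ t => exact fix_lev h hk t rfl i (hxX K₀ t rfl) hxQ

/-- `Q ≤ T ∩ C(W j)` -/
theorem Q_le (h : MulG S P K B ZJ L W Z C q) {T : Subgroup G} (hBT : B ≤ T) (j : Fin k) :
    o2 P ≤ T ⊓ centralizer (W j : Set G) :=
  le_inf (h.bg.fr.QB.trans hBT) fun _ ho => mem_centralizer_iff.2 fun w hw => (h.bg.fr.cQ ho (h.bg.fr.WV j hw)).symm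

/-- an element of `N_G(Z_J)` which centralises the `Z l`, `l ≠ j`, normalises `Z j` -/
theorem norm_Zj (h : MulG S P K B ZJ L W Z C q) {j : Fin k} {g : G} (hg : g ∈ normalizer (ZJ : Set G))
    (hc : ∀ l, l ≠ j → g ∈ centralizer (Z l : Set G)) : g ∈ normalizer (Z j : Set G) := by
  obtain ⟨d, hd, n, hn, rfl⟩ := h.lb.exists_frattini hg
  have hdZ : ∀ l, d ∈ centralizer (Z l : Set G) := fun l => centralizer_le (by exact_mod_cast h.bg.fr.Z_le l) hd
  have hnZ : ∀ l, l ≠ j → cj n (Z l) = Z l := fun l hl => by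
    have h1 : n ∈ centralizer (Z l : Set G) := by
      have := mul_mem (inv_mem (hdZ l)) (hc l hl)
      rwa [inv_mul_cancel_left] at this
    exact mem_normalizer_iff_cj.1 (centralizer_le_normalizer _ h1)
  refine mul_mem (centralizer_le_normalizer _ (hdZ j)) (mem_normalizer_iff_cj.2 ?_)
  obtain ⟨m, hm, -⟩ := (h.bg.norm hn).2 j
  by_cases hmj : m = j
  · rwa [hmj] at hm
  · exfalso
    have h3 := hnZ m hmj
    rw [← hm] at h3
    have h4 := congrArg (cj n⁻¹) h3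
    rw [cj_inv_cj, cj_inv_cj] at h4
    exact hmj (h.bg.Z_inj (hm.symm.trans h4))

/-- `V ≤ Ω₁(Z(K₀))` -/
theorem V_le_X (h : MulG S P K B ZJ L W Z C q) {K₀ : Subgroup G} (t : Top S P K₀) :
    zl (S : Subgroup G) P ≤ zc K₀ :=
  (h.bg.hyp.star.isLoc.zl_le S h.bg.hyp.ctx.char2).trans
    (t.lev.zc_o2_le t.le (h.bg.hyp.star.isLoc.o2_le S))

/-- `r` normalises a top level `K₀ ≤ T₀`, if it normalises `T₀ ≤ T`, `T ≥ B` a 2-group -/
theorem norm_K₀ (h : MulG S P K B ZJ L W Z C q) {K₀ : Subgroup G} (t : Top S P K₀) {T₀ : Subgroup G}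
    (hT2 : IsPGroup 2 T₀) (hle : K₀ ≤ T₀) {r : G} (hr : r ∈ normalizer (T₀ : Set G)) :
    r ∈ normalizer (K₀ : Set G) :=
  mem_normalizer_iff_cj.2 (LevD.norm_of_wc t.wc hT2 hle hr)

/-- The situation: `R` is a minimal parabolic over `T ≥ B`, centralises the `Z l`, `l ≠ j`, does not normalise `Z j`. -/
structure Si (B : Subgroup G) (Z : Fin k → Subgroup G) (j : Fin k) (T R : Subgroup G) : Prop where
  par : IsMinPar T R
  syl : Syl T R
  BT : B ≤ T
  cZ : ∀ l, l ≠ j → R ≤ centralizer (Z l : Set G)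
  nZ : ¬ R ≤ normalizer (Z j : Set G)

section si

variable {j : Fin k} {T R : Subgroup G}

theorem T_norm (h : MulG S P K B ZJ L W Z C q) (s : Si B Z j T R) {t : G} (ht : t ∈ T) (l : Fin k) :
    cj t (Z l) = Z l ∧ cj t (W l) = W l :=
  HU.T_norm h.bg s.syl.2.1 s.BT (fun l hl => s.syl.1.trans (s.cZ l hl)) ht l

theorem K_not (h : MulG S P K B ZJ L W Z C q) (s : Si B Z j T R) : ¬ K ≤ o2 R := by
  intro hK
  apply s.nZ
  intro r hr
  exact norm_Zj h (h.lb.nrm _ (isPGroup_o2 R) hK (le_normalizer_o2 R hr)) fun l hl => s.cZ l hl hr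

theorem char2 (h : MulG S P K B ZJ L W Z C q) (s : Si B Z j T R) : R ⊓ centralizer (o2 R : Set G) ≤ o2 R := by
  obtain ⟨l, hl⟩ := h.bg.two j
  have hRn : R ≤ normalizer (Z l : Set G) := (s.cZ l hl).trans (centralizer_le_normalizer _)
  have h1 : o2 (normalizer (Z l : Set G)) ≤ o2 R :=
    le_o2 (isPGroup_o2 _) (((h.bg.o2_le l).trans s.BT).trans s.syl.1) (hRn.trans (le_normalizer_o2 _))
  rintro x ⟨hx, hxc⟩
  exact h1 (h.bg.char_Z l ⟨hRn hx, centralizer_le (by exact_mod_cast h1) hxc⟩)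

theorem norm_W (h : MulG S P K B ZJ L W Z C q) (s : Si B Z j T R)
    (hb : ∃ L' : Subgroup G, FBl B L' (W j) ∧ L' ≤ R ∧ R ≤ L' ⊔ T) : R ≤ normalizer (W j : Set G) := by
  obtain ⟨L', ⟨⟨Z', q', hF⟩, -⟩, -, h2⟩ := hb
  refine h2.trans (sup_le (fun l hl => ?_) fun t ht => ?_)
  · refine mem_normalizer_of_cj_le ?_
    rintro _ ⟨w, hw, rfl⟩
    exact hF.nV l hl w hw
  · exact mem_normalizer_iff_cj.2 (T_norm h s ht j).2

/-- `R` normalises `T ∩ C(W j)` -/
theorem norm_T0 (h : MulG S P K B ZJ L W Z C q) (s : Si B Z j T R) (hW : R ≤ normalizer (W j : Set G)) :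
    R ≤ normalizer ((T ⊓ centralizer (W j : Set G) : Subgroup G) : Set G) := by
  refine HU.norm_inf s.par s.syl (fun r hr => ?_) fun hle => s.nZ (hle.trans (sup_le ?_ fun t ht => ?_))
  · rw [mem_normalizer_iff_cj, cj_centralizer, cj_eq_of_mem_normalizer (hW hr)]
  · exact inf_le_right.trans
      ((centralizer_le (by exact_mod_cast (h.bg.fr.blk j).ZV)).trans (centralizer_le_normalizer _))
  · exact mem_normalizer_iff_cj.2 (T_norm h s ht j).1

/-- **hU**, given that `(W i)^R` and `W i` commute. -/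
theorem hU_of (h : MulG S P K B ZJ L W Z C q) (hk : 2 ≤ k) (s : Si B Z j T R) (hW : R ≤ normalizer (W j : Set G))
    {i : Fin k} (hij : i ≠ j)
    (hV : ∀ r ∈ R, ∀ w ∈ W i, ∀ v ∈ zl (S : Subgroup G) P, r * w * r⁻¹ * v = v * (r * w * r⁻¹)) :
    ∀ r ∈ R, ∀ w ∈ W i, r * w * r⁻¹ * w⁻¹ ∈ Z i := by
  have hT0 := norm_T0 h s hW
  refine HU.core h.bg s.syl.2.1 s.BT s.syl.1 (HU.gen_cj s.par s.syl) s.cZ hT0 hij fun r hr w hw => ?_
  have hQ0 := Q_le h s.BT j
  have hwQ : w ∈ o2 P := h.bg.fr.VQ (h.bg.fr.WV i hw)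
  have hx0 : r * w * r⁻¹ ∈ T ⊓ centralizer (W j : Set G) := (mem_normalizer_iff.1 (hT0 hr) w).1 (hQ0 hwQ)
  have hxB : r * w * r⁻¹ ∈ B := by
    rw [← h.lb.inf_eq s.syl.2.1 s.BT]
    exact ⟨hx0.1, mem_centralizer_iff.2 fun z hz => (hV r hr w hw z (h.bg.fr.ZJV hz)).symm⟩
  have hxQ : r * w * r⁻¹ ∈ o2 P := (h.bg.fr.mem_Q _ hxB).2 (hV r hr w hw)
  refine fixS h hk i hxQ ?_ (fun K₀ t hKn => ?_) fun o ho => ?_
  · have h1 := elem_sq h.bg.fr.el w (h.bg.fr.WV i hw)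
    have e : (r * w * r⁻¹) ^ 2 = r * w ^ 2 * r⁻¹ := by rw [pow_two, pow_two]; group
    rw [e, h1]; group
  · -- `R` normalises `K₀`
    have hr' : r ∈ normalizer (K₀ : Set G) :=
      norm_K₀ h t (s.syl.2.1.to_le inf_le_left) (t.le.trans hQ0) (hT0 hr)
    have hVX := V_le_X h t
    exact (mem_normalizer_iff.1 (NO3S.Level.normalizer_le_zc _ hr') w).1 (hVX (h.bg.fr.WV i hw))
  · have ho' : r⁻¹ * o * r ∈ T ⊓ centralizer (W j : Set G) := (mem_normalizer_iff''.1 (hT0 hr) o).1 (hQ0 ho)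
    have h1 := HU.cent_y h.bg s.syl.2.1 s.BT (s.syl.1.trans (s.cZ i hij)) ho'.1 hw
    have h2 := mem_centralizer_iff.1 (s.cZ i hij hr) _ h1
    have e : o * (r * w * r⁻¹) * o⁻¹ * (r * w * r⁻¹)⁻¹ =
        r * (r⁻¹ * o * r * w * (r⁻¹ * o * r)⁻¹ * w⁻¹) * r⁻¹ := by group
    rw [e, ← h2, mul_inv_cancel_right]
    exact h1

/-- `(W i)^R` commutes with `V` if it commutes with `W i` -/
theorem comm_V (h : MulG S P K B ZJ L W Z C q) (s : Si B Z j T R) (hW : R ≤ normalizer (W j : Set G))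
    {i : Fin k} (hij : i ≠ j) (hc : ∀ r ∈ R, ∀ w ∈ W i, ∀ v ∈ W i, r * w * r⁻¹ * v = v * (r * w * r⁻¹)) :
    ∀ r ∈ R, ∀ w ∈ W i, ∀ v ∈ zl (S : Subgroup G) P, r * w * r⁻¹ * v = v * (r * w * r⁻¹) := by
  intro r hr w hw
  have hT0 := norm_T0 h s hW
  have hQ0 := Q_le h s.BT j
  have hWQ : ∀ l, ∀ u ∈ W l, u ∈ T ⊓ centralizer (W j : Set G) := fun l u hu =>
    hQ0 (h.bg.fr.VQ (h.bg.fr.WV l hu))
  set x : G := r * w * r⁻¹ with hx
  have hx0 : x ∈ T ⊓ centralizer (W j : Set G) := (mem_normalizer_iff.1 (hT0 hr) w).1 (hWQ i w hw)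
  suffices hle : zl (S : Subgroup G) P ≤ centralizer ({x} : Set G) by
    intro v hv
    exact (mem_centralizer_singleton_iff.1 (hle hv)).symm
  refine (Fg_V_le h.bg.fr).trans (iSup_le fun l u hu => mem_centralizer_singleton_iff.2 ?_)
  by_cases hlj : l = j
  · subst hlj
    exact mem_centralizer_iff.1 hx0.2 u hu
  by_cases hli : l = i
  · subst hli
    exact (hc r hr w hw u hu).symm
  have h1 : x * u * x⁻¹ * u⁻¹ ∈ Z l :=
    HU.cent_y h.bg s.syl.2.1 s.BT (s.syl.1.trans (s.cZ l hlj)) hx0.1 hu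
  have h2 : u * x * u⁻¹ * x⁻¹ ∈ Z i := by
    have hu' : r⁻¹ * u * r ∈ T ⊓ centralizer (W j : Set G) := (mem_normalizer_iff''.1 (hT0 hr) u).1 (hWQ l u hu)
    have h1 := HU.cent_y h.bg s.syl.2.1 s.BT (s.syl.1.trans (s.cZ i hij)) hu'.1 hw
    have h2 := mem_centralizer_iff.1 (s.cZ i hij hr) _ h1
    have e : u * x * u⁻¹ * x⁻¹ = r * (r⁻¹ * u * r * w * (r⁻¹ * u * r)⁻¹ * w⁻¹) * r⁻¹ := by rw [hx]; group
    rw [e, ← h2, mul_inv_cancel_right]
    exact h1
  have h3 : u * x * u⁻¹ * x⁻¹ ∈ Z i ⊓ Z l := by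
    refine ⟨h2, ?_⟩
    have := inv_mem h1
    have e : (x * u * x⁻¹ * u⁻¹)⁻¹ = u * x * u⁻¹ * x⁻¹ := by group
    rwa [e] at this
  rw [h.bg.Z_disj (Ne.symm hli), mem_bot] at h3
  exact mul_inv_eq_iff_eq_mul.1 (mul_inv_eq_one.1 h3)

/-- `k ≥ 3`: `(W i)^R` commutes with `V` -/
theorem comm_three (h : MulG S P K B ZJ L W Z C q) (hk : 3 ≤ k) (s : Si B Z j T R) {i : Fin k} :
    ∀ r ∈ R, ∀ w ∈ W i, ∀ v ∈ zl (S : Subgroup G) P, r * w * r⁻¹ * v = v * (r * w * r⁻¹) := by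
  obtain ⟨l, hli, hlj⟩ : ∃ l : Fin k, l ≠ i ∧ l ≠ j := by
    by_contra hcon
    push Not at hcon
    have h1 : (Finset.univ : Finset (Fin k)) ⊆ {i, j} := fun l _ => by
      rw [Finset.mem_insert, Finset.mem_singleton]
      by_cases hl : l = i
      · exact Or.inl hl
      · exact Or.inr (hcon l hl)
    have h2 := (Finset.card_le_card h1).trans (Finset.card_le_two)
    rw [Finset.card_univ, Fintype.card_fin] at h2
    omega
  intro r hr w hw v hv
  have h1 := h.bg.adj_le (i := l) (j := i) (Ne.symm hli) (k := r)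
    (centralizer_le_normalizer _ (s.cZ l hlj hr)) ⟨w, hw, rfl⟩
  exact (mem_centralizer_iff.1 h1.2 v (h.bg.V_le l hv)).symm

/-- top level: `(W i)^R` commutes with `V` -/
theorem comm_lev (h : MulG S P K B ZJ L W Z C q) (s : Si B Z j T R) (hW : R ≤ normalizer (W j : Set G))
    {K₀ : Subgroup G} (t : Top S P K₀) {i : Fin k} :
    ∀ r ∈ R, ∀ w ∈ W i, ∀ v ∈ zl (S : Subgroup G) P, r * w * r⁻¹ * v = v * (r * w * r⁻¹) := by
  intro r hr w hw v hv
  have hT0 := norm_T0 h s hW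
  have hr' : r ∈ normalizer (K₀ : Set G) :=
    norm_K₀ h t (s.syl.2.1.to_le inf_le_left) (t.le.trans (Q_le h s.BT j)) (hT0 hr)
  have hVX := V_le_X h t
  have h1 := (mem_normalizer_iff.1 (NO3S.Level.normalizer_le_zc _ hr') w).1 (hVX (h.bg.fr.WV i hw))
  exact NO3S.Level.Lev.zc_comm h1 (hVX hv)

/-- **hU.** `R` centralises `W i / Z i` for `i ≠ j` and normalises `V`. At stage `-1` with `k = 2` one needs that `(W i)^R`
and `W i` commute. -/
theorem hU (h : MulG S P K B ZJ L W Z C q) (hk : 2 ≤ k) (s : Si B Z j T R) (hW : R ≤ normalizer (W j : Set G))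
    (hc : 3 ≤ k ∨ jj (S : Subgroup G) ≤ o2 P ∨ ∀ i, i ≠ j → ∀ r ∈ R, ∀ w ∈ W i, ∀ v ∈ W i,
      r * w * r⁻¹ * v = v * (r * w * r⁻¹)) :
    (∀ i, i ≠ j → ∀ r ∈ R, ∀ w ∈ W i, r * w * r⁻¹ * w⁻¹ ∈ Z i) ∧ (∀ i, R ≤ normalizer (W i : Set G)) ∧
      R ≤ normalizer (zl (S : Subgroup G) P : Set G) := by
  have key : ∀ i, i ≠ j → ∀ r ∈ R, ∀ w ∈ W i, r * w * r⁻¹ * w⁻¹ ∈ Z i := by
    intro i hij
    refine hU_of h hk s hW hij ?_
    rcases hc with h3 | hJ | hc
    · exact comm_three h h3 s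
    · have h1 := h.stg
      cases h1 with
      | neg hj => exact absurd hJ hj
      | lev K₀ t => exact comm_lev h s hW t
    · exact comm_V h s hW hij (hc i hij)
  have key2 : ∀ i, R ≤ normalizer (W i : Set G) := by
    intro i
    by_cases hij : i = j
    · rw [hij]; exact hW
    · intro r hr
      refine mem_normalizer_of_cj_le ?_
      rintro _ ⟨w, hw, rfl⟩
      have h1 := mul_mem ((h.bg.fr.blk i).ZV (key i hij r hr w hw)) hw
      rwa [inv_mul_cancel_right] at h1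
  refine ⟨key, key2, fun r hr => mem_normalizer_of_cj_le ?_⟩
  refine (cj_mono r (Fg_V_le h.bg.fr)).trans ?_
  have e1 : cj r (⨆ i, W i) = ⨆ i, cj r (W i) := Subgroup.map_iSup _ _
  rw [e1]
  refine iSup_le fun i => ?_
  rw [cj_eq_of_mem_normalizer (key2 i hr)]
  exact h.bg.fr.WV i

end si

end Cfsg.Agent.Omega.OM.HUMulG

end

section


/-!
# THEOREM S (helper787, #23621): the frame `Sk`

`Fg B Q V ZJ L W Z C 2` (any index type, `Z i = {1, z i}`), the level `LB S K B ZJ`, UNI+ (`UniI`), block generation over `B`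
(`BlkS K B B`), at least three blocks, `N_G(B)` 2-transitive on the `z i`, and (E) : `NLoc (KZ B ZJ)`.

* `DD ZJ = C_G(ZJ)`, `OO ZJ = O₂(DD)`, `YY ZJ L j = ⟨DD, L j⟩`, `NN ZJ L z j = ⟨z j ^ (YY j)⟩`.
-/

set_option autoImplicit false

namespace Cfsg.Agent.Omega.ESOne

open Subgroup Cfsg Cfsg.Agent.ZN.ChoiceBase
open Cfsg.Agent.ZN (zc zl o2)
open Cfsg.Agent.Omega.NO3S.EThree.Frame (Fg)
open Cfsg.Agent.Omega.OM.LevD (LB)
open Cfsg.Agent.Omega.Node.MultiOf (KZ NLoc FBl)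
open Cfsg.Agent.Omega.TC.OfMul (BlkS)
open Cfsg.Agent.Omega.NO3S.ESym (UniI)
open Cfsg.Agent.Omega.EK3.StarE (EE)

universe u

variable {G : Type u} [Group G]

/-- `D = C_G(ZJ)` -/
def DD (ZJ : Subgroup G) : Subgroup G := centralizer (ZJ : Set G)

/-- `O = O₂(D)` -/
noncomputable def OO (ZJ : Subgroup G) : Subgroup G := o2 (centralizer (ZJ : Set G))

/-- `Y j = ⟨D, L j⟩` -/
def YY (ZJ : Subgroup G) {ι : Type} (L : ι → Subgroup G) (j : ι) : Subgroup G := centralizer (ZJ : Set G) ⊔ L j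

/-- `N j = ⟨z j ^ (Y j)⟩` -/
def NN (ZJ : Subgroup G) {ι : Type} (L : ι → Subgroup G) (z : ι → G) (j : ι) : Subgroup G :=
  EE (zpowers (z j)) (YY ZJ L j)

/-- The small frame: everything in `Base.lean` and `Fields.lean` is over it. -/
structure Sk0 [Finite G] (S : Sylow 2 G) (K B ZJ Q V : Subgroup G) {ι : Type} (L W Z C : ι → Subgroup G)
    (z : ι → G) : Prop where
  char2 : IsCharacteristicTwoType G
  lb : LB S K B ZJ
  fr : Fg B Q V ZJ L W Z C 2
  hz : ∀ i x, x ∈ Z i ↔ x = 1 ∨ x = z i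
  uni : UniI B ZJ L W

/-- **The frame of THEOREM S** (2-transitive case). -/
structure Sk [Finite G] (S : Sylow 2 G) (K B ZJ Q V : Subgroup G) {ι : Type} (L W Z C : ι → Subgroup G)
    (z : ι → G) : Prop extends Sk0 S K B ZJ Q V L W Z C z where
  blk : BlkS K B B
  nloc : NLoc (KZ B ZJ)
  three : ∀ i j : ι, ∃ l, l ≠ i ∧ l ≠ j
  tr : ∀ i j a b : ι, i ≠ j → a ≠ b → ∃ g ∈ normalizer (B : Set G), g * z i * g⁻¹ = z a ∧ g * z j * g⁻¹ = z b

end Cfsg.Agent.Omega.ESOne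

end

section


/-!
# THEOREM S (helper787, #23621), piece (T3): the field `kd`

Over the frame `Sk S K B ZJ Q V L W Z C z`:

* `Kd.fbl` : `L i` is an FF-block over `B` with module `W i`; `Kd.mem_cent`, `Kd.YY_comm`, `Kd.norm_B` (`Y j ∩ N(B) ≤ D`,
  for every `X` which centralises the `z l`, `l ≠ j`), `Kd.syl`, `Kd.char2_of`;
* `Kd.par` : a minimal parabolic over `B` in `Y j`, not in `D`, contains an FF-block over `B` with module `W j`;
* `Sk.kd` : **a normal subgroup of `Y j` which moves `N j` covers `Y j` modulo `D`.**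
-/

set_option autoImplicit false
set_option linter.unusedSectionVars false

namespace Cfsg.Agent.Omega.ESOne

open Subgroup Cfsg Cfsg.Agent.ZN.ChoiceBase
open Cfsg.Agent.ZN (zc zl o2)
open Cfsg.Agent.ZN.ChoiceSit (Syl o2_le_syl)
open Cfsg.Agent.Omega.NO3S.EThree.Frame (Fg)
open Cfsg.Agent.Omega.OM
open Cfsg.Agent.Omega.OM.Uni
open Cfsg.Agent.Omega.OM.LevD (LB)
open Cfsg.Agent.Omega.Node.MultiOf (KZ NLoc FBl)
open Cfsg.Agent.Omega.TC.OfMul (BlkS)
open Cfsg.Agent.Omega.NO3S.ESym (UniI)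
open Cfsg.Agent.Omega.EK3.StarE (EE cj_le_EE EE_le)
open Cfsg.Agent.MinSimple.MinParabolic (IsMinPar)
open Cfsg.Agent.MinSimple.VModule (le_normalizer_o2 o2_isPGroup le_o2)

universe u

variable {G : Type u} [Group G] [Finite G] {S : Sylow 2 G} {K B ZJ Q V : Subgroup G} {ι : Type}
  {L W Z C : ι → Subgroup G} {z : ι → G}

namespace Kd

variable (h : Sk S K B ZJ Q V L W Z C z)
include h

/-- `L i` is an FF-block over `B` with module `W i` -/
theorem fbl (i : ι) : FBl B (L i) (W i) :=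
  ⟨⟨Z i, 2, h.fr.blk i⟩, (h.fr.blk i).toBlock (h.fr.cardZ i) h.lb.Bp h.lb.weakNormal⟩

theorem mem_Z (i : ι) : z i ∈ Z i := (h.hz i _).2 (Or.inr rfl)

theorem z_ne (i : ι) : z i ≠ 1 := by
  intro e
  have h1 : Z i = ⊥ := by
    rw [eq_bot_iff]
    intro x hx
    rcases (h.hz i x).1 hx with h2 | h2
    · exact mem_bot.2 h2
    · exact mem_bot.2 (h2.trans e)
  have h2 := h.fr.cardZ i
  rw [h1, card_bot] at h2
  omega

theorem mem_ZJ (i : ι) : z i ∈ ZJ := h.fr.Z_le i (mem_Z h i)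

theorem mem_W (i : ι) : z i ∈ W i := (h.fr.blk i).ZV (mem_Z h i)

theorem eq_z {i : ι} {x : G} (hx : x ∈ Z i) (hx1 : x ≠ 1) : x = z i := ((h.hz i x).1 hx).resolve_left hx1

theorem inj {i j : ι} (e : z i = z j) : i = j := by
  by_contra hij
  have h1 : z i ∈ W i ⊓ C i := mem_inf.2 ⟨mem_W h i, by
    rw [e]; exact h.fr.WjC i j hij (mem_W h j)⟩
  rw [h.fr.dir i, mem_bot] at h1
  exact z_ne h i h1

/-- `ZJ = ∏ Z i` -/
theorem ZJ_le [Finite ι] : ZJ ≤ ⨆ i, Z i := by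
  classical
  have : Fintype ι := Fintype.ofFinite ι
  have key : ∀ s : Finset ι, ∀ v ∈ ZJ, ∃ w ∈ (⨆ i, Z i), w⁻¹ * v ∈ ZJ ∧ ∀ i ∈ s, w⁻¹ * v ∈ C i := by
    intro s
    induction s using Finset.induction_on with
    | empty => exact fun v hv => ⟨1, one_mem _, by simpa using hv, fun i hi => by simp at hi⟩
    | insert j s hj ih =>
      intro v hv
      obtain ⟨w, hw, hwV, hwC⟩ := ih v hv
      obtain ⟨a, ha, c, hc, hcJ, e⟩ := h.fr.split_ZJ j hwV
      have e1 : (w * a)⁻¹ * v = a⁻¹ * (w⁻¹ * v) := by group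
      have e2 : a⁻¹ * (w⁻¹ * v) = c := by rw [e]; group
      refine ⟨w * a, mul_mem hw ((le_iSup Z j) ha), by rw [e1, e2]; exact hcJ, fun i hi => ?_⟩
      rw [e1]
      rcases Finset.mem_insert.1 hi with rfl | hi
      · rw [e2]
        exact hc
      · have hij : i ≠ j := fun e => hj (e ▸ hi)
        exact mul_mem (inv_mem (h.fr.WjC i j hij ((h.fr.blk j).ZV ha))) (hwC i hi)
  intro v hv
  obtain ⟨w, hw, hwV, hwC⟩ := key Finset.univ v hv
  have h1 := h.fr.C0 (w⁻¹ * v) (h.fr.ZJV hwV) fun i => hwC i (Finset.mem_univ i)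
  have h2 : v = w := (inv_mul_eq_one.1 h1).symm
  rw [h2]
  exact hw

theorem mem_cent [Finite ι] {x : G} (hx : ∀ i, x * z i = z i * x) : x ∈ centralizer (ZJ : Set G) := by
  have h1 : ZJ ≤ centralizer ({x} : Set G) := by
    refine (ZJ_le h).trans (iSup_le fun i y hy => ?_)
    rw [mem_centralizer_singleton_iff]
    rcases (h.hz i y).1 hy with rfl | rfl
    · simp
    · exact (hx i).symm
  rw [mem_centralizer_iff]
  exact fun y hy => mem_centralizer_singleton_iff.1 (h1 hy)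

theorem cent {x : G} (hx : x ∈ centralizer (ZJ : Set G)) (i : ι) : x * z i = z i * x :=
  (mem_centralizer_iff.1 hx _ (mem_ZJ h i)).symm

omit h in
/-- the elements which centralise the `z l`, `l ≠ j` -/
def XX (z : ι → G) (j : ι) : Subgroup G := centralizer (z '' {l | l ≠ j})

omit h [Finite G] in
theorem mem_XX {j : ι} {x : G} : x ∈ XX z j ↔ ∀ l, l ≠ j → x * z l = z l * x := by
  unfold XX
  rw [mem_centralizer_iff]
  constructor
  · exact fun h1 l hl => (h1 _ ⟨l, hl, rfl⟩).symm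
  · rintro h1 _ ⟨l, hl, rfl⟩
    exact (h1 l hl).symm

theorem YY_le_XX (j : ι) : YY ZJ L j ≤ XX z j := by
  refine sup_le (fun x hx => mem_XX.2 fun l _ => cent h hx l) fun x hx => mem_XX.2 fun l hl => ?_
  exact h.fr.LC j x hx (z l) (mem_ZJ h l) (h.fr.WjC j l hl.symm (mem_W h l))

theorem D_le_XX (j : ι) : centralizer (ZJ : Set G) ≤ XX z j := (le_sup_left).trans (YY_le_XX h j)

/-- an element of `XX z j` which centralises `z j` is in `D` -/
theorem stab [Finite ι] {j : ι} {x : G} (hx : x ∈ XX z j) (hxj : x * z j = z j * x) : x ∈ centralizer (ZJ : Set G) := by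
  refine mem_cent h fun i => ?_
  by_cases hij : i = j
  · rw [hij]; exact hxj
  · exact mem_XX.1 hx i hij

/-- `N_G(B)` permutes the `z i` -/
theorem nrm {g : G} (hg : g ∈ normalizer (B : Set G)) (i : ι) : ∃ j, g * z i * g⁻¹ = z j := by
  obtain ⟨j, hj, -⟩ := h.uni _ _ ((fbl h i).conj hg)
  refine ⟨j, eq_z h ?_ fun e => z_ne h i (conj_eq_one_iff.1 e)⟩
  rw [(h.fr.blk j).mem_Z_iff]
  refine ⟨?_, fun b hb => ?_⟩
  · rw [← hj]
    exact ⟨z i, mem_W h i, rfl⟩
  · have h1 : g⁻¹ * b * g ∈ B := by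
      have := (mem_normalizer_iff.1 (inv_mem hg) b).1 hb
      rwa [inv_inv] at this
    have h2 := ((h.fr.blk i).mem_Z_iff.1 (mem_Z h i)).2 _ h1
    calc b * (g * z i * g⁻¹) = g * ((g⁻¹ * b * g) * z i) * g⁻¹ := by group
      _ = g * (z i * (g⁻¹ * b * g)) * g⁻¹ := by rw [h2]
      _ = g * z i * g⁻¹ * b := by group

/-- `C_G(z l : l ≠ j) ∩ N_G(B) ≤ D` -/
theorem norm_B [Finite ι] (j : ι) : XX z j ⊓ normalizer (B : Set G) ≤ centralizer (ZJ : Set G) := by
  rintro g ⟨hg, hgB⟩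
  refine stab h hg ?_
  obtain ⟨m, hm⟩ := nrm h hgB j
  have hmj : m = j := by
    by_contra hne
    have h1 : g * z m * g⁻¹ = z m := by rw [mem_XX.1 hg m hne]; group
    have h2 : z j = z m := by
      have h3 : g * z j * g⁻¹ = g * z m * g⁻¹ := hm.trans h1.symm
      exact mul_left_cancel (mul_right_cancel h3)
    exact hne (inj h h2).symm
  rw [hmj] at hm
  exact mul_inv_eq_iff_eq_mul.1 hm

/-- **`B` is Sylow in `C_G(z l : l ≠ j)`** -/
theorem syl [Finite ι] (j : ι) : Syl B (XX z j) := by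
  refine ⟨h.lb.Bc.trans (D_le_XX h j), h.lb.Bp, fun R hR h2 hBR => ?_⟩
  have h3 : R ≤ centralizer (ZJ : Set G) := fun r hr => norm_B h j ⟨hR hr, h.lb.two_le h2 hBR hr⟩
  exact h.lb.syl.2.2 R h3 h2 hBR

theorem syl_of [Finite ι] {j : ι} {R : Subgroup G} (hB : B ≤ R) (hR : R ≤ XX z j) : Syl B R :=
  ⟨hB, h.lb.Bp, fun T hT h2 hBT => (syl h j).2.2 T (hT.trans hR) h2 hBT⟩

theorem char2 (j : ι) : XX z j ⊓ centralizer (o2 (XX z j) : Set G) ≤ o2 (XX z j) := by
  obtain ⟨l, hl, -⟩ := h.three j j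
  have e : XX z j = centralizer ((closure (z '' {l | l ≠ j}) : Subgroup G) : Set G) := (centralizer_closure _).symm
  have hle : closure (z '' {l | l ≠ j}) ≤ ZJ := by
    rw [closure_le]
    rintro _ ⟨m, -, rfl⟩
    exact mem_ZJ h m
  rw [e]
  refine NOne.LemmaT.char2_centralizer h.char2 (h.lb.Bp.to_le (hle.trans h.lb.ZB)) fun e1 => ?_
  have h1 : z l ∈ closure (z '' {l | l ≠ j}) := subset_closure ⟨l, hl, rfl⟩
  rw [e1, mem_bot] at h1
  exact z_ne h l h1

theorem o2_le_o2 [Finite ι] {j : ι} {R : Subgroup G} (hB : B ≤ R) (hR : R ≤ XX z j) : o2 (XX z j) ≤ o2 R :=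
  le_o2 ((o2_le_syl (syl h j)).trans hB) (o2_isPGroup _) (hR.trans (le_normalizer_o2 _))

theorem char2_of [Finite ι] {j : ι} {R : Subgroup G} (hB : B ≤ R) (hR : R ≤ XX z j) :
    R ⊓ centralizer (o2 R : Set G) ≤ o2 R := by
  rintro x ⟨hx, hxc⟩
  exact o2_le_o2 h hB hR (char2 h j ⟨hR hx, centralizer_le (by exact_mod_cast o2_le_o2 h hB hR) hxc⟩)

/-- a minimal parabolic over `B` in `C_G(z l : l ≠ j)`, not in `D`, contains an FF-block over `B` with module `W j` -/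
theorem par [Finite ι] {j : ι} {R : Subgroup G} (hR : IsMinPar B R) (hRX : R ≤ XX z j)
    (hD : ¬ R ≤ centralizer (ZJ : Set G)) : ∃ L', FBl B L' (W j) ∧ L' ≤ R ∧ R ≤ L' ⊔ B := by
  have hK : ¬ K ≤ o2 R := by
    intro hK
    apply hD
    have h1 : R ≤ normalizer (ZJ : Set G) := (le_normalizer_o2 R).trans (h.lb.nrm _ (o2_isPGroup R) hK)
    intro r hr
    obtain ⟨d, hd, n, hn, rfl⟩ := h.lb.exists_frattini (h1 hr)
    have h2 : n ∈ XX z j := by
      have := mul_mem (inv_mem (D_le_XX h j hd)) (hRX hr)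
      rwa [inv_mul_cancel_left] at this
    exact mul_mem hd (norm_B h j ⟨h2, hn⟩)
  have hZ : ¬ R ≤ centralizer (zc B : Set G) := by rw [h.fr.zcB]; exact hD
  obtain ⟨L', V', hb, h1, h2⟩ := h.blk R hR (syl_of h hR.le hRX) (char2_of h hR.le hRX) hK hZ
  obtain ⟨i, rfl, -⟩ := h.uni L' V' hb
  have hij : i = j := by
    by_contra hne
    obtain ⟨⟨Z', q', hF⟩, -⟩ := hb
    obtain ⟨l, hl, hmv, -⟩ := hF.exists_mv
    apply hmv
    have hZ' : Z' = Z i := by
      ext x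
      rw [hF.toMd.mem_Z_iff, (h.fr.blk i).toMd.mem_Z_iff]
    rw [hZ']
    refine Subgroup.eq_of_le_of_card_ge ?_ (card_cj _ _).ge
    rintro _ ⟨x, hx, rfl⟩
    rcases (h.hz i x).1 hx with rfl | rfl
    · simp
    · change l * z i * l⁻¹ ∈ Z i
      rw [mem_XX.1 (hRX (h1 hl)) i hne, mul_inv_cancel_right]
      exact mem_Z h i
  subst hij
  exact ⟨L', hb, h1, h2⟩

/-- an FF-block over `B` with module `W j` is transitive on `W j \ 1` -/
theorem trans {j : ι} {L' : Subgroup G} (hb : FBl B L' (W j)) {x : G} (hx : x ∈ W j) (hx1 : x ≠ 1) :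
    ∃ l ∈ L', l * z j * l⁻¹ = x := by
  obtain ⟨⟨Z', q', hF⟩, -⟩ := hb
  obtain ⟨l, hl, hmv, hV⟩ := hF.exists_mv
  have hZ' : Z' = Z j := by
    ext x
    rw [hF.toMd.mem_Z_iff, (h.fr.blk j).toMd.mem_Z_iff]
  subst hZ'
  set y : G := l * z j * l⁻¹ with hy
  have hyW : y ∈ W j := hF.nV l hl _ (mem_W h j)
  have hy1 : y ≠ 1 := fun e => z_ne h j (conj_eq_one_iff.1 e)
  have hyZ : y ∉ Z j := by
    intro h1
    apply hmv
    refine Subgroup.eq_of_le_of_card_ge ?_ (card_cj _ _).ge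
    rintro _ ⟨x, hx, rfl⟩
    rcases (h.hz j x).1 hx with rfl | rfl
    · simp
    · exact h1
  have hn : Z j ≤ normalizer ((cj l (Z j) : Subgroup G) : Set G) := by
    intro a ha
    rw [mem_normalizer_iff]
    intro b
    have hc : ∀ b ∈ cj l (Z j), a * b * a⁻¹ = b := by
      rintro _ ⟨c, hc, rfl⟩
      have h1 : l * c * l⁻¹ ∈ W j := hF.nV l hl _ (hF.ZV hc)
      change a * (l * c * l⁻¹) * a⁻¹ = l * c * l⁻¹
      rw [hF.toMd.comm (hF.ZV ha) h1, mul_inv_cancel_right]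
    constructor
    · intro hb
      rw [hc b hb]
      exact hb
    · intro hb
      have h1 := hc _ hb
      have h2 : a * b * a⁻¹ = b := by
        have h3 : a * (a * b * a⁻¹) * a⁻¹ = a * b * a⁻¹ := h1
        exact mul_left_cancel (mul_right_cancel h3)
      rwa [h2] at hb
  have hx' := hx
  rw [hV, ← SetLike.mem_coe, coe_mul_of_left_le_normalizer_right _ _ hn, Set.mem_mul] at hx'
  obtain ⟨a, ha, b, hb, rfl⟩ := hx'
  obtain ⟨c, hc, rfl⟩ := hb
  rw [MulEquiv.coe_toMonoidHom, MulAut.conj_apply] at hx1 ⊢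
  rcases (h.hz j a).1 ha with rfl | rfl
  · rcases (h.hz j c).1 hc with rfl | rfl
    · exact absurd (by simp) hx1
    · exact ⟨l, hl, by rw [one_mul]⟩
  · rcases (h.hz j c).1 hc with rfl | rfl
    · exact ⟨1, one_mem _, by simp⟩
    · obtain ⟨b, hb, v, hv, hne⟩ := hF.ne
      have h1 : b * y ≠ y * b := fun e => hne (hF.free b hb y hyW hyZ e v hv)
      have h2 : b * y * b⁻¹ * y⁻¹ = z j := by
        refine eq_z h (hF.com b hb y hyW) fun e => h1 ?_
        have h3 : b * y * b⁻¹ = y := mul_inv_eq_one.1 e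
        exact mul_inv_eq_iff_eq_mul.1 h3
      refine ⟨b * l, mul_mem (hF.BL hb) hl, ?_⟩
      have h3 : b * y * b⁻¹ = z j * y := mul_inv_eq_iff_eq_mul.1 h2
      calc b * l * z j * (b * l)⁻¹ = b * (l * z j * l⁻¹) * b⁻¹ := by group
        _ = z j * (l * z j * l⁻¹) := h3

/-- `L j ≤ L' D` for an FF-block `L' ≤ C_G(z l : l ≠ j)` over `B` with module `W j` -/
theorem L_le [Finite ι] {j : ι} {L' : Subgroup G} (hb : FBl B L' (W j)) (hL' : L' ≤ XX z j) :
    L j ≤ L' ⊔ centralizer (ZJ : Set G) := by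
  intro l hl
  have hlX : l ∈ XX z j := YY_le_XX h j (mem_sup_right hl)
  obtain ⟨l', hl', e⟩ := trans h hb ((h.fr.blk j).nV l hl _ (mem_W h j)) fun e => z_ne h j (conj_eq_one_iff.1 e)
  have h1 : l'⁻¹ * l ∈ centralizer (ZJ : Set G) := by
    refine stab h (mul_mem (inv_mem (hL' hl')) hlX) ?_
    have h2 : l' * z j * l'⁻¹ = l * z j * l⁻¹ := e
    calc l'⁻¹ * l * z j = l'⁻¹ * (l * z j * l⁻¹) * l := by group
      _ = l'⁻¹ * (l' * z j * l'⁻¹) * l := by rw [h2]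
      _ = z j * (l'⁻¹ * l) := by group
  have e1 : l = l' * (l'⁻¹ * l) := by group
  rw [e1]
  exact mul_mem (mem_sup_left hl') (mem_sup_right h1)

end Kd

/-- **(T3)** A normal subgroup of `Y j` which moves `N j` covers `Y j` modulo `D`. -/
theorem Sk.kd [Finite ι] (h : Sk S K B ZJ Q V L W Z C z) (j : ι) (K' : Subgroup G) (hK : K' ≤ YY ZJ L j)
    (hn : YY ZJ L j ≤ normalizer (K' : Set G)) (hm : ¬ K' ≤ centralizer (NN ZJ L z j : Set G)) :
    YY ZJ L j ≤ K' ⊔ DD ZJ := by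
  have hD : ¬ K' ≤ centralizer (ZJ : Set G) := by
    intro hD
    apply hm
    rw [le_centralizer_iff]
    refine EE_le fun y hy => ?_
    rw [← le_centralizer_iff]
    rw [← cj_eq_of_mem_normalizer (hn hy), ← cj_centralizer]
    refine cj_mono y (hD.trans (centralizer_le ?_))
    have : zpowers (z j) ≤ ZJ := by
      rw [zpowers_le]; exact Kd.mem_ZJ h j
    exact_mod_cast this
  have hMX : K' ⊔ centralizer (ZJ : Set G) ≤ Kd.XX z j := sup_le (hK.trans (Kd.YY_le_XX h j)) (Kd.D_le_XX h j)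
  by_contra hcon
  apply hD
  refine le_trans le_sup_left (MinSimple.MinParabolic.le_of_forall (S := B) (X := K' ⊔ centralizer (ZJ : Set G))
    (h.lb.Bc.trans le_sup_right) ((inf_le_inf_right _ hMX).trans (Kd.norm_B h j)) fun R hR hRM => ?_)
  by_contra hRD
  obtain ⟨L', hb, h1, h2⟩ := Kd.par h hR (hRM.trans hMX) hRD
  apply hcon
  exact sup_le le_sup_right ((Kd.L_le h hb (h1.trans (hRM.trans hMX))).trans (sup_le (h1.trans hRM) le_sup_right))

end Cfsg.Agent.Omega.ESOne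

end

section


/-!
# Minimal parabolics which move `Ω₁(Z(T))` are generated by `T` and blocks, over any weakly closed level `K₀`

`LevB.blkGen` with `lev S n` replaced by a weakly closed level `K₀`; `BK S K₀ = C_S(Ω₁Z(nxt S K₀))`,
`ZK S K₀ = Ω₁Z(nxt S K₀)`.

* `lb`, `wc`, `zc_B`, `isLev_T`, `bz_K`; `blkGen`;
* `fixPt_K` : fixed points do not lift, if `K₀ ≤ O₂(H)`.
-/

set_option autoImplicit false

namespace Cfsg.Agent.Omega.OM.SwapK

open Subgroup Cfsg Cfsg.Agent.ZN.ChoiceBase Cfsg.Agent.ZN.ChoiceSit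
open Cfsg.Agent.ZN (jj zj bau zc zl o2)
open Cfsg.Agent.MinSimple.MinParabolic (IsMinPar)
open Cfsg.Agent.Omega.LemmaK (Block WeakNormal)
open Cfsg.Agent.Omega.FFThm (NatKM SymKM OffM NoOverM)
open Cfsg.Agent.Omega.FrameFF (cv)
open Cfsg.Agent.Omega.OM.Uni (FB)
open Cfsg.Agent.Omega.OM.LevD (LB)
open Cfsg.Agent.Omega.OM.LevB (FBlk)
open Cfsg.Agent.Omega.OM.GLev
open Cfsg.Agent.Omega.NO3S.Level

universe u

variable {G : Type u} [Group G] [Finite G]

/-- `Z_J = Ω₁Z(nxt S K₀)` -/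
def ZK (S K₀ : Subgroup G) : Subgroup G := zc (nxt S K₀)

/-- `B = C_S(Z_J)` -/
def BK (S K₀ : Subgroup G) : Subgroup G := S ⊓ centralizer (zc (nxt S K₀) : Set G)

/-- A weakly closed level. -/
structure WL (S : Sylow 2 G) (K₀ : Subgroup G) : Prop where
  wc : NO3b.Wc.WC (S : Subgroup G) K₀
  lev : Lev (S : Subgroup G) K₀

variable {S : Sylow 2 G} {K₀ : Subgroup G}

theorem WL.of_lev (S : Sylow 2 G) (n : ℕ) : WL S (NO3S.Level.lev (S : Subgroup G) n) := ⟨lev_wc n, lev_isLev _ n⟩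

omit [Finite G] in
theorem WL.of_top {P : Subgroup G} (h : Node.MulG.Top S P K₀) : WL S K₀ := ⟨h.wc, h.lev⟩

namespace WL

variable (h : WL S K₀)
include h

theorem lb : LB S (nxt (S : Subgroup G) K₀) (BK (S : Subgroup G) K₀) (ZK (S : Subgroup G) K₀) :=
  Node.MulG.lb_nxt h.wc

theorem wcB : WeakCl.WC (BK (S : Subgroup G) K₀) := Lev.Wc.wc_cent_Lev h.lev.next rfl

theorem K₀B : K₀ ≤ BK (S : Subgroup G) K₀ := (le_nxt h.lev.le).trans h.lb.KB

/-- `N_G(B) ≤ N_G(K₀)` -/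
theorem norm_B : normalizer (BK (S : Subgroup G) K₀ : Set G) ≤ normalizer (K₀ : Set G) :=
  Lev.Wc.norm_B_Lev h.lev rfl

/-- `Ω₁Z(B) = ZJ` -/
theorem zc_B : zc (BK (S : Subgroup G) K₀) = ZK (S : Subgroup G) K₀ := by
  have hb := h.lb
  ext z
  constructor
  · intro hz
    obtain ⟨h1, h2, h3⟩ := mem_zc.1 hz
    exact h.lev.next.mem_of_comm (hb.BS h1) h2 fun y hy => h3 y (hb.KB hy)
  · intro hz
    exact mem_zc.2 ⟨hb.ZB hz, hb.sq z hz, fun y hy => (mem_centralizer_iff.1 (hb.Bc hy) z hz).symm⟩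

theorem norm_T {T : Subgroup G} (hT : IsPGroup 2 T) (hle : K₀ ≤ T) :
    normalizer (T : Set G) ≤ normalizer (K₀ : Set G) := fun _ hg =>
  mem_normalizer_iff_cj.2 (LevD.norm_of_wc h.wc hT hle hg)

theorem isLev_T {T : Subgroup G} (hT : IsPGroup 2 T) (hle : K₀ ≤ T) : Lev T K₀ where
  le := hle
  jjle := by
    rw [MinSimple.EmptyTI.jj_eq S hT (h.lev.jjle.trans hle)]
    exact h.lev.jjle
  norm := fun _ h1 h2 => h.norm_T (hT.to_le h2) h1

theorem nxt_T {T : Subgroup G} (hT : IsPGroup 2 T) (hle : nxt (S : Subgroup G) K₀ ≤ T) :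
    nxt T K₀ = nxt (S : Subgroup G) K₀ := LevD.nxt_eq h.wc (wc_nxt h.wc) hT hle

/-- `BZ` at `K₀` -/
theorem bz {T : Subgroup G} (hT : IsPGroup 2 T) (hB : BK (S : Subgroup G) K₀ ≤ T) :
    BZ T (zc K₀) (BO T K₀) (BK (S : Subgroup G) K₀) (ZK (S : Subgroup G) K₀) := by
  have hb := h.lb
  have hle := hb.KB.trans hB
  refine
    { mem_ZJ := fun z => ?_
      eqB := (hb.inf_eq hT hB).symm
      zcB := h.zc_B
      wn := fun R hR hBR => hb.two_le hR hBR
      sylB := fun R hR hBR hRc => hb.syl.2.2 R hRc hR hBR }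
  rw [ZK, ← h.nxt_T hT hle]
  exact zc_nxt (h.isLev_T hT (h.K₀B.trans hB))

variable {T H : Subgroup G}

/-- A block `L` over `B` with `H = ⟨T, L⟩`. -/
theorem exists_fblk (hT : Syl T H) (hB : BK (S : Subgroup G) K₀ ≤ T) (hP : IsMinPar T H)
    (hc : H ⊓ centralizer (o2 H : Set G) ≤ o2 H) (hK : K₀ ≤ o2 H) (hn : ¬ nxt (S : Subgroup G) K₀ ≤ o2 H)
    (hZ : ¬ H ≤ centralizer (zc T : Set G)) :
    ∃ L V : Subgroup G, L ≤ H ∧ FBlk (BK (S : Subgroup G) K₀) L V ∧ H ≤ T ⊔ L := by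
  have hb := h.lb
  have hle := hb.KB.trans hB
  have hT2 := hT.2.1
  have hL := h.isLev_T hT2 (h.K₀B.trans hB)
  have hnx := h.nxt_T hT2 hle
  have hV : zl T H ≤ zc K₀ :=
    (MinSimple.VModule.zl_le_zc hT.1 hT2 (syl_not_dvd hT) hc).trans (hL.zc_o2_le hK (o2_le_syl hT))
  have hQC := BlkGen.inf_cent hT hP hZ
  obtain ⟨A, hA, hAQ⟩ : ∃ A ∈ BO T K₀, ¬ A ≤ o2 H := by
    by_contra hcon
    push Not at hcon
    apply hn
    rw [← hnx]
    exact sup_le ((inf_le_inf_left _ (centralizer_le hV)).trans hQC) (sSup_le hcon)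
  have hoff : OffM (zl T H) A := hA.2.offM hV fun h1 => hAQ ((le_inf hA.1 h1).trans hQC)
  obtain ⟨hno, hcon⟩ := FF.Glob.ffthmM G T H hT hP hc ⟨A, hA.1.trans hT.1, hoff⟩
  have hge := GE.of_lev hT hP hc hZ hL hK hno
  have hbz := h.bz hT2 hB
  have hw := hb.weakNormal
  rcases hcon with ⟨F, _, _, _, k, hk, ⟨N⟩⟩ | ⟨k, m, hk, hm, hN⟩
  · obtain ⟨L, N', N₁, D', -, hLH, hpb, hsup⟩ := GNat.exists_pb hge hbz N hk ⟨A, hA, hAQ⟩
    exact ⟨L, _, hLH, ⟨⟨_, _, hpb.fb⟩, hpb.block hw⟩, hsup⟩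
  · obtain ⟨L, N', N₁, D', q, -, hLH, hpb, hsup⟩ := LevB.symBlk G T H _ _ _ _ k m hge hbz hk hm hN ⟨A, hA, hAQ⟩
    exact ⟨L, _, hLH, ⟨⟨_, _, hpb.fb⟩, hpb.block hw⟩, hsup⟩

/-- **Minimal parabolics of stage `K₀` which move `Ω₁(Z(T))` are generated by `T` and an FF-block over `B`.** -/
theorem blkGen (hT : Syl T H) (hB : BK (S : Subgroup G) K₀ ≤ T)
    (hP : IsMinPar T H) (hc : H ⊓ centralizer (o2 H : Set G) ≤ o2 H) (hK : K₀ ≤ o2 H) :
    LevD.BlkGen (nxt (S : Subgroup G) K₀) (ZK (S : Subgroup G) K₀) (FBlk (BK (S : Subgroup G) K₀)) T H := by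
  intro hn hZ
  obtain ⟨L, V, -, hF, hsup⟩ := h.exists_fblk hT hB hP hc hK hn hZ
  exact hsup.trans (sup_le le_sup_right (le_sup_of_le_left (LevD.blk_le_K0 hF)))

/-- **Fixed points do not lift**, `K₀ ≤ O₂(H)`. -/
theorem fixPt (hT : Syl T H) (hle : nxt (S : Subgroup G) K₀ ≤ T) (hmin : IsMinPar T H) (hK : K₀ ≤ o2 H) :
    LevD.FixPt (nxt (S : Subgroup G) K₀) T H := fun hn hz =>
  LevD.fixPt_nxt hT hmin (h.isLev_T hT.2.1 ((le_nxt h.lev.le).trans hle)) hK
    (by rwa [h.nxt_T hT.2.1 hle]) hz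

end WL

end Cfsg.Agent.Omega.OM.SwapK

end

section


/-!
# The light frame of symmetric blocks at every stage (THEOREM S'', #23971, #23986, #24003)

`LF S P B ZJ N` : `ι` = the transpositions of `C_S(ZJ)` with coordinates (`SyL`, `Ch`, `SymOut`), the FF-blocks `L i`
over `B`, the frame `FrL`, UNI+ (`UniI`).

* `exists_neg`, `exists_lev`, `exists_light` : the light frame at every stage of `HypL`;
* `LF.trans` : `S` is transitive on the light pairs; `LF.exists_brother`.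
-/

set_option autoImplicit false
set_option linter.unusedSectionVars false
set_option linter.unusedVariables false

namespace Cfsg.Agent.Omega.ESym.Light

open Subgroup Cfsg Cfsg.Agent.PLocal.ThompsonJ Cfsg.Agent.ZN.ChoiceBase Cfsg.Agent.ZN.ChoiceSit
open Cfsg.Agent.ZN (jj zj bau zc zl o2)
open Cfsg.Agent.Omega.SQ1 Cfsg.Agent.Omega.SQ1.FFOne Cfsg.Agent.Omega.SQ1.FFSym
open Cfsg.Agent.Omega.FFThm (ActsSym SymK SymKM OffM ElemM)
open Cfsg.Agent.Omega.FrameFF (cv)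
open Cfsg.Agent.Omega.NO3S (HypL HypF HypN HypJ Hyp)
open Cfsg.Agent.Omega.NO3S.Level (lev nxt Lev BO lev_isLev)
open Cfsg.Agent.Omega.OM Cfsg.Agent.Omega.OM.Uni
open Cfsg.Agent.Omega.OM.Lev.SymIn (SyL)
open Cfsg.Agent.Omega.OM.Lev.SymIn.SyL (Ch)
open Cfsg.Agent.Omega.OM.Lev.Sym (SymOut)
open Cfsg.Agent.Omega.OM.Lev.SIn (Blk)
open Cfsg.Agent.Omega.OM.Lev.Uni (FrL Best)
open Cfsg.Agent.Omega.OM.FrSym (CC)
open Cfsg.Agent.Omega.Node.MultiOf
open Cfsg.Agent.Omega.NO3S.ESym (UniI)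
open scoped Pointwise

universe w

variable {G : Type w} [Group G]

/-- **The light frame.** -/
structure LF [Finite G] (S : Sylow 2 G) (P B ZJ : Subgroup G) {k m : ℕ}
    (N : SymKM (S : Subgroup G) P (zl (S : Subgroup G) P) (cv (S : Subgroup G) P) k m) where
  (Jg Xf : Subgroup G)
  (AA : Set (Subgroup G))
  ι : Type
  J : ι → Fin k
  (X X' : ι → Fin (2 ^ m + 1))
  (t r : ι → G)
  (L A : ι → Subgroup G)
  fi : Finite ι
  sy : SyL (S : Subgroup G) P (o2 P) (zl (S : Subgroup G) P) Jg ⊥ AA (0 : Fin (2 ^ m + 1)) N.e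
  ch : Ch Jg P (zl (S : Subgroup G) P) ⊥ 0 N.e J X X' t r
  out : SymOut (S : Subgroup G) P (zl (S : Subgroup G) P) Jg (fun i => sy.NN (J i) 0 (X i) (X' i))
    (fun i => u P (zl (S : Subgroup G) P) ⊥ N.e (J i) (X i) (X' i)) t r
  blk : ∀ i, Blk P (S : Subgroup G) (zl (S : Subgroup G) P) ZJ
    (fun i => u P (zl (S : Subgroup G) P) ⊥ N.e (J i) (X i) (X' i)) r i (L i)
  eqv : ∀ x ∈ (S : Subgroup G), ∀ i j, x * u P (zl (S : Subgroup G) P) ⊥ N.e (J i) (X i) (X' i) * x⁻¹ =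
    u P (zl (S : Subgroup G) P) ⊥ N.e (J j) (X j) (X' j) → cj x (L i) = L j
  frl : FrL B (o2 P) (zl (S : Subgroup G) P) Xf ZJ L (fun i => sy.NN (J i) 0 (X i) (X' i))
    (fun i => zpowers (u P (zl (S : Subgroup G) P) ⊥ N.e (J i) (X i) (X' i)))
    (CC fun i => sy.NN (J i) 0 (X i) (X' i)) A 2
  uni : UniI B ZJ L fun i => sy.NN (J i) 0 (X i) (X' i)

/-! ### A level -/

section lev

variable [Finite G] {S : Sylow 2 G} {P : Subgroup G}

/-- **The light frame at the stage `n`.** -/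
theorem exists_lev (h : HypN S P) {n : ℕ} (hn : lev (S : Subgroup G) n ≤ o2 P)
    (hn1 : ¬ lev (S : Subgroup G) (n + 1) ≤ o2 P) {k m : ℕ} (hk : 0 < k) (hm : 1 ≤ m)
    (N : SymKM (S : Subgroup G) P (zl (S : Subgroup G) P) (cv (S : Subgroup G) P) k m) :
    Nonempty (LF S P ((S : Subgroup G) ⊓ centralizer (zc (lev (S : Subgroup G) (n + 1)) : Set G))
      (zc (lev (S : Subgroup G) (n + 1))) N) := by
  have hG := h.ctx.char2
  have hL := lev_isLev (S : Subgroup G) n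
  have hcen := h.toHyp.inf_eq_bot
  have hJ := NO3S.exists_BO hG h.star hn hn1
  obtain ⟨hx, hc⟩ := NO3S.OneLine.exa_lev FF.Glob.ffthmM hG h.star hL hn hcen hJ
  have e1 := (NO3S.OneLine.lev_eq FF.Glob.ffthmM hG h.star hL hn hcen hJ).2
  have e2 : Lev.SIn.ZJ (zl (S : Subgroup G) P) (nxt (S : Subgroup G) (lev (S : Subgroup G) n)) =
      zc (lev (S : Subgroup G) (n + 1)) := e1.symm
  obtain ⟨ι, J, U, Y, t, r, h0, Lb, A, c, hs, hLb, hcj, hAJ, hF⟩ := Lev.Sym.exists_frame hx hk hm N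
    (hx.cv_eq_bot_sym N) (hx.zc_o2_sym N hk hm) (NO3S.Level.nxt_le _ _) (Lev.Sym.nxt_norm hL)
    (fun A hA => NO3S.Level.BO.le_nxt hA) (Lev.Sym.nxt_le_sup _ _)
  rw [e2] at hLb hF
  have hfin : Finite ι := hs.bau.finite_index
  have hu : UniI ((S : Subgroup G) ⊓ centralizer (zc (lev (S : Subgroup G) (n + 1)) : Set G))
      (zc (lev (S : Subgroup G) (n + 1))) Lb fun i => h0.NN (J i) 0 (U i) (Y i) := by
    intro L' V' h'
    obtain ⟨-, -, i, -, -, -, -, h1⟩ := TC.UniLev.uni_all S rfl rfl hF h'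
    exact ⟨i, h1 rfl⟩
  exact ⟨{
    Jg := nxt (S : Subgroup G) (lev (S : Subgroup G) n)
    Xf := zc (lev (S : Subgroup G) n)
    AA := _
    ι := ι
    J := J
    X := U
    X' := Y
    t := t
    r := r
    L := Lb
    A := A
    fi := hfin
    sy := h0
    ch := c
    out := hs
    blk := hLb
    eqv := hcj
    frl := hF
    uni := hu }⟩

end lev

/-! ### `S` is transitive on the light pairs -/

section trans

variable {T H Q V D Jg : Subgroup G} {AA : Set (Subgroup G)} {k n : ℕ} {o : Fin n}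
  {e : G → Fin k → Fin n → ZMod 2} {ι : Type} {J : ι → Fin k} {X Y : ι → Fin n} {t r : ι → G}

/-- **`T` is transitive on the light pairs.** -/
theorem tr_conj (h : SyL T H Q V Jg D AA o e) [Finite G] (c : Ch Jg H V D o e J X Y t r) (i j : ι) :
    ∃ s ∈ T, s * u H V D e (J i) (X i) (Y i) * s⁻¹ = u H V D e (J j) (X j) (Y j) := by
  obtain ⟨s₁, hs₁, σ, τ, ha, hσ⟩ := h.trans (J i) (J j)
  have h1 := SyL.Tr.conj h (c.tr i) hs₁ ha
  rw [hσ] at h1
  obtain ⟨s₂, hs₂, π, hπ, hπx⟩ := h.cyc_T Cfsg.Agent.Omega.SQ1.SymCyc.exists_pow (J j) (h1.ne h).1.symm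
    ((c.tr j).ne h).1.symm
  have h2 := SyL.Tr.conj h h1 hs₂ hπ.act
  rw [Equiv.Perm.one_apply, Pi.mulSingle_eq_same, hπx] at h2
  have h3 := SyL.Tr.disj h h2 (c.tr j)
  refine ⟨s₂ * s₁, mul_mem hs₂ hs₁, ?_⟩
  have e1 : s₂ * s₁ * u H V D e (J i) (X i) (Y i) * (s₂ * s₁)⁻¹ =
      s₂ * (s₁ * u H V D e (J i) (X i) (Y i) * s₁⁻¹) * s₂⁻¹ := by group
  rw [e1, h.u_conj (h.TH hs₁) ha, h.u_conj (h.TH hs₂) hπ.act, hσ, Equiv.Perm.one_apply, Pi.mulSingle_eq_same, hπx, h3]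

/-- every point `≠ o` of every component lies in a light pair -/
theorem exists_idx (h : SyL T H Q V Jg D AA o e) [Finite G] (c : Ch Jg H V D o e J X Y t r) (j : Fin k) {x : Fin n}
    (hx : x ≠ o) : ∃ i, J i = j ∧ (X i = x ∨ Y i = x) := by
  obtain ⟨y, hy⟩ := h.cover Cfsg.Agent.Omega.SQ1.SymCyc.exists_pow j hx
  obtain ⟨i, hi, -, -, ⟨h1, -⟩ | ⟨-, h1⟩⟩ := c.exists_idx h hy
  · exact ⟨i, hi, Or.inl h1⟩
  · exact ⟨i, hi, Or.inr h1⟩

/-- **brothers** : `n ≥ 4`: every light pair has another one in its component -/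
theorem exists_bro (h : SyL T H Q V Jg D AA o e) [Finite G] (c : Ch Jg H V D o e J X Y t r) (hn : 4 ≤ n) (i : ι) :
    ∃ j, j ≠ i ∧ J j = J i := by
  obtain ⟨x, h1, h2, h3⟩ : ∃ x : Fin n, x ≠ o ∧ x ≠ X i ∧ x ≠ Y i := by
    by_contra hcon
    push Not at hcon
    have h1 : (Finset.univ : Finset (Fin n)) ⊆ {o, X i, Y i} := by
      intro z _
      by_cases hz : z = o
      · simp [hz]
      · by_cases hz2 : z = X i
        · simp [hz2]
        · simp [hcon z hz hz2]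
    have h2 := Finset.card_le_card h1
    have h3 := Finset.card_le_three (a := o) (b := X i) (c := Y i)
    rw [Finset.card_univ, Fintype.card_fin] at h2
    omega
  obtain ⟨j, hj, h4⟩ := exists_idx h c (J i) h1
  refine ⟨j, ?_, hj⟩
  rintro rfl
  rcases h4 with h4 | h4
  · exact h2 h4.symm
  · exact h3 h4.symm

end trans

/-! ### Stage `-1` -/

section neg

variable [Finite G] {S : Sylow 2 G} {P : Subgroup G}

/-- Thompson: a largest elementary abelian subgroup of `S` is a best offender on every `V ≤ S`. -/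
theorem best_of_AA {V A : Subgroup G} (hV : IsElementaryAbelian 2 V) (hVS : V ≤ (S : Subgroup G))
    (hA : A ∈ AA (S : Subgroup G)) : Best V A := by
  intro F hF1 hF2
  have hc : F ≤ centralizer ((V ⊓ centralizer (F : Set G) : Subgroup G) : Set G) := fun f hf =>
    mem_centralizer_iff.2 fun v hv => (mem_centralizer_iff.1 hv.2 f hf).symm
  have hFe := isElementaryAbelian_mono hA.1 hF2
  have hCe := isElementaryAbelian_mono hV (inf_le_left (b := centralizer (F : Set G)))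
  have h1 := Cfsg.Agent.PLocal.ElemAbSup.isElementaryAbelian_sup hCe hFe hc
  have h2 := hA.2.2 _ h1 (sup_le (inf_le_left.trans hVS) (hF2.trans hA.2.1))
  have h3 := Cfsg.Agent.PLocal.ElemAbSup.card_sup_mul_card_inf hc
  have h4 : Nat.card ↥((V ⊓ centralizer (F : Set G)) ⊓ F) ≤ Nat.card ↥(V ⊓ centralizer (A : Set G)) := by
    refine Subgroup.card_le_of_le (le_inf (inf_le_left.trans inf_le_left) fun x hx => mem_centralizer_iff.2 fun a ha => ?_)
    exact congrArg (fun t : A => (t : G)) (hA.1.1.is_comm.comm ⟨a, ha⟩ ⟨x, hF2 hx.2⟩)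
  calc Nat.card F * Nat.card ↥(V ⊓ centralizer (F : Set G)) =
      Nat.card ↥(V ⊓ centralizer (F : Set G)) * Nat.card F := mul_comm _ _
    _ = _ := h3.symm
    _ ≤ _ := Nat.mul_le_mul h2 h4

/-- **The light frame at the stage `-1`.** -/
theorem exists_neg (h : HypJ S P) {k m : ℕ} (hk : 0 < k) (hm : 2 ≤ m)
    (N : SymKM (S : Subgroup G) P (zl (S : Subgroup G) P) (cv (S : Subgroup G) P) k m) :
    Nonempty (LF S P (bau (S : Subgroup G)) (zj (S : Subgroup G)) N) := by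
  obtain ⟨ι, J, X, Y, t, r, h0, c, h2⟩ := symOut h.toHyp.syl h.star.toIsMinPar
    (h.star.isLoc.char2 S h.ctx.char2) h.jnot hk (by omega) N.toSymK h.toHyp.cv
  obtain ⟨L, A, hL, hc, hA, hF⟩ := FrSym.symFr h2 (Uni.mx_sylow S)
  have hfin : Finite ι := h2.bau.finite_index
  have sy : SyL (S : Subgroup G) P (o2 P) (zl (S : Subgroup G) P) (jj (S : Subgroup G)) ⊥ (AA (S : Subgroup G))
      (0 : Fin (2 ^ m + 1)) N.e :=
    { toSy := h0.toSy
      TH := h0.TH
      Tp := h0.Tp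
      QT := h0.QT
      VQ := h0.VQ
      Qn := h0.Qn
      VcQ := h0.VcQ
      cT := h0.cT
      syl := h0.syl
      trans := h0.trans
      fix0 := h0.fix0
      gen := h0.gen
      JT := jj_le _
      Jn := fun x hx y hy => SyT.J_norm hx hy
      AJ := fun A hA => le_jj hA
      Jle := by rw [jj_eq]; exact le_sup_left
      offD := h0.offD
      nJ := h0.nJ
      cycle := h0.cycle
      prop := h0.prop }
  have ch : Ch (jj (S : Subgroup G)) P (zl (S : Subgroup G) P) ⊥ 0 N.e J X Y t r :=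
    ⟨c.tr, c.tJ, c.tg, c.rg, c.inj, c.ex⟩
  have out := Lev.Sym.symOut_of sy ch h2.zc_eq
  have two : ∀ i : ι, ∃ j, j ≠ i := fun i => by
    have h6 : 2 ^ 2 ≤ 2 ^ m := Nat.pow_le_pow_right (by norm_num) hm
    obtain ⟨j, hj, -⟩ := exists_bro sy ch (by omega) i
    exact ⟨j, hj⟩
  have line : Line S P L (fun i => h0.NN (J i) 0 (X i) (Y i))
      (fun i => zpowers (u P (zl (S : Subgroup G) P) ⊥ N.e (J i) (X i) (Y i)))
      (fun i => CC (fun i => h0.NN (J i) 0 (X i) (Y i)) i) A 2 := ⟨h, hF, two⟩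
  have htr : ∀ i j : ι, ∃ s ∈ (S : Subgroup G), cj s (zpowers (u P (zl (S : Subgroup G) P) ⊥ N.e (J i) (X i) (Y i))) =
      zpowers (u P (zl (S : Subgroup G) P) ⊥ N.e (J j) (X j) (Y j)) := by
    intro i j
    obtain ⟨s, hs, e⟩ := tr_conj sy ch i j
    refine ⟨s, hs, ?_⟩
    rw [cj, MonoidHom.map_zpowers]
    exact congrArg zpowers e
  have hVS : zl (S : Subgroup G) P ≤ (S : Subgroup G) := h0.VQ.trans h0.QT
  exact ⟨{
    Jg := jj (S : Subgroup G)
    Xf := zl (S : Subgroup G) P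
    AA := AA (S : Subgroup G)
    ι := ι
    J := J
    X := X
    X' := Y
    t := t
    r := r
    L := L
    A := A
    fi := hfin
    sy := sy
    ch := ch
    out := out
    blk := fun i => ⟨(hL i).BL, (hL i).LP, (hL i).mv, (hL i).min⟩
    eqv := hc
    frl :=
      { blk := hF.blk
        cardZ := hF.cardZ
        QB := hF.QB
        VQ := hF.VQ
        elX := hF.el
        VX := le_rfl
        mem_Q := hF.mem_Q
        zcQ := hF.zcQ
        mem_ZJ := hF.mem_ZJ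
        LV := hF.LV
        LQ := hF.LQ
        LX := hF.LV
        WV := hF.WV
        CV := hF.CV
        WC := hF.WC
        dir := hF.dir
        C0 := hF.C0
        WjC := hF.WjC
        BC := hF.BC
        LC := hF.LC
        AB := hF.AB
        AX := fun i => FFThm.ElemM.of_elem (hF.Ael i)
        best := fun i => best_of_AA hF.el hVS (hA i)
        Ane := hF.Ane
        AC := hF.AC }
    uni := fun L' V' h' => by
      obtain ⟨⟨Z', q', h1⟩, h3⟩ := h'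
      obtain ⟨i, -, h4, h5⟩ := line.uniTwo htr h1 h3
      exact ⟨i, h4, h5⟩ }⟩

end neg

/-! ### All stages -/

/-- **The light frame at every stage.** -/
theorem exists_light [Finite G] {S : Sylow 2 G} {P K B ZJ : Subgroup G} (h : HypN S P) (st : StgP S P K B ZJ)
    {k m : ℕ} (hk : 0 < k) (hm : 2 ≤ m)
    (N : SymKM (S : Subgroup G) P (zl (S : Subgroup G) P) (cv (S : Subgroup G) P) k m) :
    Nonempty (LF S P B ZJ N) := by
  cases st with
  | neg hj => exact exists_neg ⟨h, hj⟩ hk hm N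
  | lev n hall hn hn1 => exact exists_lev h hn hn1 hk (by omega) N

end Cfsg.Agent.Omega.ESym.Light

end
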