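import Cfsg.Agent.Mrg.Omega.Node.ELXUni
import Cfsg.Agent.Mrg.Omega.NO3S.WY.Frame
import Cfsg.Agent.Mrg.Omega.Node.MulG


/-!
# NoW for one `S₅`, case (L): the selection

* `WdF S P B ZJ p Y` : `Y` is weird : minimal parabolic over `B`, of characteristic 2, centralises `nn p`, moves `Z_J`,
  `O₂(P) ≰ O₂(Y)`;  `MxF` : `|DX S P Y|` is maximal among all weird `Y`;
* sockets `FinF K` : `J(S) ≰ O₂(Y)`;  `InfF K` : `J(S) ≤ O₂(Y)` (`WY S P B Y`);
* **`noWFive_of : FinF K → InfF K → NoWFive K`**.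
-/

set_option autoImplicit false
set_option linter.unusedSectionVars false

namespace Cfsg.Agent.Omega.Node.NoWFiveSel

open Subgroup Cfsg Cfsg.Agent.ZN.ChoiceBase
open Cfsg.Agent.ZN.ChoiceSit (Syl)
open Cfsg.Agent.ZN (jj zc zl o2)
open Cfsg.Agent.MinSimple.MinParabolic (IsMinPar)
open Cfsg.Agent.Omega.NO3S.Level (nxt CaseL)
open Cfsg.Agent.Omega.NO3S.RedC (DX)
open Cfsg.Agent.Omega.NO3S.WY (WY WY.of_mv)
open Cfsg.Agent.Omega.Frame (Cls)
open Cfsg.Agent.Omega.NTwo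
open Cfsg.Agent.Omega.NO3S.Sym.Light (FiveL)
open Cfsg.Agent.Omega.Node.MultiOf (NLoc)
open Cfsg.Agent.Omega.Node.MulX (SymL)
open Cfsg.Agent.Omega.Node.MulG (top_caseL)
open Cfsg.Agent.Omega.Node.ELXUni (NoWFive)
open Cfsg.Agent.Omega.OM

universe u

section defs

variable {G : Type u} [Group G]

/-- **A weird `Y`**, one `S₅`. -/
structure WdF [Finite G] (S : Sylow 2 G) (P B ZJ : Subgroup G) (p : Fin 5 → G) (Y : Subgroup G) : Prop where
  min : IsMinPar B Y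
  syl : Syl B Y
  c2 : Y ⊓ centralizer (o2 Y : Set G) ≤ o2 Y
  cen : Y ≤ centralizer ({nn p} : Set G)
  nQ : ¬ o2 P ≤ o2 Y
  mv : ¬ Y ≤ centralizer (ZJ : Set G)

/-- `|DX S P Y|` is maximal among all weird `Y`. -/
def MxF [Finite G] (S : Sylow 2 G) (P B ZJ : Subgroup G) (p : Fin 5 → G) (Y : Subgroup G) : Prop :=
  ∀ Y' : Subgroup G, WdF S P B ZJ p Y' → Nat.card (DX (S : Subgroup G) P Y') ≤ Nat.card (DX (S : Subgroup G) P Y)

end defs

/-- **finite stage** : `J(S) ≰ O₂(Y)` -/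
def FinF (K : Cls.{u}) : Prop :=
  ∀ (G : Type u) [Group G] [Finite G], K G → ∀ (S : Sylow 2 G) (P B ZJ : Subgroup G) (ι : Type)
    (L W Z C A : ι → Subgroup G), SymL S P B ZJ L W Z C A 1 2 → NLoc (centralizer (ZJ : Set G) ⊔ ⨆ i, L i) →
      ∀ p : Fin 5 → G, FiveL S P p → ∀ Y : Subgroup G, WdF S P B ZJ p Y → MxF S P B ZJ p Y →
        ¬ jj (S : Subgroup G) ≤ o2 Y → False

/-- **infinite stage** : `J(S) ≤ O₂(Y)` -/
def InfF (K : Cls.{u}) : Prop :=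
  ∀ (G : Type u) [Group G] [Finite G], K G → ∀ (S : Sylow 2 G) (P B ZJ : Subgroup G) (ι : Type)
    (L W Z C A : ι → Subgroup G), SymL S P B ZJ L W Z C A 1 2 → NLoc (centralizer (ZJ : Set G) ⊔ ⨆ i, L i) →
      ∀ p : Fin 5 → G, FiveL S P p → ∀ Y : Subgroup G, WdF S P B ZJ p Y → MxF S P B ZJ p Y →
        WY S P B Y → False

variable {G : Type u} [Group G] [Finite G] {S : Sylow 2 G} {P B ZJ : Subgroup G} {ι : Type}
  {L W Z C A : ι → Subgroup G} {k m : ℕ} {p : Fin 5 → G} {Y : Subgroup G}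

/-- `Ω₁(Z(B)) = Z_J` -/
theorem zc_B (h : SymL S P B ZJ L W Z C A k m) : zc B = ZJ := by
  have h1 : SwapK.WL S (o2 P) := SwapK.WL.of_top (top_caseL h.cl)
  have h2 := h1.zc_B
  rw [h.eqB, h.eZ]
  exact h2

/-- some weird `Y` has maximal `|DX S P Y|` -/
theorem exists_mx (hY : WdF S P B ZJ p Y) : ∃ Y', WdF S P B ZJ p Y' ∧ MxF S P B ZJ p Y' := by
  classical
  obtain ⟨Y', h1, h2⟩ := Set.exists_max_image {Y' : Subgroup G | WdF S P B ZJ p Y'}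
    (fun Y' => Nat.card (DX (S : Subgroup G) P Y')) (Set.toFinite _) ⟨Y, hY⟩
  exact ⟨Y', h1, fun Y'' h3 => h2 Y'' h3⟩

theorem wy_of (h : SymL S P B ZJ L W Z C A k m) (hY : WdF S P B ZJ p Y) (hj : jj (S : Subgroup G) ≤ o2 Y) :
    WY S P B Y :=
  WY.of_mv h.cl (h.eB.trans_le inf_le_left) h.fr.QB hY.syl hY.min hY.c2 (by rw [zc_B h]; exact hY.mv) hY.nQ hj

/-- **the selection** -/
theorem noWFive_of {K : Cls.{u}} (hF : FinF K) (hI : InfF K) : NoWFive K := by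
  intro G _ _ hK S P B ZJ ι L W Z C A hM hN p hp Y h1 h2 h3 h4 h5
  by_contra h6
  obtain ⟨Y', hY', hm⟩ := exists_mx (S := S) (P := P) (B := B) (ZJ := ZJ) (p := p) ⟨h1, h2, h3, h4, h5, h6⟩
  by_cases hj : jj (S : Subgroup G) ≤ o2 Y'
  · exact hI G hK S P B ZJ ι L W Z C A hM hN p hp Y' hY' hm (wy_of hM hY' hj)
  · exact hF G hK S P B ZJ ι L W Z C A hM hN p hp Y' hY' hm hj

end Cfsg.Agent.Omega.Node.NoWFiveSel
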