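import Cfsg.Agent.Mrg.Omega.Node.SymG
import Cfsg.Agent.Mrg.Omega.NO3S.Sym.Light


/-!
# The case (L) of GammaFF, one `S₅`, light vectors not 2-central: UNI over `T = C_S(n) = B`

* `NoWFive K` : no weird minimal parabolic `Y` over `B` centralises the light vector `nn p` and moves `Z_J`
  (the analogue of `MulXTwo.NoW` for one `S₅`);
* `syl_T`, `char2_of_le` : `T` is a Sylow 2-subgroup of every `T ≤ R ≤ C_G(n)`, and `R` has characteristic 2;
* **`uni_of_noW`** : UNI : every minimal parabolic `R ≤ C_G(nn p)` over `T` which moves `aa p` normalises `V_P`.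
-/

set_option autoImplicit false
set_option linter.unusedSectionVars false

namespace Cfsg.Agent.Omega.Node.ELXUni

open Subgroup Cfsg Cfsg.Agent.ZN.ChoiceBase
open Cfsg.Agent.ZN.ChoiceSit (Syl)
open Cfsg.Agent.ZN (zc zl o2)
open Cfsg.Agent.MinSimple.MinParabolic (IsMinPar)
open Cfsg.Agent.MinSimple.VModule (le_normalizer_o2 o2_isPGroup le_o2 o2_le)
open Cfsg.Agent.Omega.NO3S.Level (nxt CaseL)
open Cfsg.Agent.Omega.Frame (Cls)
open Cfsg.Agent.Omega.NTwo
open Cfsg.Agent.Omega.NO3S.Sym.Light (FiveL)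
open Cfsg.Agent.Omega.Node.MultiOf (NLoc)
open Cfsg.Agent.Omega.Node.MulX (SymL)

universe u

/-- **No weird `Y ≤ C_G(n)`**, one `S₅`. -/
def NoWFive (K : Cls.{u}) : Prop :=
  ∀ (G : Type u) [Group G] [Finite G], K G → ∀ (S : Sylow 2 G) (P B ZJ : Subgroup G) (ι : Type)
    (L W Z C A : ι → Subgroup G), SymL S P B ZJ L W Z C A 1 2 → NLoc (centralizer (ZJ : Set G) ⊔ ⨆ i, L i) →
      ∀ p : Fin 5 → G, FiveL S P p → ∀ Y : Subgroup G, IsMinPar B Y → Syl B Y →
        Y ⊓ centralizer (o2 Y : Set G) ≤ o2 Y → Y ≤ centralizer ({nn p} : Set G) → ¬ o2 P ≤ o2 Y →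
          Y ≤ centralizer (ZJ : Set G)

variable {G : Type u} [Group G] [Finite G] {S : Sylow 2 G} {P : Subgroup G} {p : Fin 5 → G}

/-- `T = C_S(n)` is a Sylow 2-subgroup of every `R ≤ C_G(n)` over `T`. -/
theorem syl_T (hp : FiveL S P p) {R : Subgroup G} (hT : Std.T (S : Subgroup G) p ≤ R)
    (hR : R ≤ centralizer ({nn p} : Set G)) : Syl (Std.T (S : Subgroup G) p) R := by
  have hp2 : Fact (Nat.Prime 2) := ⟨Nat.prime_two⟩
  refine ⟨hT, S.isPGroup'.to_le Std.T_le, fun Q hQ h2 hle => ?_⟩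
  have h1 := relIndex_mul_relIndex (Std.T (S : Subgroup G) p) Q (centralizer ({nn p} : Set G)) hle (hQ.trans hR)
  have h3 : ¬ 2 ∣ (Std.T (S : Subgroup G) p).relIndex Q := fun hd =>
    hp.not_dvd (h1 ▸ hd.mul_right _)
  obtain ⟨n, hn⟩ := (IsPGroup.iff_card.1 h2)
  have h4 : (Std.T (S : Subgroup G) p).relIndex Q ∣ 2 ^ n := hn ▸ relIndex_dvd_card _ _
  obtain ⟨m, -, hm⟩ := (Nat.dvd_prime_pow Nat.prime_two).1 h4
  have h5 : (Std.T (S : Subgroup G) p).relIndex Q = 1 := by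
    rcases Nat.eq_zero_or_pos m with h6 | h6
    · rw [hm, h6, pow_zero]
    · exact absurd (hm ▸ dvd_pow_self 2 h6.ne') h3
  exact le_antisymm (relIndex_eq_one.1 h5) hle

/-- every `T ≤ R ≤ C_G(n)` has characteristic 2. -/
theorem char2_of_le (hp : FiveL S P p) {R : Subgroup G} (hT : Std.T (S : Subgroup G) p ≤ R)
    (hR : R ≤ centralizer ({nn p} : Set G)) : R ⊓ centralizer (o2 R : Set G) ≤ o2 R := by
  have h1 : o2 (centralizer ({nn p} : Set G)) ≤ o2 R :=
    le_o2 (hp.o2_le_T.trans hT) (o2_isPGroup _) (hR.trans (le_normalizer_o2 _))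
  rintro x ⟨hx, hxc⟩
  exact h1 (MinSimple.Basic.char2_centralizer hp.ctx.char2 (by rw [sq]; exact hp.std.nsq) hp.std.n_ne_one
    ⟨hR hx, centralizer_le (by exact_mod_cast h1) hxc⟩)

variable {B ZJ : Subgroup G} {ι : Type} {L W Z C A : ι → Subgroup G} {k m : ℕ}

/-- **UNI over `T`, case (L).** -/
theorem uni_of_noW (h : SymL S P B ZJ L W Z C A k m) (hp : FiveL S P p) (hB : B = Std.T (S : Subgroup G) p)
    (ha : aa p ∈ ZJ)
    (hW : ∀ Y : Subgroup G, IsMinPar B Y → Syl B Y → Y ⊓ centralizer (o2 Y : Set G) ≤ o2 Y →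
      Y ≤ centralizer ({nn p} : Set G) → ¬ o2 P ≤ o2 Y → Y ≤ centralizer (ZJ : Set G)) {R : Subgroup G}
    (hR : IsMinPar (Std.T (S : Subgroup G) p) R) (hRn : R ≤ centralizer ({nn p} : Set G))
    (hRa : ¬ R ≤ centralizer ({aa p} : Set G)) : R ≤ normalizer (zl (S : Subgroup G) P : Set G) := by
  have hs := syl_T hp hR.le hRn
  by_cases hQ : o2 P ≤ o2 R
  · exact (le_normalizer_o2 R).trans (h.cl.norm_le hQ ((ZN.ChoiceSit.o2_le_syl hs).trans Std.T_le))
  · exfalso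
    subst hB
    exact hRa ((hW R hR hs (char2_of_le hp hR.le hRn) hRn hQ).trans
      (centralizer_le (Set.singleton_subset_iff.2 ha)))

end Cfsg.Agent.Omega.Node.ELXUni
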