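import Cfsg.Agent.Mrg.Omega.Node.NoWFiveSel
import Cfsg.Agent.Mrg.Omega.NO3S.WY.Tor.LitS


/-!
# NoW for one `S₅`, case (L): the plug

* socket `TorSOf K` : a weird `Y` of the infinite stage gives `TorS S P p Y`;
* socket `Y5Of` : `TorS S P p Y` gives the facts `Y5`;
* **`infF_of : TorSOf K → Y5Of → InfF K`**, **`noWFive : FinF K → TorSOf K → Y5Of → NoWFive K`**.
-/

set_option autoImplicit false
set_option linter.unusedSectionVars false

namespace Cfsg.Agent.Omega.Node.NoWFivePlug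

open Subgroup Cfsg Cfsg.Agent.ZN.ChoiceBase
open Cfsg.Agent.ZN (jj zc zl o2)
open Cfsg.Agent.Omega.NO3S.WY (WY)
open Cfsg.Agent.Omega.NO3S.WY.Tor.SFive (TorS Y5)
open Cfsg.Agent.Omega.Frame (Cls)
open Cfsg.Agent.Omega.NTwo
open Cfsg.Agent.Omega.NO3S.Sym.Light (FiveL)
open Cfsg.Agent.Omega.Node.MultiOf (NLoc)
open Cfsg.Agent.Omega.Node.MulX (SymL)
open Cfsg.Agent.Omega.Node.ELXUni (NoWFive)
open Cfsg.Agent.Omega.Node.NoWFiveSel

universe u

/-- **(TOR') for one `S₅`**, of a weird `Y` of the infinite stage -/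
def TorSOf (K : Cls.{u}) : Prop :=
  ∀ (G : Type u) [Group G] [Finite G], K G → ∀ (S : Sylow 2 G) (P B ZJ : Subgroup G) (ι : Type)
    (L W Z C A : ι → Subgroup G), SymL S P B ZJ L W Z C A 1 2 → NLoc (centralizer (ZJ : Set G) ⊔ ⨆ i, L i) →
      ∀ p : Fin 5 → G, FiveL S P p → ∀ Y : Subgroup G, WdF S P B ZJ p Y → MxF S P B ZJ p Y →
        WY S P B Y → TorS S P p Y

/-- **the facts at `Y`** -/
def Y5Of : Prop :=
  ∀ (G : Type u) [Group G] [Finite G] (S : Sylow 2 G) (P : Subgroup G) (p : Fin 5 → G) (Y : Subgroup G),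
    TorS S P p Y → ∃ (K W F R : Subgroup G) (g h : G), K ≤ Y ∧ Y5 (o2 P) (zl (S : Subgroup G) P) K W F R g h p ∧
      ∀ A ≤ o2 P, ¬ A ≤ o2 Y → ¬ A ≤ centralizer (W : Set G)

theorem infF_of {K : Cls.{u}} (hT : TorSOf K) (hY : Y5Of.{u}) : InfF K :=
  fun G _ _ hK S P B ZJ ι L W Z C A hM hN p hp Y hw hm wy =>
    (hT G hK S P B ZJ ι L W Z C A hM hN p hp Y hw hm wy).false_of
      (hY G S P p Y (hT G hK S P B ZJ ι L W Z C A hM hN p hp Y hw hm wy))

theorem noWFive {K : Cls.{u}} (hF : FinF K) (hT : TorSOf K) (hY : Y5Of.{u}) : NoWFive K :=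
  noWFive_of hF (infF_of hT hY)

end Cfsg.Agent.Omega.Node.NoWFivePlug
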