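import Cfsg.Agent.Mrg.Omega.NO3S.EThree.Row7X
import Cfsg.Agent.Mrg.Omega.EK3.QG.OfMulX


/-!
# (E), `q ≥ 4`, over the case (L) of GammaFF

* `NoWQ K` : no weird `Y ≤ C_G(Z_l : l ≠ j)`, `q ≥ 4`, every `k ≥ 2`;
* `eTwoQ_of` : `EX K (k = 2 ∧ 4 ≤ q)` from `NoWQ K`, (TI), (V!) (helper509, 651);
* `eManyQ_of` : `EX K (3 ≤ k ∧ 4 ≤ q)` from `NoWQ K`, the weak (TI) (helper834, 968, 176).
-/

set_option autoImplicit false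

namespace Cfsg.Agent.Omega.Node.CaseLPQ

open Cfsg Cfsg.Agent.Omega.Frame
open Cfsg.Agent.Omega.Node.MulX

universe u

/-- **No weird `Y ≤ C_G(Z_l : l ≠ j)`**, `q ≥ 4`. -/
def NoWQ (K : Cls.{u}) : Prop :=
  ∀ (G : Type u) [Group G] [Finite G], K G → ∀ (S : Sylow 2 G) (P B ZJ : Subgroup G) (k : ℕ)
    (L W Z C A : Fin k → Subgroup G) (q : ℕ), 2 ≤ k → 4 ≤ q → MulL S P B ZJ L W Z C A q →
      ∀ j, KL.QF.KInX.NoW S P Z j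

variable {K : Cls.{u}}

theorem eTwoQ_of (hML : ML.Final.MLK.{u, u}) (hE : ML.Ex.Two.Ext.{u, u}) (hW : NoWQ K)
    (hT : NO3S.EThree.Row7X.TiX K) (hO : NO3S.EThree.Row7X.OffX K) : EX K fun k q => k = 2 ∧ 4 ≤ q :=
  NO3S.EThree.Row7X.eX_of_off hML hE hT
    (fun G _ _ hK S P B ZJ L W Z C A q hq hM _ _ => hW G hK S P B ZJ 2 L W Z C A q le_rfl hq hM 1) hO

theorem eManyQ_of (hML : ML.Final.MLK.{u, u}) (hE : ML.Ex.Two.Ext.{u, u}) (hW : NoWQ K) (hT : EK3.QG.TiWX K) :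
    EX K fun k q => 3 ≤ k ∧ 4 ≤ q :=
  EK3.QG.eX_of hML hE hT
    fun G _ _ hK S P B ZJ k L W Z C A q hk hq hM _ => hW G hK S P B ZJ k L W Z C A q (by omega) hq hM

end Cfsg.Agent.Omega.Node.CaseLPQ
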