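import Cfsg.Agent.Mrg.Omega.Node.NO3SLevel


/-!
# NO-3S, natural lines, `q ≥ 4`, `n ≥ 2`: `FullK` from (F1), no stage

`WF K` : as `WB K` (`Node/NO3SLevel.lean`), over `HypF` (no stage): it serves the stages (`WB`), and the cases (L), (S5)
of `GammaFF` (`WH`, `NO3S/Level/Gamma.lean`).  Paper: helper471 #21459, helper298 #21966.
-/

set_option autoImplicit false

namespace Cfsg.Agent.Omega.NO3S

open Subgroup Cfsg Cfsg.Agent.ZN Cfsg.Agent.Omega.MinPar Cfsg.Agent.Omega.Frame Cfsg.Agent.Omega.FrameNOFF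
open Cfsg.Agent.Omega.NoFF.Lines

universe u

/-- `FullK`, given (F1), `n ≥ 2`, no stage. -/
def WF (K : Cls.{u}) : Prop :=
  ∀ (G : Type u) [Group G] [Finite G], K G → ∀ (S : Sylow 2 G) (P : Subgroup G), HypF S P →
    ∀ (F : Type) [Field F] [Finite F] [CharP F 2], 4 ≤ Nat.card F → NatP F (zl (S : Subgroup G) P) P →
      ∀ B R : Subgroup G, FrB F S P B R →
        ¬ PT.kx (zl (S : Subgroup G) P) R ≤ centralizer (zl (S : Subgroup G) P : Set G) → ∀ (n : ℕ) (y : G), 2 ≤ n →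
          Crit R (normalizer (R : Set G)) {P} n 1 y → FullK (zl (S : Subgroup G) P) R ∨ IsKnownSimple' G

variable {K : Cls.{u}}

theorem WF.wB (h : WF K) : WB K := fun G _ _ hK S P hP F _ _ _ hF M B R hB hf n y hn hy =>
  h G hK S P hP.toHypF F hF M B R hB hf n y hn hy

end Cfsg.Agent.Omega.NO3S
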