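import Cfsg.Agent.Mrg.Omega.Node.SymG
import Cfsg.Agent.Mrg.Omega.Node.NO3SWF
import Cfsg.Agent.Mrg.Omega.NO3S.Fld.LevEnd
import Cfsg.Agent.Mrg.Omega.NO3S.Sym.Light
import Cfsg.Agent.Mrg.Omega.NO3S.RedC.Main


/-!
# The final plug for the case (L) of GammaFF

`CaseIn K` = the open inputs of the FF-ends over `CaseLP`, over the dichotomy `KX` (`Node/MulX.lean`, helper388);
`CaseIn.ends : Two K → WF K → CaseIn K → Ends K CaseLP`.  `red` is closed (`RedC.redH_caseL'`, helper284).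

* `ELX K` : (E), `V_P` = even subsets of `{1..5}`, light vectors not 2-central (`FiveL`); `eSX_of_light`.
-/

set_option autoImplicit false

namespace Cfsg.Agent.Omega.Node.CaseLPEnds

open Subgroup Cfsg Cfsg.Agent.ZN Cfsg.Agent.Omega.MinPar Cfsg.Agent.Omega.Frame Cfsg.Agent.Omega.FrameNOFF
open Cfsg.Agent.Omega.NO3S Cfsg.Agent.Omega.NO3S.Level
open Cfsg.Agent.Omega.Node.MultiOf Cfsg.Agent.Omega.Node.MulX
open Cfsg.Agent.Omega.NOThreeL.Merge (MZ)

universe u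

/-- **(E)**, case (L), `V_P` = even subsets of `{1..5}`, light vectors not 2-central. -/
def ELX (K : Cls.{u}) : Prop :=
  ∀ (G : Type u) [Group G] [Finite G], K G → ∀ (S : Sylow 2 G) (P B ZJ : Subgroup G) (ι : Type)
    (L W Z C A : ι → Subgroup G), SymL S P B ZJ L W Z C A 1 2 → NLoc (centralizer (ZJ : Set G) ⊔ ⨆ i, L i) →
      ∀ p : Fin 5 → G, NO3S.Sym.Light.FiveL S P p → IsKnownSimple' G

/-- **The open inputs of the FF-ends over `CaseLP`.** -/
structure CaseIn (K : Cls.{u}) : Prop where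
  /-- (Om), natural, `q = 2` -/
  omTwo : OmX K fun _ q => q = 2
  /-- (E), natural, `k = 2 = q` -/
  eTwo : EX K fun k q => k = 2 ∧ q = 2
  /-- (E), natural, `k ≥ 3`, `q = 2` -/
  eMany : EX K fun k q => 3 ≤ k ∧ q = 2
  /-- (Om), natural, `q ≥ 4` -/
  omQ : OmX K fun _ q => 4 ≤ q
  /-- (E), natural, `k = 2`, `q ≥ 4` -/
  eTwoQ : EX K fun k q => k = 2 ∧ 4 ≤ q
  /-- (E), natural, `k ≥ 3`, `q ≥ 4` -/
  eManyQ : EX K fun k q => 3 ≤ k ∧ 4 ≤ q
  /-- (Om), symmetric types -/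
  omS : OmSX K fun _ _ => True
  /-- (E), `S₅`, light vectors not 2-central -/
  light : ELX K
  /-- (E), symmetric types, `(k, m) ≠ (1, 2)` -/
  eS : ESX K fun k m => 2 ≤ k ∨ 3 ≤ m

variable {K : Cls.{u}}

theorem OmSX.mono {c c' : ℕ → ℕ → Prop} (h : OmSX K c) (hc : ∀ k m, c' k m → c k m) : OmSX K c' :=
  fun G _ _ hK S P B ZJ ι L W Z C A k m hk hm hc' => h G hK S P B ZJ ι L W Z C A k m hk hm (hc k m hc')

theorem ESX.mono {c c' : ℕ → ℕ → Prop} (h : ESX K c) (hc : ∀ k m, c' k m → c k m) : ESX K c' :=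
  fun G _ _ hK S P B ZJ ι L W Z C A k m hk hm hc' => h G hK S P B ZJ ι L W Z C A k m hk hm (hc k m hc')

/-- (E), `(k, m) = (1, 2)`, from the light case. -/
theorem eSX_of_light (h2 : Two K) (hl : ELX K) : ESX K fun k m => k = 1 ∧ m = 2 := by
  intro G _ _ hK S P B ZJ ι L W Z C A k m _ _ hkm hM hN
  obtain ⟨rfl, rfl⟩ := hkm
  obtain ⟨M⟩ := hM.sym
  obtain ⟨p, hp⟩ := NO3S.Sym.Exit.exists_five hM.cl.hypN.toHyp M.toSymK
  by_cases hc : ∃ T₀ : Sylow 2 G, ∀ x ∈ (T₀ : Subgroup G), x * NTwo.nn p * x⁻¹ = NTwo.nn p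
  · obtain ⟨T₀, hT₀⟩ := hc
    exact NO3S.Sym.Exit.known_of_central h2 hK hp T₀ hT₀
  · push Not at hc
    exact hl G hK S P B ZJ ι L W Z C A hM hN p ⟨hp, fun T₀ h0 => by
      obtain ⟨x, hx, h1⟩ := hc T₀
      exact h1 (h0 x hx)⟩

namespace CaseIn

variable (I : CaseIn K)
include I

theorem multiTwo : MultiTwoH K CaseLP := multiTwoX_of I.omTwo I.eTwo I.eMany

theorem multiQ : MultiQH K CaseLP := multiQX_of I.omQ I.eTwoQ I.eManyQ

theorem symTwo (h2 : Two K) : SymTwoH K CaseLP :=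
  symTwoX_of (OmSX.mono I.omS fun _ _ _ => trivial) (eSX_of_light h2 I.light)

theorem symBig : SymBigH K CaseLP :=
  symBigX_of (OmSX.mono I.omS fun _ _ _ => trivial) (ESX.mono I.eS fun _ _ h => Or.inr h.2)

theorem symMany : SymManyH K CaseLP :=
  symManyX_of (OmSX.mono I.omS fun _ _ _ => trivial) (ESX.mono I.eS fun _ _ h => Or.inl h)

/-- **The FF-ends over `CaseLP`.** -/
theorem ends (h2 : Two K) (hw : WF K) : Ends K CaseLP where
  red := RedC.redH_caseL' K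
  w := fun G _ _ hK S P h F _ _ _ hF' M B R hB hf n y hn hy =>
    hw G hK S P (CaseL.hypF h) F hF' M B R hB hf n y hn hy
  multiTwo := I.multiTwo
  multiQ := I.multiQ
  symTwo := I.symTwo h2
  symBig := I.symBig
  symMany := I.symMany

end CaseIn

end Cfsg.Agent.Omega.Node.CaseLPEnds
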