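import Cfsg.Agent.Mrg.Omega.NO1.Types
import Cfsg.Agent.Mrg.Omega.FrameI
import Cfsg.Agent.ZN.ChoiceNse
import Cfsg.Agent.Mrg.Omega.NOne.LemmaT

section


/-!
# The leaf N1 (= NO-1': `V_P ≰ O₂(C_G(Z))`) from its parts (project OMEGA, assembler: helper406)

Text: #11359, #12527 (frame, LANDED: `NO1/Cfg.lean`, `NOne/NearFF.lean`), MASTER v5.2 #13358;
`C = C_G(Z)`, `Q = O₂(C)`, `V = V_P`, `E = V ∩ Q`.

Parts (each a Prop, no part uses another one):
* `FFThm.StmtM` (the K-free FF theorem, #12272, module form) and the types `NatOne`, `NatMany`, `SymAll`;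
* (BT), the near-FF theorem, `V` without offender: `BTNot` (TEXT B4 #15506; old split: `BTTwo` (`|V/E| = 2`),
  `BTMin`, `BTNoMin` (`|V/E| ≥ 4`));
* ends: `EndMinus2`, `EndPlus2`, `EndNat4` (`|V| = 16`, they reach "`F*(C_G(z))` of symplectic type"),
  `EndMinusQ`, `EndPlusQ` (`q ≥ 4`, they reach the list).
-/

set_option autoImplicit false
set_option linter.unusedSectionVars false

namespace Cfsg.Agent.Omega.NO1

open Subgroup Cfsg Cfsg.Agent.ZN Cfsg.Agent.Omega.MinPar Cfsg.Agent.Omega.Frame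
open Cfsg.Agent.Omega.NoFF.LinesPlug (CC)
open Cfsg.Agent.Omega.NOne.NearFF (V1)
open Cfsg.Agent.Omega.FFThm (OffM NatK SymK)
open Cfsg.Agent.Omega.FrameFF (cv)
open scoped Pointwise

universe u

/-! ### The types of `V_P`, `V_P` with an offender -/

section FF

/-- **`V` one natural `SL₂(F)`-module**: `q = 4` and `|Z| = 2` (THEOREM NAT #13408, helper359; `q = 2`:
LEMMA T).  Owner: helper359. -/
def NatOne : Prop :=
  ∀ (G : Type u) [Group G] [Finite G] (S : Sylow 2 G) (P : Subgroup G), Cfg S P →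
    ∀ (F : Type) [Field F] [Finite F] [CharP F 2],
      NatK F (S : Subgroup G) P (zl (S : Subgroup G) P) (cv (S : Subgroup G) P) 1 → Ty (S : Subgroup G) P

/-- **`V` the sum of `k ≥ 2` natural modules**: `q = 2`, `k = 2`, `V = O₄⁺(2)` (#14396, #14576).
Owner: helper727, helper806, helper791. -/
def NatMany : Prop :=
  ∀ (G : Type u) [Group G] [Finite G] (S : Sylow 2 G) (P : Subgroup G), Cfg S P →
    ∀ (F : Type) [Field F] [Finite F] [CharP F 2] (k : ℕ), 2 ≤ k →
      NatK F (S : Subgroup G) P (zl (S : Subgroup G) P) (cv (S : Subgroup G) P) k → Ty (S : Subgroup G) P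

/-- **`V` a sum of even-subset modules**: `k = 1`, `m = 2`, `V = O₄⁻(2)`.  Owner: helper457. -/
def SymAll : Prop :=
  ∀ (G : Type u) [Group G] [Finite G] (S : Sylow 2 G) (P : Subgroup G), Cfg S P →
    ∀ k m : ℕ, 0 < k → 2 ≤ m →
      SymK (S : Subgroup G) P (zl (S : Subgroup G) P) (cv (S : Subgroup G) P) k m → Ty (S : Subgroup G) P

end FF

/-! ### (BT): the types of `V_P`, `V_P` without offender -/

section BT

/-- `P` induces no offender on `V_P` (module form: `A` is elementary abelian modulo `C_A(V)`). -/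
def NoOff {G : Type u} [Group G] (S P : Subgroup G) : Prop :=
  ∀ A : Subgroup G, A ≤ P → ¬ OffM (zl S P) A

/-- The subgroup `E₀ = V ∩ O₂(C_G(Z₀))`, `Z₀ ≤ Z`. -/
abbrev EZ {G : Type u} [Group G] (S P Z₀ : Subgroup G) : Subgroup G := zl S P ⊓ o2 (centralizer (Z₀ : Set G))

/-- **(BT), `|V/E₀| = 2` for all `1 ≠ Z₀ ≤ Z`** (#12590, #13091, #13635, #13823, #14271, #13987, #14522).
Split in `NO1/TwoBr.lean`: `BTAbs` (`|Z| = 2`, abstract) and `BTZ` (`|Z| ≥ 4`).
Owner: helper318, helper575, helper620, helper817, helper276; Lean: helper132, helper710, helper65. -/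
def BTTwo : Prop :=
  ∀ (G : Type u) [Group G] [Finite G] (S : Sylow 2 G) (P : Subgroup G), Cfg S P →
    NoOff (S : Subgroup G) P →
    (∀ Z₀ : Subgroup G, Z₀ ≤ zc (S : Subgroup G) → Z₀ ≠ ⊥ →
      (EZ (S : Subgroup G) P Z₀).relIndex (zl (S : Subgroup G) P) = 2) → Ty (S : Subgroup G) P

/-- **(BT), `|V/E₀| ≥ 4` for some `1 ≠ Z₀ ≤ Z`, case (I)**: some `P₂ ∈ P(S)`, `P₂ ≤ C_G(Z₀)`, has
`V ≰ O₂(P₂)`.
Owner: helper527, helper732, helper2, helper723; wreathed: helper247, helper766. -/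
def BTMin : Prop :=
  ∀ (G : Type u) [Group G] [Finite G] (S : Sylow 2 G) (P : Subgroup G), Cfg S P →
    NoOff (S : Subgroup G) P →
    ∀ Z₀ : Subgroup G, Z₀ ≤ zc (S : Subgroup G) → Z₀ ≠ ⊥ →
      4 ≤ (EZ (S : Subgroup G) P Z₀).relIndex (zl (S : Subgroup G) P) →
      (∃ P₂ : Subgroup G, IsPar (S : Subgroup G) P₂ ∧ P₂ ≤ centralizer (Z₀ : Set G) ∧
        ¬ zl (S : Subgroup G) P ≤ o2 P₂) → Ty (S : Subgroup G) P

/-- **(BT), `|V/E₀| ≥ 4` for some `1 ≠ Z₀ ≤ Z`, case (II)**: `V ≤ O₂(P₂)` for all `P₂ ∈ P(S)`,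
`P₂ ≤ C_G(Z₀)`.
Owner: helper438, helper70, helper626, helper389. -/
def BTNoMin : Prop :=
  ∀ (G : Type u) [Group G] [Finite G] (S : Sylow 2 G) (P : Subgroup G), Cfg S P →
    NoOff (S : Subgroup G) P →
    ∀ Z₀ : Subgroup G, Z₀ ≤ zc (S : Subgroup G) → Z₀ ≠ ⊥ →
      4 ≤ (EZ (S : Subgroup G) P Z₀).relIndex (zl (S : Subgroup G) P) →
      (∀ P₂ : Subgroup G, IsPar (S : Subgroup G) P₂ → P₂ ≤ centralizer (Z₀ : Set G) →
        zl (S : Subgroup G) P ≤ o2 P₂) → Ty (S : Subgroup G) P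

/-- **(BT)**: the five types. -/
def BT : Prop :=
  ∀ (G : Type u) [Group G] [Finite G] (S : Sylow 2 G) (P : Subgroup G), Cfg S P → Ty (S : Subgroup G) P

/-- `V ≰ O₂(C_G(Z₀))` for `1 ≠ Z₀ ≤ Z`. -/
theorem not_le_Z₀ {G : Type u} [Group G] [Finite G] {S : Sylow 2 G} {P : Subgroup G} (h : Cfg S P)
    {Z₀ : Subgroup G} (hZ : Z₀ ≤ zc (S : Subgroup G)) :
    ¬ zl (S : Subgroup G) P ≤ o2 (centralizer (Z₀ : Set G)) := fun h1 =>
  h.one.not_le (h1.trans (o2_le_o2 S (Cfg.S_le_CC S) (centralizer_le hZ)))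

theorem EZ_relIndex {G : Type u} [Group G] [Finite G] {S : Sylow 2 G} {P : Subgroup G} (h : Cfg S P)
    {Z₀ : Subgroup G} (hZ : Z₀ ≤ zc (S : Subgroup G)) :
    (EZ (S : Subgroup G) P Z₀).relIndex (zl (S : Subgroup G) P) = 2 ∨
      4 ≤ (EZ (S : Subgroup G) P Z₀).relIndex (zl (S : Subgroup G) P) := by
  have : Fact (Nat.Prime 2) := ⟨Nat.prime_two⟩
  obtain ⟨k, hk⟩ := IsPGroup.iff_card.1 h.V_isPGroup
  have h1 : (EZ (S : Subgroup G) P Z₀).relIndex (zl (S : Subgroup G) P) ∣ 2 ^ k := by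
    rw [← hk]
    exact relIndex_dvd_card _ _
  obtain ⟨j, -, hj⟩ := (Nat.dvd_prime_pow Nat.prime_two).1 h1
  rcases j with _ | _ | j
  · exfalso
    rw [pow_zero, relIndex_eq_one] at hj
    exact not_le_Z₀ h hZ (hj.trans inf_le_right)
  · left; rw [hj]; norm_num
  · right
    rw [hj]
    calc 4 = 2 ^ 2 := by norm_num
      _ ≤ 2 ^ (j + 1 + 1) := Nat.pow_le_pow_right (by norm_num) (by omega)

/-- **(BT), `V_P` without offender** (TEXT B4 #15506: LEMMA J, THEOREM FLAT and the module problem; or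
`btNot_of`). -/
def BTNot : Prop :=
  ∀ (G : Type u) [Group G] [Finite G] (S : Sylow 2 G) (P : Subgroup G), Cfg S P →
    NoOff (S : Subgroup G) P → Ty (S : Subgroup G) P

/-- The old case split. -/
theorem btNot_of (h2 : BTTwo.{u}) (h3 : BTMin.{u}) (h4 : BTNoMin.{u}) : BTNot.{u} := by
  intro G _ _ S P h hoff
  by_cases hA : ∀ Z₀ : Subgroup G, Z₀ ≤ zc (S : Subgroup G) → Z₀ ≠ ⊥ →
      (EZ (S : Subgroup G) P Z₀).relIndex (zl (S : Subgroup G) P) = 2
  · exact h2 G S P h hoff hA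
  · push Not at hA
    obtain ⟨Z₀, hZ, hZ1, hA⟩ := hA
    have hA4 := (EZ_relIndex h hZ).resolve_left hA
    by_cases hP : ∃ P₂ : Subgroup G, IsPar (S : Subgroup G) P₂ ∧ P₂ ≤ centralizer (Z₀ : Set G) ∧
      ¬ zl (S : Subgroup G) P ≤ o2 P₂
    · exact h3 G S P h hoff Z₀ hZ hZ1 hA4 hP
    · push Not at hP
      exact h4 G S P h hoff Z₀ hZ hZ1 hA4 hP

/-- (BT) from its parts. -/
theorem bt_of (hFF : FFThm.StmtM.{u}) (f1 : NatOne.{u}) (f2 : NatMany.{u}) (f3 : SymAll.{u})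
    (hN : BTNot.{u}) : BT.{u} := by
  intro G _ _ S P h
  by_cases hoff : NoOff (S : Subgroup G) P
  · exact hN G S P h hoff
  · unfold NoOff at hoff
    push Not at hoff
    obtain ⟨-, ⟨F, _, _, _, k, hk, ⟨M⟩⟩ | ⟨k, m, hk, hm, ⟨M⟩⟩⟩ :=
      hFF G (S : Subgroup G) P ⟨h.S_le, S.isPGroup', fun _ _ hT hST => S.is_maximal' hT hST⟩
        h.par.toIsMinPar (h.loc.char2 S h.ctx.char2) hoff
    · rcases Nat.lt_or_ge k 2 with hk2 | hk2
      · obtain rfl : k = 1 := by omega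
        exact f1 G S P h F M.toNatK
      · exact f2 G S P h F k hk2 M.toNatK
    · exact f3 G S P h k m hk hm M.toSymK

end BT

/-! ### The ends, `|V| = 16` -/

section ends

/-- `F*(C_G(z))` of symplectic type. -/
def Sympl {G : Type u} [Group G] (z : G) : Prop :=
  orderOf z = 2 ∧ IsOfSymplecticType ↥(generalizedFittingSubgroup ↥(centralizer ({z} : Set G)))

/-- **(β), `q = 2`**: THEOREM D0 (#11921, `NOne/DZeroPts.lean`).  Owner: helper302 / helper406 (plug). -/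
def EndMinus2 : Prop :=
  ∀ (G : Type u) [Group G] [Finite G] (S : Sylow 2 G) (P : Subgroup G), Cfg S P →
    ∀ z : Fin 5 → G, Minus2 (S : Subgroup G) P z → Sympl (z 0)

/-- **(γ), `q = 2`**: THEOREM D0+ (#12107, #12381, #13123) and THEOREM D0ag (#13591).
Owner: helper313, helper319. -/
def EndPlus2 : Prop :=
  ∀ (G : Type u) [Group G] [Finite G] (S : Sylow 2 G) (P : Subgroup G), Cfg S P →
    ∀ z : Fin 3 → Fin 3 → G, Plus2 (S : Subgroup G) P z → Sympl (z 0 0)

/-- **(α)**: `V` natural for `SL₂(4)`, `|Z| = 2`: THEOREM D0ag (#13591; shadows `Aut M₂₂`, `M₂₂`, `M₂₃`).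
Owner: helper313. -/
def EndNat4 : Prop :=
  ∀ (G : Type u) [Group G] [Finite G] (S : Sylow 2 G) (P : Subgroup G), Cfg S P →
    Nat4 (S : Subgroup G) P → ∃ t : G, Sympl t

variable (K : Cls.{u})

/-- **(β), `q ≥ 4`**: THEOREM BETA (#12530; helper136, 652, 183), THEOREM U = SU (#13345, #13356; helper301,
177, 456), closing (#13360-: helper802, 301, 943, 870, 534).  Output `U_n(q)`. -/
def EndMinusQ : Prop :=
  ∀ (G : Type u) [Group G] [Finite G] (S : Sylow 2 G) (P : Subgroup G), Cfg S P → K G →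
    ∀ (F : Type) [Field F] [Finite F] [CharP F 2] (σ : F ≃+* F), σ ≠ RingEquiv.refl F →
      (∀ x, σ (σ x) = x) → 16 ≤ Nat.card F → MinusQ F σ P (zl (S : Subgroup G) P) → IsKnownSimple' G

/-- **(γ), `q ≥ 4`**: THEOREM BETA for `O₄⁺(q)` (#12530), END (the factors are interchanged: contradiction).
Owner: helper177 (text). -/
def EndPlusQ : Prop :=
  ∀ (G : Type u) [Group G] [Finite G] (S : Sylow 2 G) (P : Subgroup G), Cfg S P → K G →
    ∀ (F : Type) [Field F] [Finite F] [CharP F 2], 4 ≤ Nat.card F →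
      4 ≤ (EE (S : Subgroup G) P).relIndex (zl (S : Subgroup G) P) →
      PlusQ F P (zl (S : Subgroup G) P) → IsKnownSimple' G

end ends

/-! ### The leaf -/

/-- **N1 from (BT), the ends and `NodeSympl`.**  The ends for `q ≥ 4` may use (BT). -/
theorem nodeN1_of {K : Cls.{u}} (hS : FrameExtra.NodeSympl K) (hBT : BT.{u}) (h1 : EndMinus2.{u})
    (h2 : EndPlus2.{u}) (h4 : EndNat4.{u}) (h5 : BT.{u} → EndMinusQ K) (h6 : BT.{u} → EndPlusQ K) :
    FrameLE.NodeN1 K := by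
  intro G _ _ hG hK S hF P hP hV
  have h : Cfg S P := Cfg.of hG hF hP hV
  rcases hBT G S P h with ⟨z, hz⟩ | ⟨z, hz⟩ | hn | ⟨F, σ, ha, hb, hc, ⟨M⟩⟩ | ⟨F, hc, hE, ⟨M⟩⟩
  · obtain ⟨ho, hq⟩ := h1 G S P h z hz
    exact hS G hG hK (z 0) ho hq
  · obtain ⟨ho, hq⟩ := h2 G S P h z hz
    exact hS G hG hK (z 0 0) ho hq
  · obtain ⟨t, ho, hq⟩ := h4 G S P h hn
    exact hS G hG hK t ho hq
  · exact h5 hBT G S P h hK F σ ha hb hc M
  · exact h6 hBT G S P h hK F hc hE M

end Cfsg.Agent.Omega.NO1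

end

section


/-!
# LEMMA J of TEXT B4 (#15506; referees #15684, #15714, #15760), generic form

`V = ⟨Z^M⟩`, `Z = Ω₁(Z(S))`.

`Inv S P M` : `S, P ≤ M`, `V` elementary abelian, `N_G(T) ≤ M` for all `C_S(V) ≤ T ≤ S`.

* `inv_zero` : `Inv S P N_G(J(S))` if `V_P` has no offender;
* `Inv.step` : a new pair with a smaller `V`, from an `M`-invariant family of subgroups whose members in `S` lie
  in `O₂(P)`;
* `exists_min` : there is a pair with minimal `V`: every `M`-invariant family with a member in `S` which does not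
  centralise `V` has a member in `S` which is not in `O₂(P)`;
* `Inv.o2_le` : `O₂(C_G(D)) ≤ M` for `D ≤ V`.
-/

set_option autoImplicit false
set_option linter.unusedSectionVars false

namespace Cfsg.Agent.Omega.NO1.JMin

open Subgroup Cfsg Cfsg.Agent.ZN Cfsg.Agent.ZN.ChoiceBase Cfsg.Agent.Omega.MinPar Cfsg.Agent.Omega.Frame
open Cfsg.Agent.Omega.NO1
open Cfsg.Agent.ZN.ChoiceSit (Syl syl_conj exists_syl o2_le_syl)
open Cfsg.Agent.Omega.FFThm (OffM)
open Cfsg.Agent.PLocal.ThompsonJ (isElementaryAbelian_iff)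

universe u

variable {G : Type u} [Group G] [Finite G]

/-- The invariant of the recursion. -/
structure Inv (S P M : Subgroup G) : Prop where
  SM : S ≤ M
  PM : P ≤ M
  el : IsElementaryAbelian 2 (zl S M)
  J : ∀ T : Subgroup G, S ⊓ centralizer (zl S M : Set G) ≤ T → T ≤ S → normalizer (T : Set G) ≤ M

theorem zl_mono {S L M : Subgroup G} (h : L ≤ M) : zl S L ≤ zl S M :=
  MinSimple.VModule.zl_le (MinSimple.VModule.zc_le_zl S M) (h.trans (MinSimple.VModule.le_normalizer_zl S M))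

theorem cj_le_of {S : Subgroup G} {m : G} (hm : m ∈ normalizer (S : Set G)) : cj m S ≤ S :=
  (cj_eq_of_mem_normalizer hm).le

section step

variable {S P M : Subgroup G}

/-- The subgroup of the family `SS`: `⟨C_S(V), X ∈ SS, X ≤ S⟩`. -/
def KK (S M : Subgroup G) (SS : Set (Subgroup G)) : Subgroup G :=
  (S ⊓ centralizer (zl S M : Set G)) ⊔ sSup {X | X ∈ SS ∧ X ≤ S}

theorem KK_le (S M : Subgroup G) (SS : Set (Subgroup G)) : KK S M SS ≤ S :=
  sup_le inf_le_left (sSup_le fun _ h => h.2)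

theorem le_KK {S M : Subgroup G} {SS : Set (Subgroup G)} {X : Subgroup G} (h : X ∈ SS) (hX : X ≤ S) :
    X ≤ KK S M SS := (le_sSup (show X ∈ {X | X ∈ SS ∧ X ≤ S} from ⟨h, hX⟩)).trans le_sup_right

/-- An element of `M` which normalises a subgroup `T` between `KK` and `S` normalises `KK`. -/
theorem mem_normalizer_KK {SS : Set (Subgroup G)}
    (hSS : ∀ m ∈ M, ∀ X ∈ SS, cj m X ∈ SS) {T : Subgroup G} (hKT : KK S M SS ≤ T) (hTS : T ≤ S) {m : G}
    (hm : m ∈ M) (hmT : m ∈ normalizer (T : Set G)) : m ∈ normalizer (KK S M SS : Set G) := by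
  have hT := cj_eq_of_mem_normalizer hmT
  refine mem_normalizer_of_cj_le ?_
  rw [KK, cj, Subgroup.map_sup]
  refine sup_le ?_ ?_
  · refine le_trans ?_ (le_sup_left : S ⊓ centralizer (zl S M : Set G) ≤ KK S M SS)
    refine le_inf ?_ ?_
    · refine (cj_mono m ((le_sup_left : S ⊓ centralizer (zl S M : Set G) ≤ KK S M SS).trans hKT)).trans ?_
      exact hT.le.trans hTS
    · refine (cj_mono m inf_le_right).trans ?_
      rw [cj_centralizer, cj_eq_of_mem_normalizer (MinSimple.VModule.le_normalizer_zl S M hm)]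
  · rw [Subgroup.map_le_iff_le_comap]
    refine sSup_le fun X hX => ?_
    rw [← Subgroup.map_le_iff_le_comap]
    refine le_KK (hSS m hm X hX.1) ?_
    exact ((cj_mono m ((le_KK hX.1 hX.2).trans hKT)).trans hT.le).trans hTS

/-- `P` normalises `KK ≤ O₂(P)`. -/
theorem KK_le_o2 (hCS : S ⊓ centralizer (zl S P : Set G) ≤ o2 P) (h : Inv S P M) {SS : Set (Subgroup G)}
    (hle : ∀ X ∈ SS, X ≤ S → X ≤ o2 P) : KK S M SS ≤ o2 P := by
  refine sup_le ?_ (sSup_le fun X hX => hle X hX.1 hX.2)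
  exact (inf_le_inf_left S (centralizer_le (zl_mono h.PM))).trans hCS

/-- `KK` centralises the new `V`. -/
theorem KK_le_centralizer (SS : Set (Subgroup G)) :
    KK S M SS ≤ centralizer (zl S (M ⊓ normalizer (KK S M SS : Set G)) : Set G) := by
  rw [Subgroup.le_centralizer_iff]
  refine MinSimple.VModule.zl_le ?_ ?_
  · rw [Subgroup.le_centralizer_iff]
    exact (KK_le S M SS).trans (MinSimple.VModule.le_centralizer_zc S)
  · refine inf_le_right.trans ?_
    intro g hg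
    rw [mem_normalizer_iff_cj, cj_centralizer, cj_eq_of_mem_normalizer hg]

/-- **The step.** -/
theorem Inv.step (h : Inv S P M) (hS2 : o2 P ≤ S)
    (hCS : S ⊓ centralizer (zl S P : Set G) ≤ o2 P) {SS : Set (Subgroup G)}
    (hSS : ∀ m ∈ M, ∀ X ∈ SS, cj m X ∈ SS) (hle : ∀ X ∈ SS, X ≤ S → X ≤ o2 P) :
    Inv S P (M ⊓ normalizer (KK S M SS : Set G)) where
  SM := fun s hs => ⟨h.SM hs, mem_normalizer_KK hSS (KK_le S M SS) le_rfl (h.SM hs) (le_normalizer hs)⟩
  PM := fun p hp => ⟨h.PM hp, mem_normalizer_KK hSS (KK_le_o2 hCS h hle) hS2 (h.PM hp)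
    (MinSimple.VModule.le_normalizer_o2 P hp)⟩
  el := by
    have h1 : zl S (M ⊓ normalizer (KK S M SS : Set G)) ≤ zl S M := zl_mono inf_le_left
    have h2 := isElementaryAbelian_iff.1 h.el
    exact isElementaryAbelian_iff.2 ⟨fun a ha b hb => h2.1 a (h1 ha) b (h1 hb), fun a ha => h2.2 a (h1 ha)⟩
  J := by
    intro T hT hTS t ht
    have h1 : KK S M SS ≤ T := (le_inf (KK_le S M SS) (KK_le_centralizer SS)).trans hT
    have h2 : t ∈ M := h.J T (le_sup_left.trans h1) hTS ht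
    exact ⟨h2, mem_normalizer_KK hSS h1 hTS h2 ht⟩

end step

section zero

variable {S : Sylow 2 G} {P : Subgroup G}

theorem V_el (hG : IsCharacteristicTwoType G) (hP : IsParS (S : Subgroup G) P) :
    IsElementaryAbelian 2 (zl (S : Subgroup G) P) := by
  have h1 := hP.isLoc.zl_le S hG
  refine isElementaryAbelian_iff.2 ⟨fun a ha b hb => ?_, fun a ha => MinSimple.VModule.zc_sq _ _ (h1 ha)⟩
  exact MinSimple.VModule.zc_comm _ _ (h1 ha) _ (h1 hb)

theorem jj_le_o2 (hG : IsCharacteristicTwoType G) (hP : IsParS (S : Subgroup G) P)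
    (hoff : NoOff (S : Subgroup G) P) : jj (S : Subgroup G) ≤ o2 P := by
  rw [jj_eq, ← hP.inf_centralizer S hG]
  refine sSup_le fun A hA => le_inf hA.2.1 ?_
  by_contra hne
  have hVS : zl (S : Subgroup G) P ≤ S :=
    ((hP.isLoc.zl_le S hG).trans (MinSimple.VModule.zc_le _)).trans (hP.isLoc.o2_le S)
  exact hoff A (hA.2.1.trans hP.isLoc.le) (FFThm.off_of_AA (V_el hG hP) hVS hA hne).offM

/-- The start `M = N_G(J(S))`. -/
theorem inv_zero (hG : IsCharacteristicTwoType G) (hP : IsParS (S : Subgroup G) P)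
    (hoff : NoOff (S : Subgroup G) P) :
    Inv (S : Subgroup G) P (normalizer (jj (S : Subgroup G) : Set G)) := by
  have hV : zl (S : Subgroup G) (normalizer (jj (S : Subgroup G) : Set G)) ≤ zj (S : Subgroup G) := by
    refine MinSimple.VModule.zl_le (ChoiceBase.zc_le_zj _) ?_
    intro g hg
    have h1 := cj_eq_of_mem_normalizer hg
    rw [mem_normalizer_iff_cj, ← zj_cj]
    refine zj_congr ?_
    rw [jj_cj, h1]
  refine ⟨le_normalizer.trans (normalizer_le_jj _), ?_, ?_, ?_⟩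
  · have h1 : jj (o2 P) = jj (S : Subgroup G) := jj_eq_of_jj_le (jj_le_o2 hG hP hoff) (hP.isLoc.o2_le S)
    rw [← h1]
    exact (MinSimple.VModule.le_normalizer_o2 P).trans (normalizer_le_jj _)
  · refine isElementaryAbelian_iff.2 ⟨fun a ha b hb => ?_, fun a ha => (ChoiceBase.mem_zj.1 (hV ha)).2.1⟩
    exact (ChoiceBase.mem_zj.1 (hV hb)).2.2 a (ChoiceBase.mem_zj.1 (hV ha)).1
  · intro T hT hTS
    have h1 : jj (S : Subgroup G) ≤ T := by
      refine le_trans (le_inf (ChoiceBase.jj_le _) ?_) hT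
      rw [Subgroup.le_centralizer_iff]
      refine hV.trans fun x hx => mem_centralizer_iff.2 fun y hy => (ChoiceBase.mem_zj.1 hx).2.2 y hy
    rw [← jj_eq_of_jj_le h1 hTS]
    exact normalizer_le_jj T

/-- **LEMMA J**, generic form. -/
theorem exists_min' (hG : IsCharacteristicTwoType G) (hP : IsParS (S : Subgroup G) P)
    (hoff : NoOff (S : Subgroup G) P) :
    ∃ M : Subgroup G, Inv (S : Subgroup G) P M ∧
      ∀ SS : Set (Subgroup G), (∀ m ∈ M, ∀ X ∈ SS, cj m X ∈ SS) →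
        (∃ X ∈ SS, X ≤ S ∧ ¬ X ≤ centralizer (zl (S : Subgroup G) M : Set G)) →
        ∃ X ∈ SS, X ≤ S ∧ ¬ X ≤ o2 P := by
  obtain ⟨M, hM, hmin⟩ := Set.exists_min_image {M : Subgroup G | Inv (S : Subgroup G) P M}
    (fun M => Nat.card (zl (S : Subgroup G) M)) (Set.toFinite _) ⟨_, inv_zero hG hP hoff⟩
  refine ⟨M, hM, fun SS hSS hex => ?_⟩
  by_contra hcon
  push Not at hcon
  obtain ⟨X, hX, hXS, hXC⟩ := hex
  have h1 := Inv.step hM (hP.isLoc.o2_le S) (hP.inf_centralizer S hG).le hSS hcon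
  have h2 := hmin _ h1
  have h3 : zl (S : Subgroup G) (M ⊓ normalizer (KK (S : Subgroup G) M SS : Set G)) = zl (S : Subgroup G) M :=
    Subgroup.eq_of_le_of_card_ge (zl_mono inf_le_left) h2
  apply hXC
  rw [← h3]
  exact (le_KK hX hXS).trans (KK_le_centralizer SS)

/-- **LEMMA J**, generic form, for N1. -/
theorem exists_min (h : Cfg S P) (hoff : NoOff (S : Subgroup G) P) :
    ∃ M : Subgroup G, Inv (S : Subgroup G) P M ∧
      ∀ SS : Set (Subgroup G), (∀ m ∈ M, ∀ X ∈ SS, cj m X ∈ SS) →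
        (∃ X ∈ SS, X ≤ S ∧ ¬ X ≤ centralizer (zl (S : Subgroup G) M : Set G)) →
        ∃ X ∈ SS, X ≤ S ∧ ¬ X ≤ o2 P :=
  exists_min' h.ctx.char2 h.one.star hoff

end zero

section o2

variable {S : Sylow 2 G} {P M : Subgroup G}

theorem syl_cj {T X : Subgroup G} (h : Syl T X) (g : G) : Syl (cj g T) (cj g X) := by
  refine ⟨cj_mono g h.1, isPGroup_cj g h.2.1, fun Q hQ hQ2 hle => ?_⟩
  have h1 := h.2.2 (cj g⁻¹ Q) (by rw [cj_le_iff, inv_inv]; exact hQ) (isPGroup_cj _ hQ2)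
    (by rw [← cj_le_iff]; exact hle)
  rw [← h1, cj_cj_inv]

/-- In the case `T = C_S(D)`. -/
theorem Inv.syl_base (h : Inv (S : Subgroup G) P M) {D : Subgroup G} (hD : D ≤ zl (S : Subgroup G) M)
    (hT : Syl ((S : Subgroup G) ⊓ centralizer (D : Set G)) (M ⊓ centralizer (D : Set G))) :
    Syl ((S : Subgroup G) ⊓ centralizer (D : Set G)) (centralizer (D : Set G)) := by
  refine ⟨inf_le_right, hT.2.1, fun Q hQ hQ2 hle => ?_⟩
  have hN : normalizer (((S : Subgroup G) ⊓ centralizer (D : Set G) : Subgroup G) : Set G) ≤ M :=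
    h.J _ (inf_le_inf_left _ (centralizer_le hD)) inf_le_left
  refine (ZN.ChoiceNse.eq_of_normalizer_inf_le hQ2 hle ?_).symm
  exact (hT.2.2 _ (le_inf (inf_le_left.trans hN) (inf_le_right.trans hQ)) (hQ2.to_le inf_le_right)
    (le_inf le_normalizer hle)).le

/-- A Sylow 2-subgroup `T` of `C_M(D)`, `D ≤ V`, has an `M`-conjugate `C_S(D^m)`. -/
theorem Inv.exists_conj (h : Inv (S : Subgroup G) P M) {D T : Subgroup G}
    (hT : Syl T (M ⊓ centralizer (D : Set G))) : ∃ m ∈ M,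
      cj m T = (S : Subgroup G) ⊓ centralizer (cj m D : Set G) ∧
        Syl ((S : Subgroup G) ⊓ centralizer (cj m D : Set G)) (M ⊓ centralizer (cj m D : Set G)) := by
  have hS : Syl (S : Subgroup G) M := ⟨h.SM, S.isPGroup', fun Q _ hQ hSQ => S.is_maximal' hQ hSQ⟩
  obtain ⟨R, hR, hTR⟩ := exists_syl hT.2.1 (hT.1.trans inf_le_left)
  obtain ⟨m, hm, hm'⟩ := syl_conj hR hS
  have hM : cj m M = M := cj_eq_of_mem_normalizer (le_normalizer hm)
  have h1 : Syl (cj m T) (M ⊓ centralizer (cj m D : Set G)) := by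
    have := syl_cj hT m
    rwa [cj_inf, hM, cj_centralizer] at this
  have h2 : cj m T = (S : Subgroup G) ⊓ centralizer (cj m D : Set G) := by
    refine (h1.2.2 _ (inf_le_inf_right _ h.SM) (S.isPGroup'.to_le inf_le_left) ?_).symm
    refine le_inf ?_ (h1.1.trans inf_le_right)
    rw [← hm']
    exact cj_mono m hTR
  exact ⟨m, hm, h2, h2 ▸ h1⟩

/-- `N_G(T) ≤ M` for a Sylow 2-subgroup `T` of `C_M(D)`, `D ≤ V`. -/
theorem Inv.normalizer_le (h : Inv (S : Subgroup G) P M) {D T : Subgroup G} (hD : D ≤ zl (S : Subgroup G) M)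
    (hT : Syl T (M ⊓ centralizer (D : Set G))) : normalizer (T : Set G) ≤ M := by
  obtain ⟨m, hm, h1, -⟩ := h.exists_conj hT
  have hV := cj_eq_of_mem_normalizer (MinSimple.VModule.le_normalizer_zl (S : Subgroup G) M hm)
  have h2 : normalizer (cj m T : Set G) ≤ M := by
    rw [h1]
    refine h.J _ (inf_le_inf_left _ (centralizer_le ?_)) inf_le_left
    exact (cj_mono m hD).trans hV.le
  rw [← cj_normalizer] at h2
  have h3 := cj_le_iff.1 h2
  rwa [cj_eq_of_mem_normalizer (le_normalizer (inv_mem hm))] at h3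

/-- **(i)**: a Sylow 2-subgroup of `C_M(D)` is Sylow in `C_G(D)`. -/
theorem Inv.syl (h : Inv (S : Subgroup G) P M) {D T : Subgroup G} (hD : D ≤ zl (S : Subgroup G) M)
    (hT : Syl T (M ⊓ centralizer (D : Set G))) : Syl T (centralizer (D : Set G)) := by
  refine ⟨hT.1.trans inf_le_right, hT.2.1, fun Q hQ hQ2 hle => ?_⟩
  refine (ZN.ChoiceNse.eq_of_normalizer_inf_le hQ2 hle ?_).symm
  exact (hT.2.2 _ (le_inf (inf_le_left.trans (h.normalizer_le hD hT)) (inf_le_right.trans hQ))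
    (hQ2.to_le inf_le_right) (le_inf le_normalizer hle)).le

theorem exists_syl_of (X : Subgroup G) : ∃ T, Syl T X := by
  obtain ⟨T, hT, -⟩ := exists_syl (T := (⊥ : Subgroup G)) (X := X) IsPGroup.of_bot bot_le
  exact ⟨T, hT⟩

/-- **(i)**: `O₂(C_G(D)) ≤ M`. -/
theorem Inv.o2_le (h : Inv (S : Subgroup G) P M) {D : Subgroup G} (hD : D ≤ zl (S : Subgroup G) M) :
    o2 (centralizer (D : Set G)) ≤ M := by
  obtain ⟨T, hT⟩ := exists_syl_of (M ⊓ centralizer (D : Set G))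
  exact (o2_le_syl (h.syl hD hT)).trans (hT.1.trans inf_le_left)

end o2

end Cfsg.Agent.Omega.NO1.JMin

end

section


/-!
# THEOREM WRF (bb OMEGA #16078), step (4): `W` acts on one block only

`Sit S P V` : `V ≤ S` is abelian, normalised by `P`, centralised by `O₂(P)` and generated by the `P`-conjugates of
`V ∩ Z`, `Z = Ω₁(Z(S))` (`V = V_P` in `NO1.Cfg`: `Cfg.sit`; or `V = [V_P, O²(P)]`).

`Pair S P V A B So` : `V = A × B`, `So` of index 2 in `S` normalises `A` and `B`, the elements of `S - So` swap them,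
`B` is generated by the projection of `V ∩ Z` under `C_P(A)`.  If `A` and `V ∩ Z` lie in `FF`, which commutes with
`V`, then `V ≤ O₂(C_G(FF))`.
-/

set_option autoImplicit false
set_option linter.unusedSectionVars false

namespace Cfsg.Agent.Omega.NO1.WRF.Single

open Subgroup Cfsg Cfsg.Agent.ZN Cfsg.Agent.ZN.ChoiceBase Cfsg.Agent.Omega.MinPar Cfsg.Agent.Omega.Frame
open Cfsg.Agent.Omega.NO1

universe u

variable {G : Type u} [Group G] [Finite G]

/-! ### General lemmas -/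

theorem mem_of_index_two {H K : Subgroup G} (h2 : H.relIndex K = 2) {x y : G} (hx : x ∈ K)
    (hy : y ∈ K) (hx' : x ∉ H) (hy' : y ∉ H) : x⁻¹ * y ∈ H := by
  have h : (H.subgroupOf K).index = 2 := h2
  have h1 := mul_mem_iff_of_index_two h (a := (⟨x, hx⟩ : K)⁻¹) (b := ⟨y, hy⟩)
  rw [inv_mem_iff] at h1
  have h3 := h1.mpr (iff_of_false (fun h => hx' (mem_subgroupOf.mp h)) (fun h => hy' (mem_subgroupOf.mp h)))
  exact mem_subgroupOf.mp h3

/-- `S ∩ N` is Sylow in the normal subgroup `N` of `P ≥ S`. -/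
theorem le_of_normal (S : Sylow 2 G) {P N Q : Subgroup G} (hSP : (S : Subgroup G) ≤ P) (hNP : N ≤ P)
    (hN : P ≤ normalizer (N : Set G)) (hQ : IsPGroup 2 Q) (hQN : Q ≤ N)
    (hle : (S : Subgroup G) ⊓ N ≤ Q) : Q ≤ (S : Subgroup G) := by
  have hS : ChoiceSit.Syl (S : Subgroup G) P := ⟨hSP, S.isPGroup', fun R _ hR hSR => S.is_maximal' hR hSR⟩
  obtain ⟨R, hR, hQR⟩ := ChoiceSit.exists_syl hQ (hQN.trans hNP)
  obtain ⟨p, hp, hpR⟩ := ChoiceSit.syl_conj hR hS
  have h1 : cj p Q ≤ (S : Subgroup G) ⊓ N := by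
    refine le_inf ?_ ?_
    · rw [← hpR]; exact cj_mono p hQR
    · have h2 := cj_eq_of_mem_normalizer (hN hp)
      rw [← h2]; exact cj_mono p hQN
  have h3 : Nat.card Q ≤ Nat.card ((S : Subgroup G) ⊓ N : Subgroup G) := by
    rw [← card_cj p Q]
    exact Subgroup.card_le_of_le h1
  have h4 := Subgroup.eq_of_le_of_card_ge hle h3
  rw [← h4]
  exact inf_le_left

/-- A subgroup of index 2 in a Sylow group has index at most 2 in every 2-group over it. -/
theorem mem_of_twoGroup (S : Sylow 2 G) {So Q : Subgroup G} (hSo : So ≤ (S : Subgroup G))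
    (h2 : So.relIndex (S : Subgroup G) = 2) (hQ : IsPGroup 2 Q) (hle : So ≤ Q) {x y : G} (hx : x ∈ Q) (hy : y ∈ Q)
    (hx' : x ∉ So) (hy' : y ∉ So) : x⁻¹ * y ∈ So := by
  obtain ⟨T, hT⟩ := hQ.exists_le_sylow
  obtain ⟨g, hg⟩ := MulAction.exists_smul_eq G T S
  have hg' : cj g (T : Subgroup G) = (S : Subgroup G) := by
    rw [← hg, Sylow.coe_subgroup_smul]
    rfl
  have hle' : cj g So ≤ (S : Subgroup G) := by
    rw [← hg']; exact cj_mono g (hle.trans hT)
  have h3 : (cj g So).relIndex (S : Subgroup G) = 2 := by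
    have h4 : Nat.card So * So.relIndex (S : Subgroup G) = Nat.card (S : Subgroup G) := by
      rw [Subgroup.relIndex, ← Nat.card_congr (Subgroup.subgroupOfEquivOfLe hSo).toEquiv]
      exact Subgroup.card_mul_index _
    have h5 : Nat.card (cj g So) * (cj g So).relIndex (S : Subgroup G) = Nat.card (S : Subgroup G) := by
      rw [Subgroup.relIndex, ← Nat.card_congr (Subgroup.subgroupOfEquivOfLe hle').toEquiv]
      exact Subgroup.card_mul_index _
    rw [card_cj, ← h4, h2] at h5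
    exact Nat.eq_of_mul_eq_mul_left Nat.card_pos h5
  have hS : ∀ w ∈ Q, g * w * g⁻¹ ∈ (S : Subgroup G) := by
    intro w hw
    rw [← hg']
    exact ⟨w, hT hw, rfl⟩
  have hn : ∀ w, w ∉ So → g * w * g⁻¹ ∉ cj g So := by
    intro w hw h
    rw [mem_cj] at h
    apply hw
    have e : g⁻¹ * (g * w * g⁻¹) * g = w := by group
    rwa [e] at h
  have h6 := mem_of_index_two h3 (hS x hx) (hS y hy) (hn x hx') (hn y hy')
  rw [mem_cj] at h6
  have e : g⁻¹ * ((g * x * g⁻¹)⁻¹ * (g * y * g⁻¹)) * g = x⁻¹ * y := by group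
  rwa [e] at h6

/-- `O₂(Y) ∩ C ≤ O₂(C)` for `C ≤ Y`. -/
theorem inf_o2_le {Y C B : Subgroup G} (hC : C ≤ Y) (h1 : B ≤ o2 Y) (h2 : B ≤ C) : B ≤ o2 C := by
  refine le_trans (le_inf h1 h2) ?_
  refine le_o2 inf_le_right ((isPGroup_o2 Y).to_le inf_le_left) ?_
  intro c hc
  refine mem_normalizer_of_cj_le ?_
  rw [cj_inf, cj_eq_of_mem_normalizer (le_normalizer_o2 Y (hC hc)), cj_eq_of_mem_normalizer (le_normalizer hc)]

/-! ### The configuration -/

/-- `V ≤ S` is abelian, normalised by `P`, centralised by `O₂(P)` and generated by the `P`-conjugates of `V ∩ Z`. -/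
structure Sit (S : Sylow 2 G) (P V : Subgroup G) : Prop where
  char2 : IsCharacteristicTwoType G
  par : IsPar (S : Subgroup G) P
  le : V ≤ (S : Subgroup G)
  comm : V ≤ centralizer (V : Set G)
  norm : P ≤ normalizer (V : Set G)
  o2_le : o2 P ≤ centralizer (V : Set G)
  gen : ∀ X : Subgroup G, (∀ p ∈ P, ∀ z ∈ V, z ∈ zc (S : Subgroup G) → p * z * p⁻¹ ∈ X) → V ≤ X

theorem _root_.Cfsg.Agent.Omega.NO1.Cfg.sit {S : Sylow 2 G} {P : Subgroup G} (h : Cfg S P) :
    Sit S P (zl (S : Subgroup G) P) where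
  char2 := h.ctx.char2
  par := h.par
  le := h.V_le_S
  comm := h.V_comm
  norm := Cfg.P_norm_V S P
  o2_le := by rw [← h.S_inf_centralizer]; exact inf_le_right
  gen := fun X hX => iSup_le fun g => by
    rintro _ ⟨x, hx, rfl⟩
    exact hX g g.2 x (h.Z_le_V hx) hx

/-- `V = A × B`, `So` of index 2 in `S` normalises `A` and `B`, the elements of `S - So` swap them, and `B` is
generated by the projection of `V ∩ Z` under `C_P(A)`. -/
structure Pair (S : Sylow 2 G) (P V A B So : Subgroup G) : Prop where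
  sup : A ⊔ B = V
  inf : A ⊓ B = ⊥
  So_le : So ≤ (S : Subgroup G)
  index : So.relIndex (S : Subgroup G) = 2
  So_A : So ≤ normalizer (A : Set G)
  So_B : So ≤ normalizer (B : Set G)
  swap : ∃ s ∈ (S : Subgroup G), cj s A = B ∧ cj s B = A
  normal : P ≤ normalizer ((P ⊓ normalizer (A : Set G) : Subgroup G) : Set G)
  syl : (S : Subgroup G) ⊓ normalizer (A : Set G) ≤ So
  DB : P ⊓ centralizer (A : Set G) ≤ normalizer (B : Set G)
  gen : ∀ X : Subgroup G, X ≤ B → P ⊓ centralizer (A : Set G) ≤ normalizer (X : Set G) →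
    (∀ a ∈ A, ∀ b ∈ B, a * b ∈ zc (S : Subgroup G) → b ∈ X) → B ≤ X

namespace Pair

variable {S : Sylow 2 G} {P V A B So : Subgroup G} (H : Pair S P V A B So)
include H

theorem A_le : A ≤ V := H.sup ▸ le_sup_left
theorem B_le : B ≤ V := H.sup ▸ le_sup_right

/-- the components are unique -/
theorem uniq {a a' b b' : G} (ha : a ∈ A) (ha' : a' ∈ A) (hb : b ∈ B) (hb' : b' ∈ B)
    (h : a * b = a' * b') : a = a' ∧ b = b' := by
  have h1 : a'⁻¹ * a = b' * b⁻¹ := by
    have : a'⁻¹ * (a * b) * b⁻¹ = a'⁻¹ * (a' * b') * b⁻¹ := by rw [h]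
    calc a'⁻¹ * a = a'⁻¹ * (a * b) * b⁻¹ := by group
      _ = a'⁻¹ * (a' * b') * b⁻¹ := this
      _ = b' * b⁻¹ := by group
  have h2 : a'⁻¹ * a ∈ A ⊓ B := ⟨A.mul_mem (A.inv_mem ha') ha, by rw [h1]; exact B.mul_mem hb' (B.inv_mem hb)⟩
  rw [H.inf, mem_bot] at h2
  have h3 : a = a' := (inv_mul_eq_one.mp h2).symm
  refine ⟨h3, ?_⟩
  rw [h3] at h
  exact mul_left_cancel h

/-- `So` centralises the components of the elements of `Z` -/
theorem So_comm {a b s : G} (ha : a ∈ A) (hb : b ∈ B) (hz : a * b ∈ zc (S : Subgroup G)) (hs : s ∈ So) :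
    s * a * s⁻¹ = a ∧ s * b * s⁻¹ = b := by
  have h1 := (ChoiceBase.mem_zc.1 hz).2.2 s (H.So_le hs)
  have h2 : s * a * s⁻¹ ∈ A := (mem_normalizer_iff.mp (H.So_A hs) a).mp ha
  have h3 : s * b * s⁻¹ ∈ B := (mem_normalizer_iff.mp (H.So_B hs) b).mp hb
  refine H.uniq h2 ha h3 hb ?_
  calc s * a * s⁻¹ * (s * b * s⁻¹) = s * (a * b) * s⁻¹ := by group
    _ = a * b * s * s⁻¹ := by rw [h1]
    _ = a * b := by group

end Pair

/-- **(4b)** -/
theorem single {S : Sylow 2 G} {P V A B So FF : Subgroup G} (h : Sit S P V) (hV1 : V ≠ ⊥) (H : Pair S P V A B So)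
    (hFV : V ≤ centralizer (FF : Set G)) (hFc : FF ≤ centralizer (FF : Set G))
    (hF2 : IsPGroup 2 FF) (hAF : A ≤ FF) (hZF : V ⊓ zc (S : Subgroup G) ≤ FF) :
    V ≤ o2 (centralizer (FF : Set G)) := by
  have hAo : A ≤ o2 (centralizer (FF : Set G)) :=
    hAF.trans (le_o2 hFc hF2 (centralizer_le_normalizer _))
  rw [← H.sup]
  refine sup_le hAo ?_
  -- the element `a`
  obtain ⟨a, ha, b, hb, hz, ha1⟩ : ∃ a ∈ A, ∃ b ∈ B, a * b ∈ zc (S : Subgroup G) ∧ a ≠ 1 := by
    obtain ⟨z, hzV', hz, hz1⟩ : ∃ z ∈ V, z ∈ zc (S : Subgroup G) ∧ z ≠ 1 := by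
      by_contra hcon
      push Not at hcon
      refine hV1 (le_bot_iff.mp (h.gen ⊥ fun p _ z hz hz' => ?_))
      rw [mem_bot, hcon z hz hz']
      group
    have hzV : z ∈ ((A ⊔ B : Subgroup G) : Set G) := by
      rw [H.sup]; exact hzV'
    have hAB : A ≤ normalizer (B : Set G) := by
      refine le_trans ?_ (centralizer_le_normalizer _)
      exact H.A_le.trans (h.comm.trans (centralizer_le H.B_le))
    rw [coe_mul_of_left_le_normalizer_right _ _ hAB] at hzV
    obtain ⟨a, ha, b, hb, rfl⟩ := hzV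
    refine ⟨a, ha, b, hb, hz, ?_⟩
    rintro rfl
    apply hz1
    obtain ⟨s, hs, hsA, hsB⟩ := H.swap
    change (1 : G) * b ∈ _ at hz
    change (1 : G) * b = 1
    rw [one_mul] at hz ⊢
    have h1 := (ChoiceBase.mem_zc.1 hz).2.2 s hs
    have h2 : b ∈ A ⊓ B := by
      refine ⟨?_, hb⟩
      have h3 : s * b * s⁻¹ ∈ cj s B := ⟨b, hb, rfl⟩
      rw [hsB, h1] at h3
      have e : b * s * s⁻¹ = b := by group
      rwa [e] at h3
    rw [H.inf, mem_bot] at h2
    exact h2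
  have haV := H.A_le ha
  have hVc : ∀ v ∈ V, ∀ w ∈ V, v * w = w * v := fun v hv w hw =>
    mem_centralizer_iff.1 (h.comm hw) v hv
  -- `H₁ = C_G(a)`
  set H1 : Subgroup G := centralizer (zpowers a : Set G) with hH1
  have hmemH1 : ∀ g, g ∈ H1 ↔ g * a = a * g := by
    intro g
    rw [hH1, mem_centralizer_iff]
    constructor
    · intro hg
      exact (hg a (mem_zpowers a)).symm
    · intro hg y hy
      obtain ⟨k, rfl⟩ := mem_zpowers_iff.mp hy
      exact (Commute.zpow_right (show Commute g a from hg) k).symm.eq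
  have ha2 : IsPGroup 2 (zpowers a) := S.isPGroup'.to_le (zpowers_le.mpr (h.le haV))
  have hch : H1 ⊓ centralizer (o2 H1 : Set G) ≤ o2 H1 :=
    NOne.LemmaT.char2_centralizer h.char2 ha2 (by rw [Ne, zpowers_eq_bot]; exact ha1)
  have hVH1 : V ≤ H1 := fun v hv => (hmemH1 v).mpr (hVc v hv a haV)
  have hSoH1 : So ≤ H1 := by
    intro s hs
    rw [hmemH1]
    have h1 := (H.So_comm ha hb hz hs).1
    calc s * a = s * a * s⁻¹ * s := by group
      _ = a * s := by rw [h1]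
  have hDH1 : P ⊓ centralizer (A : Set G) ≤ H1 := by
    intro d hd
    rw [hmemH1]
    exact (mem_centralizer_iff.mp hd.2 a ha).symm
  have hFH1 : centralizer (FF : Set G) ≤ H1 := by
    intro g hg
    rw [hmemH1]
    exact (mem_centralizer_iff.mp hg a (hAF ha)).symm
  have hBF : B ≤ centralizer (FF : Set G) := H.B_le.trans hFV
  -- `R = O₂(H₁)`
  set R : Subgroup G := o2 H1 with hR
  have hR2 : IsPGroup 2 R := isPGroup_o2 H1
  have hRn : H1 ≤ normalizer (R : Set G) := le_normalizer_o2 H1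
  have hRH : R ≤ H1 := o2_le H1
  -- `R ∩ ⟨So, D⟩ = R ∩ So`
  set M1 : Subgroup G := So ⊔ (P ⊓ centralizer (A : Set G)) with hM1
  have hM1H : M1 ≤ H1 := sup_le hSoH1 hDH1
  have hN1 : M1 ≤ P ⊓ normalizer (A : Set G) := by
    refine sup_le (le_inf (H.So_le.trans h.par.le) H.So_A) ?_
    exact inf_le_inf_left P (centralizer_le_normalizer _)
  have hRM : R ⊓ M1 ≤ So := by
    have h1 : IsPGroup 2 (So ⊔ (R ⊓ M1) : Subgroup G) := by
      refine IsPGroup.to_sup_of_normal_right' (S.isPGroup'.to_le H.So_le) (hR2.to_le inf_le_left) ?_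
      intro s hs
      refine mem_normalizer_of_cj_le ?_
      rw [cj_inf, cj_eq_of_mem_normalizer (hRn (hSoH1 hs)),
        cj_eq_of_mem_normalizer (le_normalizer ((le_sup_left : So ≤ M1) hs))]
    have h2 : (So ⊔ (R ⊓ M1) : Subgroup G) ≤ P ⊓ normalizer (A : Set G) :=
      sup_le (le_sup_left.trans hN1) (inf_le_right.trans hN1)
    have h3 : (S : Subgroup G) ⊓ (P ⊓ normalizer (A : Set G)) ≤ So := by
      refine le_trans ?_ H.syl
      exact inf_le_inf_left _ inf_le_right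
    have h4 := le_of_normal S h.par.le inf_le_left H.normal h1 h2 (h3.trans le_sup_left)
    exact (le_inf ((le_sup_right : R ⊓ M1 ≤ So ⊔ (R ⊓ M1)).trans h4) (le_sup_right.trans (h2.trans inf_le_right))).trans H.syl
  have hRo : R ⊓ M1 = R ⊓ So := le_antisymm (le_inf inf_le_left hRM) (inf_le_inf_left _ le_sup_left)
  -- `D` normalises `R ∩ So`
  have hDRo : P ⊓ centralizer (A : Set G) ≤ normalizer ((R ⊓ So : Subgroup G) : Set G) := by
    intro d hd
    rw [← hRo]
    refine mem_normalizer_of_cj_le ?_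
    rw [cj_inf, cj_eq_of_mem_normalizer (hRn (hDH1 hd)),
      cj_eq_of_mem_normalizer (le_normalizer ((le_sup_right : P ⊓ centralizer (A : Set G) ≤ M1) hd))]
  -- the generation trick
  have hgen : ∀ Y : Subgroup G, P ⊓ centralizer (A : Set G) ≤ normalizer (Y : Set G) →
      (∀ a ∈ A, ∀ b ∈ B, a * b ∈ zc (S : Subgroup G) → ∀ y ∈ Y, y * b = b * y) → B ≤ centralizer (Y : Set G) := by
    intro Y hY hc
    refine (H.gen (B ⊓ centralizer (Y : Set G)) inf_le_left ?_ ?_).trans inf_le_right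
    · intro d hd
      refine mem_normalizer_of_cj_le ?_
      rw [cj_inf, cj_eq_of_mem_normalizer (H.DB hd), cj_centralizer, cj_eq_of_mem_normalizer (hY hd)]
    · intro a ha b hb hz
      exact ⟨hb, mem_centralizer_iff.mpr fun y hy => hc a ha b hb hz y hy⟩
  -- `R ∩ So` centralises `B`
  have hRoB : B ≤ centralizer ((R ⊓ So : Subgroup G) : Set G) := by
    refine hgen _ hDRo ?_
    intro a ha b hb hz y hy
    have h1 := (H.So_comm ha hb hz hy.2).2
    calc y * b = y * b * y⁻¹ * y := by group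
      _ = b * y := by rw [h1]
  by_cases hcase : ∀ a ∈ A, ∀ b ∈ B, a * b ∈ zc (S : Subgroup G) → ∀ y ∈ R, y * b = b * y
  · -- `R` centralises the projection of `Z`
    have h1 : B ≤ centralizer (R : Set G) := hgen R (hDH1.trans hRn) hcase
    have h2 : B ≤ o2 H1 := (le_inf (H.B_le.trans hVH1) h1).trans hch
    exact inf_o2_le hFH1 h2 hBF
  · push Not at hcase
    obtain ⟨a', ha', y, hy, hz', r₁, hr₁, hry⟩ := hcase
    have hyV := H.B_le hy
    have hyF : y ∈ FF := by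
      have e : y = a'⁻¹ * (a' * y) := by group
      rw [e]
      exact FF.mul_mem (FF.inv_mem (hAF ha')) (hZF ⟨V.mul_mem (H.A_le ha') hyV, hz'⟩)
    -- `Y = C_G(a, y)`
    set Y : Subgroup G := H1 ⊓ centralizer (zpowers y : Set G) with hYd
    have hmemY : ∀ g, g ∈ Y ↔ g ∈ H1 ∧ g * y = y * g := by
      intro g
      rw [hYd, mem_inf, mem_centralizer_iff]
      constructor
      · rintro ⟨h1, h2⟩
        exact ⟨h1, (h2 y (mem_zpowers y)).symm⟩
      · rintro ⟨h1, h2⟩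
        refine ⟨h1, fun x hx => ?_⟩
        obtain ⟨k, rfl⟩ := mem_zpowers_iff.mp hx
        exact (Commute.zpow_right (show Commute g y from h2) k).symm.eq
    have hFY : centralizer (FF : Set G) ≤ Y := by
      intro g hg
      exact (hmemY g).mpr ⟨hFH1 hg, (mem_centralizer_iff.mp hg y hyF).symm⟩
    have hBY : B ≤ Y := fun g hg => (hmemY g).mpr ⟨hVH1 (H.B_le hg), hVc g (H.B_le hg) y hyV⟩
    have hSoy : ∀ s ∈ So, s * y = y * s := by
      intro s hs
      have h1 := (H.So_comm ha' hy hz' hs).2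
      calc s * y = s * y * s⁻¹ * s := by group
        _ = y * s := by rw [h1]
    -- index two
    have hQ2 : IsPGroup 2 (So ⊔ R : Subgroup G) :=
      IsPGroup.to_sup_of_normal_right' (S.isPGroup'.to_le H.So_le) hR2 (hSoH1.trans hRn)
    have hidx : ∀ u ∈ R, ∀ v ∈ R, u ∉ So → v ∉ So → u⁻¹ * v ∈ So := fun u hu v hv hu' hv' =>
      mem_of_twoGroup S H.So_le H.index hQ2 le_sup_left (mem_sup_right hu) (mem_sup_right hv) hu' hv'
    have hr₁S : r₁ ∉ So := fun h1 => hry (hSoy r₁ h1)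
    -- `R ∩ Y = R ∩ So`
    have hRY : R ⊓ Y = R ⊓ So := by
      refine le_antisymm ?_ (le_inf inf_le_left fun s hs => (hmemY s).mpr ⟨hSoH1 hs.2, hSoy s hs.2⟩)
      rintro r ⟨hr, hrY⟩
      refine ⟨hr, ?_⟩
      by_contra hrS
      have h1 := hidx r hr r₁ hr₁ hrS hr₁S
      have h2 := hSoy _ h1
      have h3 := ((hmemY r).mp hrY).2
      apply hry
      calc r₁ * y = r * (r⁻¹ * r₁ * y) := by group
        _ = r * (y * (r⁻¹ * r₁)) := by rw [h2]
        _ = r * y * (r⁻¹ * r₁) := by group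
        _ = y * r * (r⁻¹ * r₁) := by rw [h3]
        _ = y * r₁ := by group
    have hYR : Y ≤ normalizer (R : Set G) := inf_le_left.trans hRn
    have hYRo : Y ≤ normalizer ((R ⊓ So : Subgroup G) : Set G) := by
      intro g hg
      rw [← hRY]
      refine mem_normalizer_of_cj_le ?_
      rw [cj_inf, cj_eq_of_mem_normalizer (hYR hg), cj_eq_of_mem_normalizer (le_normalizer hg)]
    -- the stabiliser of `R ≥ R ∩ So ≥ 1` in `Y`
    let K : Subgroup G :=
      { carrier := {g | g ∈ Y ∧ (∀ r ∈ R ⊓ So, g * r = r * g) ∧ ∀ r ∈ R, r⁻¹ * (g * r * g⁻¹) ∈ R ⊓ So}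
        one_mem' := ⟨one_mem _, fun r _ => by rw [one_mul, mul_one], fun r _ => by simp⟩
        mul_mem' := by
          rintro g g' ⟨h1, h2, h3⟩ ⟨h1', h2', h3'⟩
          refine ⟨mul_mem h1 h1', fun r hr => by rw [mul_assoc, h2' r hr, ← mul_assoc, h2 r hr, mul_assoc], ?_⟩
          intro r hr
          have k1 := h3' r hr
          have k2 := h2 _ k1
          have k3 := h3 r hr
          have e : r⁻¹ * (g * g' * r * (g * g')⁻¹) = r⁻¹ * (g * r * g⁻¹) * (r⁻¹ * (g' * r * g'⁻¹)) := by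
            calc r⁻¹ * (g * g' * r * (g * g')⁻¹) = r⁻¹ * (g * r * (r⁻¹ * (g' * r * g'⁻¹)) * g⁻¹) := by group
              _ = r⁻¹ * (g * r * g⁻¹ * (g * (r⁻¹ * (g' * r * g'⁻¹)) * g⁻¹)) := by group
              _ = r⁻¹ * (g * r * g⁻¹ * ((r⁻¹ * (g' * r * g'⁻¹)) * g * g⁻¹)) := by rw [k2]
              _ = r⁻¹ * (g * r * g⁻¹) * (r⁻¹ * (g' * r * g'⁻¹)) := by group
          rw [e]
          exact mul_mem k3 k1
        inv_mem' := by
          rintro g ⟨h1, h2, h3⟩
          have h2' : ∀ r ∈ R ⊓ So, g⁻¹ * r = r * g⁻¹ := fun r hr => by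
            have := h2 r hr
            calc g⁻¹ * r = g⁻¹ * (r * g) * g⁻¹ := by group
              _ = g⁻¹ * (g * r) * g⁻¹ := by rw [this]
              _ = r * g⁻¹ := by group
          refine ⟨inv_mem h1, h2', ?_⟩
          intro r hr
          have k1 : g⁻¹ * r * g⁻¹⁻¹ ∈ R := (mem_normalizer_iff.mp (hYR (inv_mem h1)) r).mp hr
          have k2 := h3 _ k1
          have e : (g⁻¹ * r * g⁻¹⁻¹)⁻¹ * (g * (g⁻¹ * r * g⁻¹⁻¹) * g⁻¹) = g⁻¹ * r⁻¹ * g * r := by group
          rw [e] at k2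
          have k3 := inv_mem k2
          have k4 := h2' _ k3
          have e1 : r⁻¹ * (g⁻¹ * r * g⁻¹⁻¹) = (g⁻¹ * r⁻¹ * g * r)⁻¹ := by group
          rw [e1]
          exact k3 }
    have hKm : ∀ g, g ∈ K ↔ g ∈ Y ∧ (∀ r ∈ R ⊓ So, g * r = r * g) ∧ ∀ r ∈ R, r⁻¹ * (g * r * g⁻¹) ∈ R ⊓ So :=
      fun g => Iff.rfl
    have hKY : K ≤ Y := fun g hg => hg.1
    have hYK : Y ≤ normalizer (K : Set G) := by
      intro x hx
      refine mem_normalizer_of_cj_le ?_
      rintro _ ⟨g, hg, rfl⟩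
      obtain ⟨h1, h2, h3⟩ := (hKm g).mp hg
      change x * g * x⁻¹ ∈ K
      have hRo' : ∀ r ∈ R ⊓ So, x⁻¹ * r * x ∈ R ⊓ So := fun r hr =>
        (mem_normalizer_iff''.mp (hYRo hx) r).mp hr
      have hRo'' : ∀ r ∈ R ⊓ So, x * r * x⁻¹ ∈ R ⊓ So := fun r hr =>
        (mem_normalizer_iff.mp (hYRo hx) r).mp hr
      have hR' : ∀ r ∈ R, x⁻¹ * r * x ∈ R := fun r hr => (mem_normalizer_iff''.mp (hYR hx) r).mp hr
      refine (hKm _).mpr ⟨mul_mem (mul_mem hx h1) (inv_mem hx), ?_, ?_⟩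
      · intro r hr
        have k := h2 _ (hRo' r hr)
        calc x * g * x⁻¹ * r = x * (g * (x⁻¹ * r * x)) * x⁻¹ := by group
          _ = x * (x⁻¹ * r * x * g) * x⁻¹ := by rw [k]
          _ = r * (x * g * x⁻¹) := by group
      · intro r hr
        have k := hRo'' _ (h3 _ (hR' r hr))
        have e : x * ((x⁻¹ * r * x)⁻¹ * (g * (x⁻¹ * r * x) * g⁻¹)) * x⁻¹ =
            r⁻¹ * (x * g * x⁻¹ * r * (x * g * x⁻¹)⁻¹) := by group
        rwa [e] at k
    have hK2 : IsPGroup 2 K := by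
      -- `g ^ 2 ^ m` centralises `R`
      obtain ⟨m, hm⟩ := IsPGroup.iff_card.mp ((S.isPGroup'.to_le H.So_le).to_le (inf_le_right : R ⊓ So ≤ So))
      have hpow : ∀ g ∈ K, ∀ k : ℕ, ∀ r ∈ R, g ^ k * r * (g ^ k)⁻¹ = r * (r⁻¹ * (g * r * g⁻¹)) ^ k := by
        intro g hg k
        obtain ⟨h1, h2, h3⟩ := (hKm g).mp hg
        induction k with
        | zero => intro r hr; simp
        | succ k ih =>
          intro r hr
          have k1 := h3 r hr
          have k2 : g * (r⁻¹ * (g * r * g⁻¹)) ^ k = (r⁻¹ * (g * r * g⁻¹)) ^ k * g :=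
            h2 _ (pow_mem k1 k)
          have k4 : ∀ w : G, g * w = w * g → g * (r * w) * g⁻¹ = r * ((r⁻¹ * (g * r * g⁻¹)) * w) := by
            intro w hw
            calc g * (r * w) * g⁻¹ = (g * r * g⁻¹) * (g * w) * g⁻¹ := by group
              _ = (g * r * g⁻¹) * (w * g) * g⁻¹ := by rw [hw]
              _ = r * ((r⁻¹ * (g * r * g⁻¹)) * w) := by group
          calc g ^ (k + 1) * r * (g ^ (k + 1))⁻¹ = g * (g ^ k * r * (g ^ k)⁻¹) * g⁻¹ := by
                rw [pow_succ']; group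
            _ = g * (r * (r⁻¹ * (g * r * g⁻¹)) ^ k) * g⁻¹ := by rw [ih r hr]
            _ = r * ((r⁻¹ * (g * r * g⁻¹)) * (r⁻¹ * (g * r * g⁻¹)) ^ k) := k4 _ k2
            _ = r * (r⁻¹ * (g * r * g⁻¹)) ^ (k + 1) := by rw [pow_succ']
      rintro ⟨g, hg⟩
      have hgH : g ^ 2 ^ m ∈ H1 := pow_mem ((hKm g).mp hg).1.1 _
      have hgc : g ^ 2 ^ m ∈ centralizer (R : Set G) := by
        rw [mem_centralizer_iff]
        intro r hr
        have k1 := hpow g hg (2 ^ m) r hr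
        have k2 : (r⁻¹ * (g * r * g⁻¹)) ^ 2 ^ m = 1 := by
          rw [← hm]
          have k3 := ((hKm g).mp hg).2.2 r hr
          have k4 : (⟨r⁻¹ * (g * r * g⁻¹), k3⟩ : ↥(R ⊓ So)) ^ Nat.card ↥(R ⊓ So) = 1 := pow_card_eq_one'
          exact congrArg Subtype.val k4
        rw [k2, mul_one] at k1
        calc r * g ^ 2 ^ m = g ^ 2 ^ m * r * (g ^ 2 ^ m)⁻¹ * g ^ 2 ^ m := by rw [k1]
          _ = g ^ 2 ^ m * r := by group
      have hgR : g ^ 2 ^ m ∈ R := hch ⟨hgH, hgc⟩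
      obtain ⟨k, hk⟩ := hR2 ⟨_, hgR⟩
      refine ⟨m + k, ?_⟩
      have hk' : (g ^ 2 ^ m) ^ 2 ^ k = 1 := congrArg Subtype.val hk
      ext
      rw [← pow_mul, ← pow_add] at hk'
      exact hk'
    have hBK : B ≤ K := by
      intro c hc
      have hcr : ∀ r ∈ R ⊓ So, c * r = r * c := fun r hr => (mem_centralizer_iff.mp (hRoB hc) r hr).symm
      refine (hKm c).mpr ⟨hBY hc, hcr, ?_⟩
      intro r hr
      have hcR : c * r * c⁻¹ ∈ R := (mem_normalizer_iff.mp (hYR (hBY hc)) r).mp hr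
      by_cases hrS : r ∈ So
      · have k1 := hcr r ⟨hr, hrS⟩
        have e : r⁻¹ * (c * r * c⁻¹) = 1 := by rw [k1]; group
        rw [e]; exact one_mem _
      · have hcS : c * r * c⁻¹ ∉ So := by
          intro hcS
          have k1 := hcr _ ⟨hcR, hcS⟩
          apply hrS
          have k2 : c * r * c⁻¹ = r := by
            have k3 : c * (c * r * c⁻¹) = c * r := by rw [k1]; group
            exact mul_left_cancel k3
          rwa [k2] at hcS
        exact ⟨R.mul_mem (R.inv_mem hr) hcR, hidx r hr _ hcR hrS hcS⟩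
    have hKo : B ≤ o2 Y := hBK.trans (le_o2 hKY hK2 hYK)
    exact inf_o2_le hFY hKo hBF

end Cfsg.Agent.Omega.NO1.WRF.Single

end
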