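import Cfsg.Agent.Mrg.Omega.Node.OmXOf
import Cfsg.Agent.Mrg.Omega.NO3S.CaseLW.LamEnd


/-!
# THEOREM LAMBDA in the socket `LamH` of `Node/OmXOf.lean`

`lamH : LamH K`; so `(Om)` of the case (L), `q = 2`, natural and symmetric types, follows from THEOREM QW (`OffH`).
-/

set_option autoImplicit false

namespace Cfsg.Agent.Omega.Node.OmXOf

open Subgroup Cfsg
open Cfsg.Agent.Omega.Frame (Cls)
open Cfsg.Agent.Omega.Node.MulX (OmX OmSX)

universe u

/-- **THEOREM LAMBDA.** -/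
theorem lamH (K : Cls.{u}) : LamH K := fun _ _ _ _ _ _ _ _ _ _ _ _ _ hF _ _ ho _ _ hw hB hl hY =>
  NO3S.CaseLW.Lam.le_of_offW hF.cl hF.lt ho hw hB hl hY

/-- **(Om)**, case (L), natural blocks, `q = 2`, from THEOREM QW. -/
theorem omX_of_off {K : Cls.{u}} (ho : OffH K) : OmX K fun _ q => q = 2 := omX_of ho (lamH K)

/-- **(Om)**, case (L), symmetric blocks, from THEOREM QW. -/
theorem omSX_of_off {K : Cls.{u}} (ho : OffH K) : OmSX K fun _ _ => True := omSX_of ho (lamH K)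

end Cfsg.Agent.Omega.Node.OmXOf
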