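import Cfsg.Agent.Mrg.Omega.NO3S.CaseLW.QWc
import Cfsg.Agent.Mrg.Omega.NO3S.CaseLW.QWex
import Cfsg.Agent.Mrg.Omega.NO3S.CaseLW.QWa
import Cfsg.Agent.Mrg.Omega.OM.Lev.Uni
import Cfsg.Agent.Mrg.Omega.OM.SwapT.QuietL
import Cfsg.Agent.Mrg.Omega.Node.OmXOf
import Cfsg.Agent.Mrg.Omega.ML.MinIrr

section


/-!
# THEOREM QW (helper866 #24897, helper276 #25131), the glue over `FrL`, every `q`

`WQ S P T Y`, `B ≤ T`, `Y ≤ C_G(Z)`, `M` 2-local, `P, C_G(Z_J) ≤ M`, `Y ≰ M`, `V_P ≤ O₂(C_G(z))` for one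
`1 ≠ z ∈ Z` of full support: some best offender `A ≤ T` on `⟨V_P^Y⟩` is not in `O₂(Y)`.
-/

set_option autoImplicit false

namespace Cfsg.Agent.Omega.Node.QWGlue

open Subgroup Cfsg Cfsg.Agent.ZN.ChoiceBase Cfsg.Agent.ZN.ChoiceSit
open Cfsg.Agent.ZN (jj zj bau zc zl o2)
open Cfsg.Agent.Omega.MinPar (IsLoc)
open Cfsg.Agent.Omega.NO1.BestOff (Best)
open Cfsg.Agent.Omega.NO3S.Level (nxt Lev lim CaseL)
open Cfsg.Agent.Omega.NO3S.WY (WQ ZJ BB)
open Cfsg.Agent.Omega.NO3b.EZero (cl)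
open Cfsg.Agent.Omega.FrameNOFF (CZ)
open Cfsg.Agent.Omega.ML.Final (MLK)
open Cfsg.Agent.Omega.OM.Lev.Uni (FrL)
open Cfsg.Agent.Omega.OM.SwapT (lb norm_K)
open Cfsg.Agent.Omega.NO3S.CaseLW

universe u

variable {G : Type u} [Group G] [Finite G] {S : Sylow 2 G} {P T Y M : Subgroup G}

/-- `U ≤ O₂(C_G(Z))` -/
theorem U_le_o2 (h : WQ S P T Y) (hY : Y ≤ CZ (S : Subgroup G)) :
    cl (zl (S : Subgroup G) P) Y ≤ o2 (CZ (S : Subgroup G)) := by
  refine NO3b.EZero.cl_le fun y hy => ?_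
  have h1 := cj_mono y (h.cl.low P h.parP)
  rwa [cj_eq_of_mem_normalizer (ZN.le_normalizer_o2 _ (hY hy))] at h1

theorem U_sq (h : WQ S P T Y) : ∀ x ∈ cl (zl (S : Subgroup G) P) Y, x * x = 1 := fun x hx => by
  rw [← sq]
  exact h.V_sq x (h.zl_GX_le (QWc.U_le_zl h hx))

/-- **THEOREM QW** -/
theorem offW (h : WQ S P T Y) (BT : BB (S : Subgroup G) P ≤ T) (hY : Y ≤ CZ (S : Subgroup G))
    (hM : IsLoc (S : Subgroup G) M) (hPM : P ≤ M) (hZM : centralizer (ZJ (S : Subgroup G) P : Set G) ≤ M)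
    (hYM : ¬ Y ≤ M) (ml : MLK.{u, u}) (hK : IsKGroup M) {ι : Type*} [Finite ι] {L W Z C A : ι → Subgroup G} {q : ℕ}
    (fr : FrL (BB (S : Subgroup G) P) (o2 P) (zl (S : Subgroup G) P) (zl (S : Subgroup G) P)
      (ZJ (S : Subgroup G) P) L W Z C A q) (two : ∀ i : ι, ∃ j, j ≠ i) {z : G} (hz : z ∈ zc (S : Subgroup G))
    (hf : ∀ i, z ∉ C i) (lowz : zl (S : Subgroup G) P ≤ o2 (centralizer ({z} : Set G))) :
    ∃ A ≤ T, Best (cl (zl (S : Subgroup G) P) Y) A ∧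
      ¬ A ≤ centralizer (cl (zl (S : Subgroup G) P) Y : Set G) ∧ ¬ A ≤ o2 Y := by
  have hcl := h.cl
  have hLB := lb hcl.wc
  have hN : normalizer (BB (S : Subgroup G) P : Set G) ≤ normalizer (zl (S : Subgroup G) P : Set G) := fun g hg =>
    hcl.norm_o2_le (norm_K hcl.wc hg)
  have hzJ : z ∈ ZJ (S : Subgroup G) P := hcl.levQ.next.zc_le hz
  have ho : ∀ i, ∀ c ∈ Z i, W i ≤ o2 (centralizer ({z * c} : Set G)) := fun i c hc =>
    QWoFr.le_o2_q fr h.hG hLB.Bp (fun R hR hB => hLB.two_le hR hB) hN two hzJ hf lowz i hc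
  refine QWd.exists_best_of h BT hY hZM hPM hYM fun neg => ?_
  have hUC : cl (zl (S : Subgroup G) P) Y ≤ centralizer (ZJ (S : Subgroup G) P : Set G) :=
    (QWc.U_comm h).trans (centralizer_le ((NO3S.WY.ZJ_le hcl).trans (NO3b.EZero.le_cl _ _)))
  have hUZ := U_le_o2 h hY
  have hUO : cl (zl (S : Subgroup G) P) Y ≤ o2 (M ⊓ CZ (S : Subgroup G)) := by
    refine fun x hx => ?_
    have h1 : x ∈ M := hZM (hUC hx)
    refine MinSimple.VModule.le_o2 (L := M ⊓ CZ (S : Subgroup G)) (N := M ⊓ o2 (CZ (S : Subgroup G)))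
      (inf_le_inf_left _ (MinSimple.VModule.o2_le _)) ((isPGroup_o2 _).to_le inf_le_right) (fun g hg => ?_) ⟨h1, hUZ hx⟩
    rw [mem_normalizer_iff_cj, cj_inf, cj_eq_of_mem_normalizer (le_normalizer hg.1),
      cj_eq_of_mem_normalizer (ZN.le_normalizer_o2 _ hg.2)]
  have hcent := QW.cent_zl_q S h.hG ml hM hK (MinSimple.VModule.zc_le_zl _ _ hz) (U_sq h) hUO
    fun off hne => QWex.hex h hM hPM neg fr hY hz ho off hne
  exact QW.le_o2_M S hM.le (h.cl.ctx.sylow_ne_bot S) hcent hUZ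

end Cfsg.Agent.Omega.Node.QWGlue

end

section


/-!
# (Om) over the case (L): OffW from THEOREM QW

* `offW_of` : `QuietL.OffW S P M`, every `q`, over `FrL`;
* **`offH : MLK → OmXOf.OffH K`** (`q = 2`, natural and symmetric);
* `LowZ K` : `V_P ≤ O₂(C_G(z))`, `1 ≠ z ∈ Z` (`q ≥ 4`, natural); **`offHQ : MLK → LowZ K → OmTopQ.OffHQ K`**.
-/

set_option autoImplicit false

namespace Cfsg.Agent.Omega.Node.QWDone

open Subgroup Cfsg Cfsg.Agent.ZN.ChoiceBase Cfsg.Agent.ZN.ChoiceSit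
open Cfsg.Agent.ZN (jj zj bau zc zl o2)
open Cfsg.Agent.Omega.MinPar (IsLoc)
open Cfsg.Agent.Omega.NO3S.Level (nxt Lev lim CaseL)
open Cfsg.Agent.Omega.NO3S.WY (WQ ZJ BB)
open Cfsg.Agent.Omega.FrameNOFF (CZ)
open Cfsg.Agent.Omega.Frame (Cls Ctx)
open Cfsg.Agent.Omega.ML.Final (MLK)
open Cfsg.Agent.Omega.OM
open Cfsg.Agent.Omega.OM.Lev.Uni (FrL)
open Cfsg.Agent.Omega.OM.SwapT (ZT BT)
open Cfsg.Agent.Omega.OM.SwapT.QuietL (OffW)
open Cfsg.Agent.Omega.Node.MulX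
open Cfsg.Agent.Omega.Node.OmXOf (FrX LocX OffH)
open Cfsg.Agent.Omega.Node.OmTopQ (OffHQ)

universe u

section one

variable {G : Type u} [Group G] [Finite G] {S : Sylow 2 G} {P M : Subgroup G}

/-- a 2-local over `S` is a `K`-group -/
theorem isKGroup (hG : Ctx G) (h : IsLoc (S : Subgroup G) M) : IsKGroup M := by
  have := hG.simple
  exact hG.kproper _ (h.ne_top S hG.not_isPGroup)

variable {ι : Type} [Finite ι] {L W Z C A : ι → Subgroup G} {q : ℕ}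

/-- **OffW** -/
theorem offW_of (ml : MLK.{u, u}) (h : CaseL S P)
    (fr : FrL (BT (S : Subgroup G) (o2 P)) (o2 P) (zl (S : Subgroup G) P) (zl (S : Subgroup G) P)
      (ZT (S : Subgroup G) (o2 P)) L W Z C A q) (two : ∀ i : ι, ∃ j, j ≠ i) (hM : IsLoc (S : Subgroup G) M)
    (hP : P ≤ M) (hZ : centralizer (ZT (S : Subgroup G) (o2 P) : Set G) ≤ M) {z : G}
    (hz : z ∈ zc (S : Subgroup G)) (hf : ∀ i, z ∉ C i)
    (lowz : zl (S : Subgroup G) P ≤ o2 (centralizer ({z} : Set G))) : OffW S P M := by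
  intro T Y hw hB _ hY hn
  obtain ⟨A', hA, hb, -, hn'⟩ := QWGlue.offW hw hB hY hM hP hZ hn ml (isKGroup h.ctx hM) fr two hz hf lowz
  exact ⟨A', hA, hb, hn'⟩

end one

/-- **THEOREM QW, `q = 2`, natural and symmetric** -/
theorem offH (K : Cls.{u}) (ml : MLK.{u, u}) : OffH K := by
  intro G _ _ _ S P ι _ L W Z C A hx M hM
  obtain ⟨c, -, hcf, hzc⟩ := hx.exists_c
  have hcz : c ∈ zc (S : Subgroup G) := (hzc c).2 (Or.inr rfl)
  have e : CZ (S : Subgroup G) = centralizer ({c} : Set G) := by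
    refine le_antisymm (centralizer_le (Set.singleton_subset_iff.2 hcz)) fun g hg => ?_
    refine mem_centralizer_iff.2 fun z hz => ?_
    rcases (hzc z).1 hz with rfl | rfl
    · rw [one_mul, mul_one]
    · exact (mem_centralizer_singleton_iff.1 hg).symm
  have hfr := hx.lt.fr
  rw [hx.cl.zc_eq] at hfr
  refine offW_of ml hx.cl hfr hx.lt.two hM.loc hM.P_le hM.D_le hcz hcf ?_
  rw [← e]
  exact hx.cl.low P hx.cl.pss.par

section nat

variable {G : Type u} [Group G] [Finite G] {S : Sylow 2 G} {P B ZJ : Subgroup G} {k : ℕ}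
  {L W Z C A : Fin k → Subgroup G} {q : ℕ}

/-- the elements `≠ 1` of `Ω₁(Z(S))` have full support -/
theorem zS (h : MulL S P B ZJ L W Z C A q) : ∀ z ∈ zc (S : Subgroup G), z ≠ 1 → ∀ i, z ∉ C i := by
  have hle : zc (S : Subgroup G) ≤ ZJ := by
    rw [h.eZ]
    exact h.cl.levQ.next.zc_le
  refine fun z hz hz1 j hj => hz1 (h.fr.C0 z (h.fr.ZJV (hle hz)) fun i => ?_)
  obtain ⟨s, hs, e⟩ := h.bg.trans i j
  have hsP : s ∈ P := h.cl.hypN.syl.1 hs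
  obtain ⟨σ, hσ⟩ := h.bg.perm s hsP
  obtain ⟨h1, h2⟩ := hσ i
  have hij : σ i = j := by
    by_contra hne
    obtain ⟨w, hw, hw1⟩ := NO3S.CaseLW.QWoFr.Z_ne h.fr j
    have hw' : w ∈ W j := (h.fr.blk j).ZV hw
    have h3 : w ∈ C j := h.fr.WjC j (σ i) (Ne.symm hne) (by rw [← h1, e]; exact hw')
    have h4 : w ∈ W j ⊓ C j := ⟨hw', h3⟩
    rw [h.fr.dir j, mem_bot] at h4
    exact hw1 h4
  rw [hij] at h2
  have h5 : z ∈ cj s (C i) := by rw [h2]; exact hj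
  rw [mem_cj] at h5
  have h6 : s⁻¹ * z * s = z := by
    rw [mul_assoc, ← (mem_zc.1 hz).2.2 s hs, inv_mul_cancel_left]
  rwa [h6] at h5

end nat

/-- **Socket:** `V_P ≤ O₂(C_G(z))`, `1 ≠ z ∈ Ω₁(Z(S))`, case (L), natural, `q ≥ 4`. -/
def LowZ (K : Cls.{u}) : Prop :=
  ∀ (G : Type u) [Group G] [Finite G], K G → ∀ (S : Sylow 2 G) (P B ZJ : Subgroup G) (k : ℕ)
    (L W Z C A : Fin k → Subgroup G) (q : ℕ), 2 ≤ k → 4 ≤ q → MulL S P B ZJ L W Z C A q →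
      ∀ z ∈ zc (S : Subgroup G), z ≠ 1 → IsKGroup (centralizer ({z} : Set G)) →
        zl (S : Subgroup G) P ≤ o2 (centralizer ({z} : Set G))

/-- **THEOREM QW, `q ≥ 4`, natural** -/
theorem offHQ {K : Cls.{u}} (ml : MLK.{u, u}) (hl : LowZ K) : OffHQ K := by
  intro G _ _ hKG S P B ZJ k L W Z C A q hk hq h M hM hP hZ _
  have hfr := h.fr
  rw [h.eqB, h.eZ] at hfr
  rw [h.eZ] at hZ
  have hne : zc (S : Subgroup G) ≠ ⊥ := MinSimple.Basic.zc_ne_bot S.isPGroup' (h.cl.ctx.sylow_ne_bot S)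
  obtain ⟨⟨z, hz⟩, hz'⟩ := (Subgroup.ne_bot_iff_exists_ne_one).1 hne
  have hz1 : z ≠ 1 := fun e => hz' (Subtype.ext e)
  have hSz : (S : Subgroup G) ≤ centralizer ({z} : Set G) := fun s hs =>
    mem_centralizer_singleton_iff.2 ((mem_zc.1 hz).2.2 s hs)
  have hKz := isKGroup h.cl.ctx (MinPar.isLoc_centralizer S (mem_zc.1 hz).2.1 hz1 hSz)
  exact offW_of ml h.cl hfr h.bg.two hM hP hZ hz (zS h z hz hz1)
    (hl G hKG S P B ZJ k L W Z C A q hk hq h z hz hz1 hKz)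

end Cfsg.Agent.Omega.Node.QWDone

end
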