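import Cfsg.Agent.Mrg.Omega.Node.EndMinusQ
import Cfsg.Agent.Mrg.Omega.NO1U.EndSys
import Cfsg.Agent.Mrg.RankTwoClose.UFive.Known


/-!
# `EndMinusQ` from `AllMinus`

* `endOne` : `dim Φ = 1` (helper870, helper534: `RankTwoClose/UFive/Known.lean`);
* `endBig` : `dim Φ ≥ 2` (helper283, helper495, helper802: `Omega/NO1U/EndBig.lean`);
* `endMinusQ`.
-/

set_option autoImplicit false

namespace Cfsg.Agent.Omega.NO1.EndQ

open Subgroup Cfsg Cfsg.Agent.ZN Cfsg.Agent.Omega.MinPar Cfsg.Agent.Omega.Frame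
open Cfsg.Agent.Omega.NOne.SU Cfsg.Agent.Omega.NO1U Cfsg.Agent.Omega.NO1.Beta

universe u

/-- **The end `dim Φ = 1`**: `U₅(q)`. -/
theorem endOne (hB : RootLemma.Bender.{u}) (h44 : Exits.St1144.{u}) : EndOne.{u} := by
  intro G _ _ k F _ _ _ T S I V Rf Qf i j v p p' Φ _ _ φ χ hm W _ _ w g f₀ ι d h1
  have hE : NOne.SU.Ext V (Rf i) (Qf i) (Qf j) p' :=
    { p'_surj := d.X.p'_surj
      sw := by
        obtain ⟨n, hn, h3, -, -⟩ := d.X.swap
        exact ⟨n, hn, h3⟩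
      MX := d.D.mx }
  exact RankTwoClose.UFive.Known.known_of_out h44 hB d.ctx.simple d.ctx.nonComm d.ctx.char2 d.D.g d.D.f hE
    d.o h1 d.top

/-- **The end `dim Φ ≥ 2`**: `U_n(q)`, `n ≥ 6`. -/
theorem endBig : EndBig.{u} := by
  intro G _ _ k F _ _ _ T S I V Rf Qf i j v p p' Φ _ _ φ χ hm W _ _ w g f₀ ι d h1
  have := d.ctx.simple
  exact NO1U.EndBig.known d.D (by rw [sup_comm]; exact d.top) h1

/-- **`EndMinusQ`** from THEOREM ALL-N1. -/
theorem endMinusQ {K : Cls.{u}} (hB : RootLemma.Bender.{u}) (h44 : Exits.St1144.{u}) (hA : AllMinus.{u}) :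
    EndMinusQ K :=
  endMinusQ_of hB h44 hA (endOne hB h44) endBig

end Cfsg.Agent.Omega.NO1.EndQ
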