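import Cfsg.Agent.Mrg.Omega.OM.Lev.Main
import Cfsg.Agent.Mrg.Omega.OM.YThm.End8D
import Cfsg.Agent.Mrg.Omega.OM.FourF.Main
import Cfsg.Agent.Mrg.Omega.OM.YThm.XPlug


/-!
# `OmNeg` for `q ≥ 4`: (Om) is impossible at stage `-1`

THEOREM Y (`C_G(Z) ≤ N_G(Z_J)` or `(4F)`), its companion for `q = 4` (`C_G(Z) ≤ C_G(η) N_G(Z_J)`) and THEOREM F4
(`C_G(η) ≤ M`).
-/

set_option autoImplicit false

namespace Cfsg.Agent.Omega.Node.OmNegQ

open Subgroup Cfsg Cfsg.Agent.ZN.ChoiceBase Cfsg.Agent.ZN.ChoiceSit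
open Cfsg.Agent.ZN (jj zj bau zc zl o2)
open Cfsg.Agent.Omega.FFThm (NatK NatKM)
open Cfsg.Agent.Omega.FrameFF (cv)
open Cfsg.Agent.Omega.FrameNOFF (CZ)
open Cfsg.Agent.Omega.NO3S (HypL HypJ)
open Cfsg.Agent.Omega.Frame (Cls)
open Cfsg.Agent.Omega.OM Cfsg.Agent.Omega.OM.YThm.Plug
open Cfsg.Agent.Omega.OM.Dich (K0)
open Cfsg.Agent.Omega.OM.BlkGen (FBlk)
open Cfsg.Agent.Omega.Node.MultiOf

universe u

section dt

variable {G : Type u} [Group G] [Finite G] {S : Sylow 2 G} {P : Subgroup G} {F : Type} [Field F] [Finite F]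
  [CharP F 2] {k : ℕ} {N : NatK F (S : Subgroup G) P (zl (S : Subgroup G) P) (cv (S : Subgroup G) P) k}
  {L W Z C A : Fin k → Subgroup G}

omit [Finite F] [CharP F 2] in
/-- (Om) is impossible if `C_G(Z) ≤ N_G(Z_J)`. -/
theorem noOm_of_le (hFF : FFThm.Stmt.{u}) (D : Dt S P N L W Z C A)
    (hZ : CZ (S : Subgroup G) ≤ normalizer (zj (S : Subgroup G) : Set G)) :
    ∀ R : Subgroup G, IsPGroup 2 R → K0 (S : Subgroup G) (FBlk (S : Subgroup G)) ≤ normalizer (R : Set G) →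
      R = ⊥ := by
  rcases D.line.cases hFF with hE | ⟨M, hM, ho, -, hK, hD, -, hN, hS, hP⟩
  · exact hE
  exfalso
  have h2 : CZ (S : Subgroup G) ≤ M := hZ.trans ((Dich.norm_zj_le S).trans (sup_le hD hN))
  apply ho
  refine D.line.hyp.nonLoc _ (isPGroup_o2 _) ?_ ?_
  · rw [← hM]; exact hP
  · rw [← hM]; exact h2

/-- The companion of THEOREM Y for `q = 4`. -/
def Comp (_ : Dt S P N L W Z C A) : Prop :=
  ∃ E : Subgroup G, E ≤ zj (S : Subgroup G) ∧ (∀ i, ∃ z ∈ Z i, z ≠ 1 ∧ z ∈ E) ∧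
    CZ (S : Subgroup G) ≤ centralizer (E : Set G) ⊔ normalizer (zj (S : Subgroup G) : Set G)

theorem comp (hFF : FFThm.Stmt.{u}) (D : Dt S P N L W Z C A) (hq : 4 ≤ Nat.card F) : Comp D := by
  obtain ⟨E, h1, h2, -, h3⟩ := D.eta hFF hq
  refine ⟨E, h1, h2, fun g hg => ?_⟩
  obtain ⟨a, ha, b, hb, rfl⟩ := h3 g hg
  exact mul_mem (mem_sup_left (mem_inf.1 ha).2) (mem_sup_right hb)

/-- **(Om) is impossible at stage `-1` for `q ≥ 4`.** -/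
theorem noOm (hFF : FFThm.Stmt.{u}) (hA : FFBr.AStmt.{u}) (D : Dt S P N L W Z C A) (hq : 4 ≤ Nat.card F) :
    ∀ R : Subgroup G, IsPGroup 2 R → K0 (S : Subgroup G) (FBlk (S : Subgroup G)) ≤ normalizer (R : Set G) →
      R = ⊥ := by
  rcases D.thmY hFF hq with h | h
  · exact noOm_of_le hFF D h
  · exact FourF.noOm_of_four FourF.oneMain hFF hA D h.1 (comp hFF D hq)

theorem nLoc (hFF : FFThm.Stmt.{u}) (hA : FFBr.AStmt.{u}) (h : HypJ S P) (hk : 2 ≤ k) (hq : 4 ≤ Nat.card F)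
    (N : NatK F (S : Subgroup G) P (zl (S : Subgroup G) P) (cv (S : Subgroup G) P) k) :
    NLoc (KZ (bau (S : Subgroup G)) (zj (S : Subgroup G))) := by
  obtain ⟨L, W, Z, C, A, D⟩ := exists_dt h hk N
  rw [KZ_neg]
  exact noOm hFF hA D hq

end dt

/-- **`OmNeg` for `q ≥ 4`.** -/
theorem omNeg_q {K : Cls.{u}} (hFF : FFThm.Stmt.{u}) (hA : FFBr.AStmt.{u}) : OmNeg K fun _ q => 4 ≤ q := by
  intro G _ _ _ S P k _ hJ hk F _ _ _ hF N ho
  exact absurd (nLoc hFF hA hJ hk hF N.toNatK _ (isPGroup_o2 _) (le_normalizer_o2 _)) ho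

end Cfsg.Agent.Omega.Node.OmNegQ
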