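import Cfsg.Agent.Mrg.Omega.OM.SwapL.MainZ
import Cfsg.Agent.Mrg.Omega.Node.OmLevQ
import Cfsg.Agent.Mrg.Omega.TC.EFrOf
import Cfsg.Agent.Mrg.Omega.Node.MulG


/-!
# The leaves `MultiTwoL`, `MultiQL` of NO-3S: what is plugged

* `EOfNeg`, `EOfLev`, `eOf_of_stages` : case (E), by stages; `EOf.or`, `OmNeg.or`, `OmLev.or` : by the pairs `(k, q)`;
* `two_of` : `MultiTwoL K` from its open inputs; `q_of` : `MultiQL K` from its open inputs.
-/

set_option autoImplicit false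

namespace Cfsg.Agent.Omega.Node.MultiPlug

open Subgroup Cfsg Cfsg.Agent.ZN.ChoiceBase
open Cfsg.Agent.ZN (jj zj bau zc zl o2)
open Cfsg.Agent.Omega.NO3S.Level (lev)
open Cfsg.Agent.Omega.Frame (Cls)
open Cfsg.Agent.Omega.NO3S (HypL HypJ)
open Cfsg.Agent.Omega.Node.MultiOf

universe u

section sockets

variable (K : Cls.{u}) (c : ℕ → ℕ → Prop)

/-- **(E)**, stage `-1`. -/
def EOfNeg : Prop :=
  ∀ (G : Type u) [Group G] [Finite G], K G → ∀ (S : Sylow 2 G) (P : Subgroup G) (k : ℕ)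
    (L W Z C : Fin k → Subgroup G) (q : ℕ), 2 ≤ k → c k q → HypJ S P →
      Mul S P (jj (S : Subgroup G)) (bau (S : Subgroup G)) (zj (S : Subgroup G)) L W Z C q →
        NLoc (KZ (bau (S : Subgroup G)) (zj (S : Subgroup G))) → IsKnownSimple' G

/-- **(E)**, stage `n`. -/
def EOfLev : Prop :=
  ∀ (G : Type u) [Group G] [Finite G], K G → ∀ (S : Sylow 2 G) (P : Subgroup G) (n : ℕ),
    (∀ R, MinPar.IsParS (S : Subgroup G) R → lev (S : Subgroup G) n ≤ o2 R) →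
    ¬ lev (S : Subgroup G) (n + 1) ≤ o2 P →
    ∀ (B ZJ : Subgroup G) (k : ℕ) (L W Z C : Fin k → Subgroup G) (q : ℕ), 2 ≤ k → c k q →
      ZJ = zc (lev (S : Subgroup G) (n + 1)) →
      B = (S : Subgroup G) ⊓ centralizer (zc (lev (S : Subgroup G) (n + 1)) : Set G) →
      Mul S P (lev (S : Subgroup G) (n + 1)) B ZJ L W Z C q → NLoc (KZ B ZJ) → IsKnownSimple' G

end sockets

variable {K : Cls.{u}}

theorem eOf_of_stages {c : ℕ → ℕ → Prop} (h1 : EOfNeg K c) (h2 : EOfLev K c) : EOf K c := by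
  intro G _ _ hK S P K' B ZJ k L W Z C q hk hc hM hN
  cases hM.stg with
  | neg hj => exact h1 G hK S P k L W Z C q hk hc ⟨hM.hyp.toHypN, hj⟩ hM hN
  | lev n hall hn hn1 => exact h2 G hK S P n hall hn1 _ _ k L W Z C q hk hc rfl rfl hM hN

theorem eOf_or {c d : ℕ → ℕ → Prop} (h1 : EOf K c) (h2 : EOf K d) : EOf K fun k q => c k q ∨ d k q := by
  intro G _ _ hK S P K' B ZJ k L W Z C q hk hc hM hN
  rcases hc with hc | hc
  · exact h1 G hK S P K' B ZJ k L W Z C q hk hc hM hN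
  · exact h2 G hK S P K' B ZJ k L W Z C q hk hc hM hN

theorem eOf_mono {c d : ℕ → ℕ → Prop} (h : ∀ k q, 2 ≤ k → d k q → c k q) (h1 : EOf K c) : EOf K d :=
  fun G _ _ hK S P K' B ZJ k L W Z C q hk hc hM hN => h1 G hK S P K' B ZJ k L W Z C q hk (h k q hk hc) hM hN

theorem omNeg_mono {c d : ℕ → ℕ → Prop} (h : ∀ k q, 2 ≤ k → d k q → c k q) (h1 : OmNeg K c) : OmNeg K d :=
  fun G _ _ hK S P k hH hJ hk F _ _ _ hc N ho => h1 G hK S P k hH hJ hk F (h k _ hk hc) N ho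

theorem omLev_mono {c d : ℕ → ℕ → Prop} (h : ∀ k q, 2 ≤ k → d k q → c k q) (h1 : OmLev K c) : OmLev K d :=
  fun G _ _ hK S P k hH n hall hn1 hk F _ _ _ hc N B ZJ e1 e2 ho =>
    h1 G hK S P k hH n hall hn1 hk F (h k _ hk hc) N B ZJ e1 e2 ho

theorem omLev_or {c d : ℕ → ℕ → Prop} (h1 : OmLev K c) (h2 : OmLev K d) : OmLev K fun k q => c k q ∨ d k q := by
  intro G _ _ hK S P k hH n hall hn1 hk F _ _ _ hc N B ZJ e1 e2 ho
  rcases hc with hc | hc
  · exact h1 G hK S P k hH n hall hn1 hk F hc N B ZJ e1 e2 ho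
  · exact h2 G hK S P k hH n hall hn1 hk F hc N B ZJ e1 e2 ho

/-- **(E), `k = 2`, `q = 2`**: from UNI+ and block generation at the levels (THEOREM KL, MLK). -/
theorem e22 (hML : ML.Final.MLK.{u, u}) (hKL : KL.Quo.NoInp.{u, u}) (hU : TC.OfMul.UniLev K) :
    EOf K fun k q => k = 2 ∧ q = 2 :=
  TC.OfMul.eOf_two FF.Glob.ffthm hU (TC.EndKL.eFr hML hKL)

/-- **(E), `k ≥ 3`, `q = 2`**: from UNI+ and block generation at the levels, and the end over the frame. -/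
theorem e32 (hU : EK3.OfMul.UniLevK K) (hE : MulC.EEndK K) : EOf K fun k q => 3 ≤ k ∧ q = 2 :=
  EK3.OfMul.eOf_three hU (MulC.eFrK_of_end hE)

/-- **`MultiTwoL K`** from its open inputs: (Om) is closed. -/
theorem two_of (hML : ML.Final.MLK.{u, u}) (hKL : KL.Quo.NoInp.{u, u}) (hU : TC.OfMul.UniLev K)
    (hUK : EK3.OfMul.UniLevK K) (hE : MulC.EEndK K) : NO3S.MultiTwoL K :=
  multiTwoL_of OM.SwapL.omOfZ_two (e22 hML hKL hU) (e32 hUK hE)

/-- **`MultiQL K`** from its open inputs: (Om) is closed. -/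
theorem q_of (hE2 : EOf K fun k q => k = 2 ∧ 4 ≤ q) (hE3 : EOf K fun k q => 3 ≤ k ∧ 4 ≤ q) : NO3S.MultiQL K :=
  multiQL_of OmLevQ.omOf_q hE2 hE3

end Cfsg.Agent.Omega.Node.MultiPlug
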