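import Cfsg.Agent.Mrg.Omega.Node.NO3LMain
import Cfsg.Agent.Mrg.Omega.NO3b.BasePt.Done
import Cfsg.Agent.Mrg.Omega.KL.NoInp
import Cfsg.Agent.Mrg.Omega.NOThreeL.RRed.TCR
import Cfsg.Agent.Mrg.Omega.ML.Ex.Ext
import Cfsg.Agent.Mrg.Omega.NOThreeL.RRed.WLeftBase

section


/-!
# The leaf NO-3L with (ML), the K-lists, `NotFFG` and `TCR` plugged in

* `notFFM : RTreeF.NotFFM K`, `tcr : RRed.TCR K` : theorems;
* `nodeNO3L_done` : the leaf NO-3L from `Ext`, `FourOf`, `WideAll`, `BrTOf` (box R, `V*` FF);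
* **`OpenB.node`** : the same without `Ext` (helper585's `ML.Ex.Two.ext`).
-/

set_option autoImplicit false

namespace Cfsg.Agent.Omega.Node.NO3LDone

open Cfsg.Agent.Omega.Frame Cfsg.Agent.Omega.NOThreeL

universe u

/-- **`RTreeF.NotFFM K`**. -/
theorem notFFM (K : Cls.{u}) : RTreeF.NotFFM K := RTreeF.NotFFM.of_G NO3b.BasePt.Done.notFFG

/-- **`RRed.TCR K`**: the smallest shape of box R. -/
theorem tcr (K : Cls.{u}) : RRed.TCR K := RRed.tcr_of ML.KnownAll.mlk KL.NoInp.noInp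

/-- The last open sockets of the leaf NO-3L (box R, not (A), `V*` FF). -/
structure OpenB (K : Cls.{u}) : Prop where
  /-- `RR S = 1`, `|Z| = 4`, `Thin S`, some `|V_P| ≠ 8`, (L2) -/
  four : RRed.GlueSig.FourOf K RRed.GlueSig.FBF.{u}
  /-- `RR S = 1`, some `|Z : C_Z(P)| ≥ 4` -/
  wide : RRed.GlueSig.WideAll K RRed.GlueSig.FBF.{u}
  /-- `RR S ≠ 1`, (L2) if `Thin S` -/
  br : RRed.GlueSig.BrTOf K RRed.GlueSig.FBF.{u}

/-- **The leaf NO-3L** from `Ext` and the three sockets of box R. -/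
theorem nodeNO3L_done {K : Cls.{u}} (hE : ML.Ex.Two.Ext.{u, u}) (h : OpenB K) : FrameNOFF.NodeNO3L K :=
  NO3LMain.nodeNO3L_sig ML.KnownAll.mlk hE (notFFM K) (tcr K) h.four h.wide h.br

/-- **The leaf NO-3L** from the three sockets of box R. -/
theorem OpenB.node {K : Cls.{u}} (h : OpenB K) : FrameNOFF.NodeNO3L K := nodeNO3L_done ML.Ex.Two.ext h

end Cfsg.Agent.Omega.Node.NO3LDone

end

section


/-!
# The leaf NO-3L over a refined (RC')

`Ref G S` : any property with `RBF S → Ref G S → RR S = 1`.  `OpenRef K Ref` : the three sockets of helper858's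
`RRed/GlueRef` and this implication; **`OpenRef.node`** : the leaf NO-3L, no other hypothesis.
-/

set_option autoImplicit false

namespace Cfsg.Agent.Omega.Node.NO3LRef

open Cfsg.Agent.Omega.Frame Cfsg.Agent.Omega.NOThreeL
open Cfsg.Agent.Omega.NOThreeL.RRed.GlueSig

universe u

/-- The last open sockets of the leaf NO-3L (box R, not (A), `V*` FF), refined by `Ref`. -/
structure OpenRef (K : Cls.{u}) (Ref : Fr.{u}) : Prop where
  /-- `Ref` implies `RR S = 1` -/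
  rr : ∀ (G : Type u) [Group G] [Finite G] (S : Sylow 2 G), RTreeF.RBF S → Ref G S →
    RZ.RR (S : Subgroup G) = ⊥
  /-- `Ref`, `|Z| = 4`, `Thin S`, some `|V_P| ≠ 8`, (L2) -/
  four : RRed.GlueSig.FourOf K (RRed.GlueSig.FBR Ref)
  /-- `Ref`, some `|Z : C_Z(P)| ≥ 4` -/
  wide : RRed.GlueSig.WideAll K (RRed.GlueSig.FBR Ref)
  /-- not `Ref`, (L2) if `Thin S` -/
  nr : RRed.GlueSig.NrOf K Ref

/-- `SigTOf K FBF` -/
theorem sigT (K : Cls.{u}) : RRed.GlueSig.SigTOf K RRed.GlueSig.FBF.{u} :=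
  RRed.GlueSig.SigTOf.mono RRed.GlueSig.toRB
    (RRed.GlueSig.sigTOf_of_rsig (Sigma.Rank.rsigT ML.KnownAll.mlk ML.Ex.Two.ext))

/-- `SmOf K FBF` -/
theorem smOf (K : Cls.{u}) : RRed.GlueSig.SmOf K RRed.GlueSig.FBF.{u} :=
  RRed.GlueSig.SmOf.mono RRed.GlueSig.toRB (RRed.GlueSig.smOf (NO3LDone.tcr K))

/-- `RBzF K` -/
theorem OpenRef.rbz {K : Cls.{u}} {Ref : Fr.{u}} (h : OpenRef K Ref) : RTreeF.RBzF K :=
  RRed.GlueSig.rbzF_ref h.rr (sigT K) (smOf K) h.four h.wide h.nr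

/-- `RBcF K` -/
theorem OpenRef.rbc {K : Cls.{u}} {Ref : Fr.{u}} (h : OpenRef K Ref) : RTreeF.RBcF K :=
  RRed.GlueSig.rbcF_ref h.rr (sigT K) (smOf K) h.four h.wide h.nr

/-- **The leaf NO-3L** from the three refined sockets of box R. -/
theorem OpenRef.node {K : Cls.{u}} {Ref : Fr.{u}} (h : OpenRef K Ref) : FrameNOFF.NodeNO3L K :=
  NO3LMain.nodeNO3L_openF (NO3LDone.notFFM K) (NO3LMain.raBig K) h.rbz h.rbc

end Cfsg.Agent.Omega.Node.NO3LRef

end
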