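import Cfsg.Agent.Mrg.Omega.NOThreeL.Star
import Cfsg.Agent.Mrg.Omega.NOThreeL.AOne
import Cfsg.Agent.Mrg.Omega.NOThreeL.ATwo.MainQ
import Cfsg.Agent.Mrg.Omega.NOThreeL.Merge
import Cfsg.Agent.Mrg.Omega.NOThreeL.AFour.Final
import Cfsg.Agent.Mrg.Omega.NOThreeL.NF.Final
import Cfsg.Agent.Mrg.Omega.NOThreeL.Low.Final
import Cfsg.Agent.Mrg.Omega.NOThreeL.RTreeF
import Cfsg.Agent.Mrg.Omega.NOThreeL.RLow.Final
import Cfsg.Agent.Mrg.Omega.FFBr.Final
import Cfsg.Agent.Mrg.Omega.NOThreeL.RF.Final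
import Cfsg.Agent.Mrg.Omega.NOThreeL.KTwo.End
import Cfsg.Agent.Mrg.Omega.NOThreeL.Sigma.Rank
import Cfsg.Agent.Mrg.Omega.NOThreeL.RRed.Line
import Cfsg.Agent.Mrg.Omega.NO3b.BasePt.FamG
import Cfsg.Agent.Mrg.Omega.NO3b.ExEnd.Final


/-!
# The leaf NO-3L: current state (assembler helper597)

* `nodeNO3L_open` : from the two open sockets `NotFFG` (common with NO-3S) and `RG`. Plugged in: `A1` (helper863),
  `A2` (helper69), `A3` (helper823), `A4` (helper884), `VF` = THEOREM NF (helper863, 770, 845, 924), `LOW` = THEOREM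
  LOW (`NOThreeL/Low`, helper597, 368, 223, 920, 934, 661, 528, 342, 700, 770, 876, 652);
* `nodeNO3L_openF` : the same from the weakest sockets: `NotFFM` (`Data`, not (A), `V*` not FF, `V* ≤ Q`), `RAbig`,
  `RBzF`, `RBcF` (box R, `V*` FF); THEOREM R-LOW (`RLow/Final.lean`) is plugged in;
* `raBig` : `RTree.RAbig K` (`NsF`: helper162, 295, 368, 322, 837, 835, 799, ...; `NsOne`: helper761, 858, ...);
* **`nodeNO3L_sig`** : the leaf from `MLK`, `Ext` and `NotFFM`, `TCR` (the smallest shape), `FourOf`, `WideAll`,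
  `BrTOf` (all with `V*` FF); THEOREM SIGMA for `Thin S` (helper739, 863, 636, ...) is plugged in;
* **`nodeNO3L_x`** : the same with `NotFFM` replaced by `AbsP` (`NotFFG` = `ExEnd.notFFG_of_absP` (helper111) +
  `BasePt.basePoint` (helper823, 957, 697, 25, 255, 556, 383, 626, 235, 811, 506, 826, ...));
* `nodeNO3L`, `nodeNO3L_caseB`, `nodeNO3L_merge` : the older forms (kept for the top of the tree).
-/

set_option autoImplicit false

namespace Cfsg.Agent.Omega.Node.NO3LMain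

open Cfsg.Agent.Omega.Frame Cfsg.Agent.Omega.NOThreeL

universe u

/-- Case (A) from its open sockets. -/
theorem caseA {K : Cls.{u}} (a4 : Main.A4 K) : Main.CaseAS K :=
  Main.caseA_of FFBr.ffthm (AOne.a1 K) (ATwo.a2 K) (AThree.a3 K) a4

/-- **The leaf NO-3L from its open sockets** (not (A) as one socket). -/
theorem nodeNO3L_caseB {K : Cls.{u}} (r : Main.R K) (a4 : Main.A4 K)
    (b : Main.CaseB K) : FrameNOFF.NodeNO3L K :=
  Main.nodeNO3L_of r (caseA a4) b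

/-- **The leaf NO-3L from its open sockets.** -/
theorem nodeNO3L {K : Cls.{u}} (r : Main.R K) (a4 : Main.A4 K)
    (b1 : Main.B1 K) (b2 : Main.B2 K) (b3 : Main.B3 K) : FrameNOFF.NodeNO3L K :=
  nodeNO3L_caseB r a4 (Main.caseB_of b1 b2 b3)

/-- **The leaf NO-3L, not (A) and R from the common frame with NO-3S.NotFF.** -/
theorem nodeNO3L_merge {K : Cls.{u}} (a4 : Main.A4 K) (h : Merge.NotFFG K) (vf : Merge.VF.{u})
    (low : Merge.LOW K) (r : Merge.RG K) : FrameNOFF.NodeNO3L K :=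
  nodeNO3L_caseB (Merge.r_of h r) a4 (Merge.caseB_of h vf low)

/-- **NO-3L with `C_Z(P) = 1` for all `P ∈ P*(S)`** (the complement of box R) from `NotFFG` alone. -/
theorem caseB {K : Cls.{u}} (h : Merge.NotFFG K) : Main.CaseB K :=
  Merge.caseB_of h NF.vf (Low.low_all K)

/-- The open sockets of the leaf NO-3L. -/
structure Open (K : Cls.{u}) : Prop where
  /-- common with NO-3S -/
  notFFG : Merge.NotFFG K
  /-- box R: `C_Z(P) ≠ 1` for some `P ∈ P*(S)`, `V*` FF or `V* ≰ Q` -/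
  rg : Merge.RG K

/-- **The leaf NO-3L from its open sockets.** -/
theorem nodeNO3L_open {K : Cls.{u}} (h : Merge.NotFFG K) (r : Merge.RG K) : FrameNOFF.NodeNO3L K :=
  nodeNO3L_merge (AFour.a4 K) h NF.vf (Low.low_all K) r

/-- **The leaf NO-3L from its open sockets.** -/
theorem Open.node {K : Cls.{u}} (h : Open K) : FrameNOFF.NodeNO3L K := nodeNO3L_open h.notFFG h.rg

/-! ### The weakest sockets (THEOREM LOW and THEOREM R-LOW plugged in) -/

/-- The open sockets of the leaf NO-3L, weakest forms. -/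
structure OpenF (K : Cls.{u}) : Prop where
  /-- `V*` not FF, `V* ≤ Q` -/
  notFFM : RTreeF.NotFFM K
  /-- box R, case (A) -/
  raBig : RTree.RAbig K
  /-- box R, not (A), `V*` FF, (RC') fails -/
  rbz : RTreeF.RBzF K
  /-- box R, not (A), `V*` FF, (RC') -/
  rbc : RTreeF.RBcF K

/-- **The leaf NO-3L from its weakest open sockets.** -/
theorem nodeNO3L_openF {K : Cls.{u}} (h : RTreeF.NotFFM K) (hq : RTree.RAbig K)
    (hz : RTreeF.RBzF K) (hc : RTreeF.RBcF K) : FrameNOFF.NodeNO3L K :=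
  nodeNO3L_caseB (RTreeF.r_of RLow.parts h hq hz hc) (AFour.a4 K) (RTreeF.caseB_of h)

/-- **Box R (the socket `Merge.RG`) from its weakest open sockets.** -/
theorem rg_openF {K : Cls.{u}} (hq : RTree.RAbig K) (hz : RTreeF.RBzF K) (hc : RTreeF.RBcF K) : Merge.RG K :=
  RTreeF.rg_of RLow.parts hq hz hc

/-- **The leaf NO-3L from its weakest open sockets.** -/
theorem OpenF.node {K : Cls.{u}} (h : OpenF K) : FrameNOFF.NodeNO3L K :=
  nodeNO3L_openF h.notFFM h.raBig h.rbz h.rbc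

/-! ### Case (A) of box R closed, THEOREM SIGMA plugged in -/

/-- **`RTree.RAbig K`** : case (A) of box R. -/
theorem raBig (K : Cls.{u}) : RTree.RAbig K := RRed.GlueSig.raBig_of (RTreeNsF.natBig_of_nsF RF.nsF)

/-- The open sockets of the leaf NO-3L (besides `MLK`, `Ext`). -/
structure OpenSig (K : Cls.{u}) : Prop where
  /-- `V*` not FF, `V* ≤ Q` -/
  notFFM : RTreeF.NotFFM K
  /-- box R, the smallest shape: the frame of CARD #18791 -/
  tcr : RRed.TCR K
  /-- box R, `V*` FF, `RR S = 1`, `|Z| = 4`, `Thin S`, some `|V_P| ≠ 8` -/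
  four : RRed.GlueSig.FourOf K RRed.GlueSig.FBF.{u}
  /-- box R, `V*` FF, `RR S = 1`, some `|Z : C_Z(P)| ≥ 4` -/
  wide : RRed.GlueSig.WideAll K RRed.GlueSig.FBF.{u}
  /-- box R, `V*` FF, `RR S ≠ 1` -/
  br : RRed.GlueSig.BrTOf K RRed.GlueSig.FBF.{u}

/-- **The leaf NO-3L from its open sockets**, THEOREM SIGMA plugged in. -/
theorem nodeNO3L_sig {K : Cls.{u}} (ml : ML.Final.MLK.{u, u}) (hE : ML.Ex.Two.Ext.{u, u})
    (h : RTreeF.NotFFM K) (hT : RRed.TCR K) (h4 : RRed.GlueSig.FourOf K RRed.GlueSig.FBF.{u})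
    (hw : RRed.GlueSig.WideAll K RRed.GlueSig.FBF.{u}) (hr : RRed.GlueSig.BrTOf K RRed.GlueSig.FBF.{u}) :
    FrameNOFF.NodeNO3L K := by
  have hσ : RRed.GlueSig.SigTOf K RRed.GlueSig.FBF.{u} :=
    RRed.GlueSig.SigTOf.mono RRed.GlueSig.toRB (RRed.GlueSig.sigTOf_of_rsig (Sigma.Rank.rsigT ml hE))
  have hs : RRed.GlueSig.SmOf K RRed.GlueSig.FBF.{u} :=
    RRed.GlueSig.SmOf.mono RRed.GlueSig.toRB (RRed.GlueSig.smOf hT)
  exact nodeNO3L_openF h (raBig K) (RRed.GlueSig.rbzFT_sig hσ hs h4 hw hr) (RRed.GlueSig.rbcFT_sig hσ hs h4 hw)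

/-- **The leaf NO-3L from its open sockets**, THEOREM SIGMA plugged in. -/
theorem OpenSig.node {K : Cls.{u}} (ml : ML.Final.MLK.{u, u}) (hE : ML.Ex.Two.Ext.{u, u}) (h : OpenSig K) :
    FrameNOFF.NodeNO3L K := nodeNO3L_sig ml hE h.notFFM h.tcr h.four h.wide h.br

/-! ### `NotFFG` closed modulo `AbsP` -/

/-- **`Merge.NotFFG K`** from `AbsP` (the abstract exact end). -/
theorem notFFG {K : Cls.{u}} (ml : ML.Final.MLK.{u, u}) (hX : NO3b.EndX.AbsP.{u, u}) : Merge.NotFFG K :=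
  NO3b.ExEnd.notFFG_of_absP ml hX NO3b.BasePt.basePoint

/-- **`RTreeF.NotFFM K`** from `AbsP`. -/
theorem notFFM {K : Cls.{u}} (ml : ML.Final.MLK.{u, u}) (hX : NO3b.EndX.AbsP.{u, u}) : RTreeF.NotFFM K :=
  RTreeF.NotFFM.of_G (notFFG ml hX)

/-- The open sockets of the leaf NO-3L about box R (besides `MLK`, `Ext`, `AbsP`). -/
structure OpenR (K : Cls.{u}) : Prop where
  /-- box R, the smallest shape: the frame of CARD #18791 -/
  tcr : RRed.TCR K
  /-- box R, `V*` FF, `RR S = 1`, `|Z| = 4`, `Thin S`, some `|V_P| ≠ 8` -/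
  four : RRed.GlueSig.FourOf K RRed.GlueSig.FBF.{u}
  /-- box R, `V*` FF, `RR S = 1`, some `|Z : C_Z(P)| ≥ 4` -/
  wide : RRed.GlueSig.WideAll K RRed.GlueSig.FBF.{u}
  /-- box R, `V*` FF, `RR S ≠ 1` -/
  br : RRed.GlueSig.BrTOf K RRed.GlueSig.FBF.{u}

/-- **The leaf NO-3L** from `MLK`, `Ext`, `AbsP` and the four sockets of box R. -/
theorem nodeNO3L_x {K : Cls.{u}} (ml : ML.Final.MLK.{u, u}) (hE : ML.Ex.Two.Ext.{u, u})
    (hX : NO3b.EndX.AbsP.{u, u}) (h : OpenR K) : FrameNOFF.NodeNO3L K :=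
  nodeNO3L_sig ml hE (notFFM ml hX) h.tcr h.four h.wide h.br

end Cfsg.Agent.Omega.Node.NO3LMain
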