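import Cfsg.Agent.Mrg.Omega.Landed
import Cfsg.Agent.Mrg.Omega.Node.NO3LDone
import Cfsg.Agent.Mrg.Omega.NOThreeL.RRed.EOneTr
import Cfsg.Agent.Mrg.Omega.NOThreeL.RRed.WideTree
import Cfsg.Agent.Mrg.Omega.NOThreeL.RRed.ClassThm
import Cfsg.Agent.Mrg.Omega.NOThreeL.RRed.LeftData
import Cfsg.Agent.Mrg.Omega.NOThreeL.RRed.WLeftOne
import Cfsg.Agent.Mrg.Omega.NOThreeL.RRed.WLeftBase
import Cfsg.Agent.Mrg.Omega.NOThreeL.RRed.WRun
import Cfsg.Agent.Mrg.Omega.NOThreeL.RRed.Blk.AsmNBs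
import Cfsg.Agent.Mrg.Omega.NOThreeL.RRed.WLeftFldEnd
import Cfsg.Agent.Mrg.Omega.NOThreeL.RRed.HBadNat
import Cfsg.Agent.Mrg.Omega.NOThreeL.RRed.Blk.AsmLeftBlk
import Cfsg.Agent.Mrg.Omega.NOThreeL.RRed.WOneSTop
import Cfsg.Agent.Mrg.Omega.NO3b.EndX.AbsAll
import Cfsg.Agent.Mrg.Omega.KL.StarM.Done


/-!
# The leaf NO-3L and its open sockets (assembler: helper597)

`Ref := E1Fr` (`C_Z(E₁) = 1`, helper616 `RRed/EOneDef`), `BF := FBR E1Fr` (`RBF S ∧ E1S S`); the tree of box R with `E1S`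
is `RRed/WideTree` v5 (helper585, 699) for `FourOf` and `WideAll` together.

* `OpenR K` : the open sockets;  **`OpenR.node (L : Landed) : OpenR K → NodeNO3L K`**;
* `OpenR.four`, `OpenR.wide`, `OpenR.toRef` : the sockets of `Node/NO3LRef`.

When a socket is proved its field is deleted here and the theorem is plugged below. Plugged: `rr` (helper616), `cm`
(`CI.cmThm`, helper241, 732), `perm` (helper540, 278), `leftOne` (helper958), `oneOne` (helper966, 982, 557), `run` (helper391,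
820), `oneBlk` (helper163, 168, 208, 374, 877 et al.), `leftFld` (helper19, 916, 410, 401, 853),
`all` (helper863, 314, 329), `blk` (helper283, 163 et al.), `oneS`
(helper460, 827, 566, 343, 733, 440 et al.).
-/

set_option autoImplicit false

namespace Cfsg.Agent.Omega.Node.NO3LOpen

open Cfsg.Agent.Omega.Frame Cfsg.Agent.Omega.NOThreeL
open Cfsg.Agent.Omega.NOThreeL.RRed Cfsg.Agent.Omega.NOThreeL.RRed.GlueSig
open Cfsg.Agent.Omega.Landed (Landed)

universe u

/-- `RBF S ∧ E1S S` -/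
abbrev BF : Fr.{u} := FBR EOne.E1Fr.{u}

theorem toRB (G : Type u) [Group G] [Finite G] (S : Sylow 2 G) (h : BF G S) : RTree.RB S := h.1.toRB

/-- `E1S S` implies `RR S = 1` (helper616) -/
theorem rr (G : Type u) [Group G] [Finite G] (S : Sylow 2 G) (h : RTreeF.RBF S) (he : EOne.E1Fr G S) :
    RZ.RR (S : Subgroup G) = ⊥ := EOne.rr_of_e1s h.toRB he

/-- **The open sockets of the leaf NO-3L.** -/
structure OpenR (K : Cls.{u}) : Prop where
  /-- `C_Z(E₁) ≠ 1` (helper455, 652, 820, 568) -/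
  nr : NrOf K EOne.E1Fr
  /-- some `z` is moved by inactive `P` only (helper811) -/
  noMv : WideTree.WNoMv K BF
  /-- `≥ 3` blocks (helper848, 583) -/
  leftMany : WideTree.WLeftMany K BF
  /-- one class, two blocks (helper483, 381, 223, 529) -/
  oneTwo : WideTree.WOneTwo K BF
  /-- one class, `≥ 3` blocks (helper51, 461, 848) -/
  oneMany : WideTree.WOneMany K BF

variable {K : Cls.{u}}

/-- `≥ 2` classes -/
theorem OpenR.mul (L : Landed.{u}) (I : OpenR K) : WideTree.WMul K BF :=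
  WideTree.wMul_of Blk.AsmLeftBlk.leftBlk (LeftAllOf.leftAll L.mlk BF) (LeftPermPlug.leftPerm BF)
    (WideTree.wRun L.mlk K BF) (WLeft.wLeftOne L.mlk L.ext K BF)
    (WLF.wLeftFld L.mlk L.ext (KL.StarM.noInpM_of L.mlk) K BF) I.leftMany

/-- one class -/
theorem OpenR.one (L : Landed.{u}) (I : OpenR K) : WideTree.WOne K BF :=
  WideTree.wOne_of WideTree.oneBlk (WideTree.wOneS L.mlk L.ext (NO3b.EndX.absP_all L.mlk L.rows)) (WOneOne.wOneOne K BF) I.oneTwo I.oneMany

/-- everything over `Wide S` -/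
theorem OpenR.known (L : Landed.{u}) (I : OpenR K) :
    ∀ (G : Type u) [Group G] [Finite G], K G → ∀ (S : Sylow 2 G), BF G S → WideTree.Wide S → IsKnownSimple' G :=
  WideTree.all_of CI.cmThm I.noMv (I.mul L) (I.one L)

theorem OpenR.wide (L : Landed.{u}) (I : OpenR K) : WideAll K BF :=
  fun G _ _ hK S hB hr hwd => I.known L G hK S hB { toRB := toRB G S hB, rr := hr, wd := Or.inl hwd }

theorem OpenR.four (L : Landed.{u}) (I : OpenR K) : FourOf K BF :=
  fun G _ _ hK S hB hr _ hz hn _ => I.known L G hK S hB { toRB := toRB G S hB, rr := hr, wd := Or.inr ⟨hz, hn⟩ }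

theorem OpenR.toRef (L : Landed.{u}) (I : OpenR K) : NO3LRef.OpenRef K EOne.E1Fr where
  rr := rr
  four := I.four L
  wide := I.wide L
  nr := I.nr

/-- **The leaf NO-3L from its open sockets.** -/
theorem OpenR.node (L : Landed.{u}) (I : OpenR K) : FrameNOFF.NodeNO3L K := (I.toRef L).node

end Cfsg.Agent.Omega.Node.NO3LOpen
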