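import Cfsg.Agent.Mrg.Omega.Node.NO3SOpen
import Cfsg.Agent.Mrg.Omega.Node.OffNOf
import Cfsg.Agent.Mrg.Omega.NO3S.CaseLW.QWHz
import Cfsg.Agent.Mrg.Omega.CaseLQ.FiveTor
import Cfsg.Agent.Mrg.Omega.Node.NoWFiveYFive


/-!
# The leaf NO-3S is closed

* `offN` : THEOREM L(q) over `MulL` (helper498, 291, 276, 993, 555 and others);
* `openL_of : MLK → Y5Of → OpenL K`;
* **`openL : Landed → OpenL K`**, **`node : Landed → NodeNO3S K`**, for every class `K`.
-/

set_option autoImplicit false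

namespace Cfsg.Agent.Omega.NO3S

open Cfsg Cfsg.Agent.Omega.Frame Cfsg.Agent.Omega.FrameNOFF

universe u

variable {K : Cls.{u}}

/-- **THEOREM L(q)** over `MulL`. -/
theorem offN (hML : ML.Final.MLK.{u, u}) : EK3.QL.OffNK K :=
  Node.OffNOf.offNK_of fun _ _ _ _ _ _ _ _ _ _ _ _ _ _ _ _ _ h => CaseLW.QWHz.hFam h hML

theorem openL_of (hML : ML.Final.MLK.{u, u}) (h5 : Node.NoWFivePlug.Y5Of.{u}) : OpenL K where
  offN := offN hML
  torS := CaseLQ.FiveI.torSOf
  y5 := h5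

/-- **No input of the leaf NO-3S is open.** -/
theorem openL (L : Cfsg.Agent.Omega.Landed.Landed.{u}) (K : Cls.{u}) : OpenL K :=
  openL_of L.mlk Node.NoWFiveYFive.y5Of

/-- **The leaf NO-3S.** -/
theorem node (L : Cfsg.Agent.Omega.Landed.Landed.{u}) (K : Cls.{u}) : NodeNO3S K :=
  (openL L K).node (landed_of L)

end Cfsg.Agent.Omega.NO3S
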