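import Cfsg.Agent.Mrg.Omega.Node.NoWFiveLin
import Cfsg.Agent.Mrg.Omega.OM.LowT.TwoMain
import Cfsg.Agent.Mrg.Omega.OM.LowT.LinGen

section


/-!
# NoW for one `S₅`, case (L), finite stage: `J(S) ≤ O₂(Y)` for every weird `Y` with (LIN)

* `ln_reindex` : reindexing of `SWT.Ln`;
* **`fin_of`** : over `SymL .. 1 2`, `FiveL S P p`: a weird `Y` (`WdF`) with `J(S) ≰ O₂(Y)` and `LinH S P B Y 0` does not
  exist;
* `finF_of` : the socket `FinF K` from (LIN).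
-/

set_option autoImplicit false
set_option linter.unusedSectionVars false

namespace Cfsg.Agent.Omega.Node.NoWFiveFin

open Subgroup Cfsg Cfsg.Agent.ZN.ChoiceBase
open Cfsg.Agent.ZN.ChoiceSit (Syl)
open Cfsg.Agent.ZN (jj zc zl o2)
open Cfsg.Agent.MinSimple.MinParabolic (IsMinPar)
open Cfsg.Agent.Omega.NO3S.Level (nxt CaseL lev lev_isLev)
open Cfsg.Agent.Omega.Frame (Cls)
open Cfsg.Agent.Omega.NTwo
open Cfsg.Agent.Omega.NO3S.Sym.Light (FiveL)
open Cfsg.Agent.Omega.NO3S.Sym.LowFive (Id5 exists_id5 frl_reindex)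
open Cfsg.Agent.Omega.Node.MultiOf (NLoc)
open Cfsg.Agent.Omega.Node.MulX (SymL)
open Cfsg.Agent.Omega.Node.NoWFiveSel
open Cfsg.Agent.Omega.Node.NoWFiveLin (lnS eqBT)
open Cfsg.Agent.Omega.OM
open Cfsg.Agent.Omega.OM.SWT (Ln LV nL BT)
open Cfsg.Agent.Omega.OM.LowT (LinH)

universe u

variable {G : Type u} [Group G] [Finite G] {S : Sylow 2 G} {P B ZJ : Subgroup G} {ι : Type}
  {L W Z C A : ι → Subgroup G} {p : Fin 5 → G} {Y : Subgroup G}

/-- reindexing -/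
theorem ln_reindex {κ : Type} {n : LV S} {q : ℕ} (h : Ln P n L W Z C A q) (e : κ ≃ ι) :
    Ln P n (L ∘ e) (W ∘ e) (Z ∘ e) (C ∘ e) (A ∘ e) q where
  hyp := h.hyp
  le := h.le
  fr := frl_reindex h.fr e
  two := fun i => by
    obtain ⟨j, hj⟩ := h.two (e i)
    exact ⟨e.symm j, fun h1 => hj (by rw [← h1, e.apply_symm_apply])⟩

/-- **The finite stage.** -/
theorem fin_of (h : SymL S P B ZJ L W Z C A 1 2) (hp : FiveL S P p) (hw : WdF S P B ZJ p Y)
    (hJ : ¬ jj (S : Subgroup G) ≤ o2 Y) (hlin : LinH S P B Y 0) : False := by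
  have eB := eqBT h
  have := h.fin
  obtain ⟨e, hid⟩ := exists_id5 hp h.fr (h.eB.trans_le inf_le_left) h.two h.eB
  have hln := ln_reindex (lnS h) e
  have hZ : ¬ Y ≤ centralizer (zc (BT (nL h.cl)) : Set G) := by
    rw [← eB, zc_B h]
    exact hw.mv
  rw [eB] at hid hlin
  have hsyl := hw.syl
  have hmin := hw.min
  rw [eB] at hsyl hmin
  have hl : ∀ j, lev (S : Subgroup G) j ≤ (nL h.cl).K → (∀ i < j, lev (S : Subgroup G) i ≤ o2 Y) →
      ¬ lev (S : Subgroup G) j ≤ o2 Y → LinH S P (BT (nL h.cl)) Y j := by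
    intro j _ hlow _
    rcases Nat.eq_zero_or_pos j with rfl | hj
    · exact hlin
    · exact absurd (hlow 0 hj) hJ
  obtain ⟨j, K, N₁, c, τ, ht, hc⟩ := LowT.TwoMain.exists_tor' hln hsyl hmin hw.c2 ⟨0, h.cl.levQ.jjle, hJ⟩ hZ hl
  exact LowT.Five.tor_false hp hid ht (fun R hR => h.cl.o2_le hR) hZ hc

/-- **The socket `FinF K`** from (LIN) -/
theorem finF_of {K : Cls.{u}}
    (hlin : ∀ (G : Type u) [Group G] [Finite G], K G → ∀ (S : Sylow 2 G) (P B ZJ : Subgroup G) (ι : Type)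
      (L W Z C A : ι → Subgroup G), SymL S P B ZJ L W Z C A 1 2 → ∀ p : Fin 5 → G, FiveL S P p →
        ∀ Y : Subgroup G, WdF S P B ZJ p Y → MxF S P B ZJ p Y → ¬ jj (S : Subgroup G) ≤ o2 Y → LinH S P B Y 0) :
    FinF K := by
  intro G _ _ hK S P B ZJ ι L W Z C A hM _ p hp Y hw hm hJ
  exact fin_of hM hp hw hJ (hlin G hK S P B ZJ ι L W Z C A hM p hp Y hw hm hJ)

end Cfsg.Agent.Omega.Node.NoWFiveFin

end

section


/-!
# NoW for one `S₅`, case (L), finite stage: (LIN)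

`linH_sym` : `SymL`, `Y` over `B` with the maximality in the form `hYb` ⊢ `LinH S P B Y j`;
**`linH_five`** : for `WdF`, `MxF` and `¬ lev S j ≤ O₂(Y)`; `linH_zero` : `j = 0`, `¬ J(S) ≤ O₂(Y)`.
-/

set_option autoImplicit false
set_option linter.unusedSectionVars false

namespace Cfsg.Agent.Omega.Node.NoWFiveLin

open Subgroup Cfsg Cfsg.Agent.ZN.ChoiceBase
open Cfsg.Agent.ZN.ChoiceSit (Syl)
open Cfsg.Agent.ZN (jj zc zl o2)
open Cfsg.Agent.MinSimple.MinParabolic (IsMinPar)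
open Cfsg.Agent.Omega.NO3S.Level (nxt CaseL lev lev_wc)
open Cfsg.Agent.Omega.NTwo
open Cfsg.Agent.Omega.Node.MulX (SymL)
open Cfsg.Agent.Omega.Node.NoWFiveSel
open Cfsg.Agent.Omega.OM
open Cfsg.Agent.Omega.OM.SWT (Ln nL BT ZT)
open Cfsg.Agent.Omega.OM.LowT (LinH)

universe u

variable {G : Type u} [Group G] [Finite G] {S : Sylow 2 G} {P B ZJ : Subgroup G} {ι : Type}
  {L W Z C A : ι → Subgroup G} {k m : ℕ} {p : Fin 5 → G} {Y : Subgroup G}

/-- **(LIN)** for `SymL`. -/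
theorem linH_sym (h : SymL S P B ZJ L W Z C A k m) (hT : Syl B Y) (hP : IsMinPar B Y)
    (hc : Y ⊓ centralizer (o2 Y : Set G) ≤ o2 Y) (hZ : ¬ Y ≤ centralizer (ZJ : Set G)) {j : ℕ}
    (hj : lev (S : Subgroup G) j ≤ o2 P) (hlow : ∀ i < j, lev (S : Subgroup G) i ≤ o2 Y)
    (hnj : ¬ lev (S : Subgroup G) j ≤ o2 Y)
    (hYb : ∀ R' : Subgroup G, IsMinPar B R' → R' ≤ Y → R' ≤ normalizer (LevB.BL (S : Subgroup G) j : Set G) →
      R' ≤ normalizer (o2 P : Set G) ∨ R' ≤ centralizer (ZJ : Set G)) : LinH S P B Y j := by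
  have := h.fin
  have hzB : zc B = ZJ := zc_B h
  have cl : CaseL S P := h.cl
  have eB : B = BT (nL cl) := h.eqB
  have eZ : ZJ = ZT (nL cl) := h.eZ
  have hl : Ln P (nL cl) L W Z C A 2 := lnS h
  clear h
  rw [← hzB] at hZ
  clear hzB
  subst eB eZ
  exact LowT.LinGen.linH_of hl rfl (fun g hg => cl.norm_o2_le hg) hT hP hc hZ hj hlow hnj hYb

/-- **(LIN)** for the weird `Y` with `|DX S P Y|` maximal. -/
theorem linH_five (h : SymL S P B ZJ L W Z C A k m) (hw : WdF S P B ZJ p Y) (hmx : MxF S P B ZJ p Y) {j : ℕ}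
    (hj : lev (S : Subgroup G) j ≤ o2 P) (hlow : ∀ i < j, lev (S : Subgroup G) i ≤ o2 Y)
    (hnj : ¬ lev (S : Subgroup G) j ≤ o2 Y) : LinH S P B Y j :=
  linH_sym h hw.syl hw.min hw.c2 hw.mv hj hlow hnj (hYb_five h hw hmx hj hnj)

/-- **(LIN)**, `J(S) ≰ O₂(Y)`. -/
theorem linH_zero (h : SymL S P B ZJ L W Z C A k m) (hw : WdF S P B ZJ p Y) (hmx : MxF S P B ZJ p Y)
    (hnj : ¬ jj (S : Subgroup G) ≤ o2 Y) : LinH S P B Y 0 :=
  linH_five h hw hmx (j := 0) (h.cl.hj P h.cl.pss.par) (fun i hi => absurd hi (Nat.not_lt_zero i)) hnj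

end Cfsg.Agent.Omega.Node.NoWFiveLin

end

section


/-!
# NoW for one `S₅`, case (L): the finite stage is void (`FinF K`)
-/

set_option autoImplicit false

namespace Cfsg.Agent.Omega.Node.NoWFiveFin

open Cfsg.Agent.Omega.Frame (Cls)
open Cfsg.Agent.Omega.Node.NoWFiveSel

universe u

/-- **`FinF K`** -/
theorem finF (K : Cls.{u}) : FinF K :=
  finF_of fun _ _ _ _ _ _ _ _ _ _ _ _ _ _ hM _ _ _ hw hm hJ => NoWFiveLin.linH_zero hM hw hm hJ

end Cfsg.Agent.Omega.Node.NoWFiveFin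

end
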