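import Cfsg.Agent.Mrg.Omega.Node.NoWFiveSel
import Cfsg.Agent.Mrg.Omega.OM.LowT.LinH
import Cfsg.Agent.Mrg.Omega.OM.SWT.CaseLS


/-!
# NoW for one `S₅`, case (L), finite stage: the inputs of (LIN)

* `lnS` : `SymL .. k m` is a ground frame `SWT.Ln P (nL h.cl) .. 2`;
* `hYb_of` : abstract: if `Y` has `|DX S P Y|` maximal in a class `Wd` of minimal parabolics over `B`, then every minimal
  parabolic `R' ≤ Y` over `B` in `N_G(J)` (`J ≤ O₂(P)` weakly closed, `J ≰ O₂(Y)`) normalises `O₂(P)` or is not in the class;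
* **`hYb_five`** : for `WdF`, `MxF`, `J = lev S j`.
-/

set_option autoImplicit false
set_option linter.unusedSectionVars false

namespace Cfsg.Agent.Omega.Node.NoWFiveLin

open Subgroup Cfsg Cfsg.Agent.ZN.ChoiceBase
open Cfsg.Agent.ZN.ChoiceSit (Syl)
open Cfsg.Agent.ZN (jj zc zl o2)
open Cfsg.Agent.MinSimple.MinParabolic (IsMinPar)
open Cfsg.Agent.MinSimple.VModule (le_normalizer_o2 o2_isPGroup le_o2 o2_le)
open Cfsg.Agent.Omega.NO3b.Wc (WC)
open Cfsg.Agent.Omega.NO3S.Level (nxt CaseL lev lev_wc)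
open Cfsg.Agent.Omega.NO3S.RedC (DX wc_DX DX_le DX_le_P DX_le_X le_DX)
open Cfsg.Agent.Omega.NTwo
open Cfsg.Agent.Omega.NO3S.Sym.Light (FiveL)
open Cfsg.Agent.Omega.Node.MulX (SymL)
open Cfsg.Agent.Omega.Node.NoWFiveSel
open Cfsg.Agent.Omega.OM
open Cfsg.Agent.Omega.OM.SWT (Ln nL BT ZT)

universe u

variable {G : Type u} [Group G] [Finite G] {S : Sylow 2 G} {P B ZJ : Subgroup G} {ι : Type}
  {L W Z C A : ι → Subgroup G} {k m : ℕ} {p : Fin 5 → G} {Y : Subgroup G}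

/-! ### The ground frame -/

theorem eqBT (h : SymL S P B ZJ L W Z C A k m) : B = BT (nL h.cl) := h.eqB

theorem eqZT (h : SymL S P B ZJ L W Z C A k m) : ZJ = ZT (nL h.cl) := h.eZ

private theorem frL_congr {ι : Type*} {B B' Q V X X' ZJ ZJ' : Subgroup G} {L W Z C A : ι → Subgroup G} {q : ℕ}
    (h : OM.Lev.Uni.FrL B Q V X ZJ L W Z C A q) (e1 : B = B') (e2 : X = X') (e3 : ZJ = ZJ') :
    OM.Lev.Uni.FrL B' Q V X' ZJ' L W Z C A q := by
  subst e1 e2 e3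
  exact h

/-- `SymL` is a ground frame over the level `O₂(P)`. -/
theorem lnS (h : SymL S P B ZJ L W Z C A k m) : Ln P (nL h.cl) L W Z C A 2 where
  hyp := h.cl.hypN
  le := le_rfl
  fr := frL_congr h.fr (eqBT h) (show zl (S : Subgroup G) P = zc (nL h.cl).K from h.cl.zc_eq.symm) (eqZT h)
  two := h.two

/-! ### The maximality -/

/-- a subgroup over the Sylow 2-subgroup `B` of `Y` has characteristic 2 if `Y` has. -/
theorem char2_sub {R' : Subgroup G} (hY : Syl B Y) (hB : B ≤ R') (hR : R' ≤ Y)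
    (hc : Y ⊓ centralizer (o2 Y : Set G) ≤ o2 Y) : R' ⊓ centralizer (o2 R' : Set G) ≤ o2 R' := by
  have h1 : o2 Y ≤ o2 R' :=
    le_o2 ((ZN.ChoiceSit.o2_le_syl hY).trans hB) (o2_isPGroup _) (hR.trans (le_normalizer_o2 _))
  rintro x ⟨hx, hxc⟩
  exact h1 (hc ⟨hR hx, centralizer_le (by exact_mod_cast h1) hxc⟩)

theorem syl_sub {R' : Subgroup G} (hY : Syl B Y) (hB : B ≤ R') (hR : R' ≤ Y) : Syl B R' :=
  ⟨hB, hY.2.1, fun _ hQ h2 hle => hY.2.2 _ (hQ.trans hR) h2 hle⟩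

/-- **(LIN), the use of the maximality**, general form. -/
theorem hYb_of {Wd : Subgroup G → Prop} {S : Subgroup G} (hSB : B ≤ S) (hQB : o2 P ≤ B) (wQ : WC S (o2 P))
    (hmx : ∀ Y' : Subgroup G, Wd Y' → Nat.card (DX S P Y') ≤ Nat.card (DX S P Y))
    (hY : Syl B Y) {J : Subgroup G} (wJ : WC S J) (hJP : J ≤ o2 P) (hJY : ¬ J ≤ o2 Y) {R' : Subgroup G}
    (hB : B ≤ R') (hR : R' ≤ Y) (hn : R' ≤ normalizer (J : Set G))
    (hW : ¬ o2 P ≤ o2 R' → Wd R') : R' ≤ normalizer (o2 P : Set G) := by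
  have hs := syl_sub hY hB hR
  have h2 : o2 R' ≤ S := (ZN.ChoiceSit.o2_le_syl hs).trans hSB
  by_contra hc
  have hnQ : ¬ o2 P ≤ o2 R' := fun h1 => hc ((le_normalizer_o2 R').trans (NO3S.Level.WC.norm_le wQ h1 h2))
  have hYo : o2 Y ≤ S := (ZN.ChoiceSit.o2_le_syl hY).trans hSB
  have hD : DX S P Y ≤ DX S P R' := by
    refine le_DX (wc_DX S P Y) (DX_le_P _ _ _) ?_
    refine le_o2 (((DX_le_P _ _ _).trans hQB).trans hB) ((o2_isPGroup P).to_le (DX_le_P _ _ _)) ?_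
    exact hR.trans ((le_normalizer_o2 Y).trans (NO3S.Level.WC.norm_le (wc_DX S P Y) (DX_le_X _ _ _) hYo))
  have hJ : J ≤ DX S P R' :=
    le_DX wJ hJP (le_o2 ((hJP.trans hQB).trans hB) ((o2_isPGroup P).to_le hJP) hn)
  have h3 := hmx R' (hW hnQ)
  have h4 : DX S P R' = DX S P Y := (Subgroup.eq_of_le_of_card_ge hD h3).symm
  exact hJY (hJ.trans (h4.le.trans (DX_le_X _ _ _)))

/-- **(LIN), the use of the maximality, one `S₅`.** -/
theorem hYb_five (h : SymL S P B ZJ L W Z C A k m) (hw : WdF S P B ZJ p Y) (hmx : MxF S P B ZJ p Y) {j : ℕ}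
    (hj : lev (S : Subgroup G) j ≤ o2 P) (hnj : ¬ lev (S : Subgroup G) j ≤ o2 Y) :
    ∀ R' : Subgroup G, IsMinPar B R' → R' ≤ Y → R' ≤ normalizer (LevB.BL (S : Subgroup G) j : Set G) →
      R' ≤ normalizer (o2 P : Set G) ∨ R' ≤ centralizer (ZJ : Set G) := by
  intro R' hR' hRY hn
  by_contra hc
  push Not at hc
  obtain ⟨hc1, hc2⟩ := hc
  refine hc1 (hYb_of (Wd := WdF S P B ZJ p) (h.eB.trans_le inf_le_left) h.fr.QB h.cl.wc hmx hw.syl (lev_wc j) hj hnj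
    hR'.le hRY ?_ fun hnQ => ?_)
  · refine hn.trans fun g hg => mem_normalizer_iff_cj.2 ?_
    exact LevD.norm_of_wc (lev_wc j) (S.isPGroup'.to_le (LevB.lb S j).BS) (LevB.lb S j).KB hg
  · exact ⟨hR', syl_sub hw.syl hR'.le hRY, char2_sub hw.syl hR'.le hRY hw.c2, hRY.trans hw.cen, hnQ, hc2⟩

end Cfsg.Agent.Omega.Node.NoWFiveLin
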